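/-
Tits systems: the Bruhat decomposition, its uniqueness, the exchange condition and the
parabolic subgroups of a `Cfsg.BNPair`.
-/
import Mathlib
import Cfsg.Prelude.Def_LieExceptional

set_option autoImplicit false

namespace CfsgLib.Chev.BN

open scoped Pointwise

variable {G : Type*} [Group G] (P : Cfsg.BNPair G)

/-- The double coset `B n B`. -/
abbrev cell (n : G) : Set G := DoubleCoset.doubleCoset n (P.B : Set G) P.B

/-- `n` and `n'` agree modulo `B ∩ N`. -/
def Eqv (n n' : G) : Prop := n⁻¹ * n' ∈ P.B ⊓ P.N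

/-- All letters lie in `S`. -/
def IsWord (l : List G) : Prop := ∀ s ∈ l, s ∈ P.S

/-- The least length of a word in `S` representing `n` modulo `B ∩ N`. -/
noncomputable def len (n : G) : ℕ := sInf {k | ∃ l, IsWord P l ∧ l.length = k ∧ Eqv P l.prod n}

/-- A word is reduced when no shorter word represents the same element modulo `B ∩ N`. -/
def Red (l : List G) : Prop := IsWord P l ∧ len P l.prod = l.length

variable {P}

theorem mem_cell {n g : G} : g ∈ cell P n ↔ ∃ b ∈ P.B, ∃ b' ∈ P.B, g = b * n * b' :=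
  DoubleCoset.mem_doubleCoset

theorem mem_cell_self (n : G) : n ∈ cell P n := DoubleCoset.mem_doubleCoset_self _ _ _

theorem cell_eq_of_mem {n g : G} (h : g ∈ cell P n) : cell P g = cell P n :=
  DoubleCoset.doubleCoset_eq_of_mem h

theorem cell_eq_of_mem₂ {m n g : G} (hm : g ∈ cell P m) (hn : g ∈ cell P n) :
    cell P m = cell P n := (cell_eq_of_mem hm).symm.trans (cell_eq_of_mem hn)

theorem mul_mem_cell {b g n : G} (hb : b ∈ P.B) (hg : g ∈ cell P n) : b * g ∈ cell P n := by
  obtain ⟨b₁, hb₁, b₂, hb₂, rfl⟩ := mem_cell.1 hg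
  exact mem_cell.2 ⟨b * b₁, mul_mem hb hb₁, b₂, hb₂, by group⟩

theorem mem_cell_mul {b g n : G} (hb : b ∈ P.B) (hg : g ∈ cell P n) : g * b ∈ cell P n := by
  obtain ⟨b₁, hb₁, b₂, hb₂, rfl⟩ := mem_cell.1 hg
  exact mem_cell.2 ⟨b₁, hb₁, b₂ * b, mul_mem hb₂ hb, by group⟩

theorem cell_one_subset {g : G} (h : g ∈ cell P 1) : g ∈ P.B := by
  obtain ⟨b₁, hb₁, b₂, hb₂, rfl⟩ := mem_cell.1 h
  simpa using mul_mem hb₁ hb₂

theorem inv_mem_cell {g n : G} (h : g ∈ cell P n) : g⁻¹ ∈ cell P n⁻¹ := by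
  obtain ⟨b₁, hb₁, b₂, hb₂, rfl⟩ := mem_cell.1 h
  exact mem_cell.2 ⟨b₂⁻¹, inv_mem hb₂, b₁⁻¹, inv_mem hb₁, by group⟩

theorem conj_mem_H {n : G} (hn : n ∈ P.N) {t : G} (ht : t ∈ P.B ⊓ P.N) :
    n * t * n⁻¹ ∈ P.B ⊓ P.N :=
  ⟨P.conj_mem n hn t ht, P.N.mul_mem (P.N.mul_mem hn ht.2) (P.N.inv_mem hn)⟩

theorem conj_mem_H' {n : G} (hn : n ∈ P.N) {t : G} (ht : t ∈ P.B ⊓ P.N) :
    n⁻¹ * t * n ∈ P.B ⊓ P.N := by
  simpa using conj_mem_H (inv_mem hn) ht

theorem Eqv.refl (n : G) : Eqv P n n := by simp [Eqv]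

theorem Eqv.symm {a b : G} (h : Eqv P a b) : Eqv P b a := by
  have := inv_mem h; simpa [Eqv] using this

theorem Eqv.trans {a b c : G} (h : Eqv P a b) (h' : Eqv P b c) : Eqv P a c := by
  have := mul_mem h h'; simpa [Eqv, mul_assoc] using this

theorem Eqv.mul_left {a b : G} (h : Eqv P a b) (m : G) : Eqv P (m * a) (m * b) := by
  simpa [Eqv, mul_assoc] using h

theorem Eqv.mul_right {a b m : G} (h : Eqv P a b) (hm : m ∈ P.N) : Eqv P (a * m) (b * m) := by
  have := conj_mem_H' hm h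
  simpa [Eqv, mul_assoc] using this

theorem Eqv.mem_N {a b : G} (h : Eqv P a b) (ha : a ∈ P.N) : b ∈ P.N := by
  have := mul_mem ha h.2; simpa using this

theorem Eqv.cell_eq {a b : G} (h : Eqv P a b) : cell P a = cell P b :=
  (cell_eq_of_mem (mem_cell.2 ⟨1, one_mem _, a⁻¹ * b, h.1, by group⟩)).symm

theorem eqv_of_mem {a b : G} (ha : a ∈ P.N) (hb : b ∈ P.N) (h : a⁻¹ * b ∈ P.B) : Eqv P a b :=
  ⟨h, P.N.mul_mem (P.N.inv_mem ha) hb⟩

theorem eqv_one_iff {n : G} : Eqv P 1 n ↔ n ∈ P.B ⊓ P.N := by simp [Eqv]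

theorem mem_H_mul_eqv {x y : G} (hx : x ∈ P.B ⊓ P.N) (hy : y ∈ P.N) : Eqv P (x * y) y := by
  have := conj_mem_H' hy (inv_mem hx)
  simpa [Eqv, mul_assoc] using this

theorem s_mem_N {s : G} (hs : s ∈ P.S) : s ∈ P.N := P.subset hs

theorem sq_mem_H {s : G} (hs : s ∈ P.S) : s * s ∈ P.B ⊓ P.N :=
  ⟨P.sq_mem s hs, mul_mem (P.subset hs) (P.subset hs)⟩

theorem eqv_inv_self {s : G} (hs : s ∈ P.S) : Eqv P s s⁻¹ := by
  have := inv_mem (sq_mem_H hs); simpa [Eqv] using this

theorem eqv_twice {s n : G} (hs : s ∈ P.S) (hn : n ∈ P.N) : Eqv P (s * (s * n)) n := by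
  rw [← mul_assoc]; exact mem_H_mul_eqv (sq_mem_H hs) hn

theorem s_not_mem_B {s : G} (hs : s ∈ P.S) : s ∉ P.B := by
  intro hb
  refine P.conj_ne s hs (Set.Subset.antisymm ?_ ?_)
  · rintro _ ⟨b, hb', rfl⟩; exact mul_mem (mul_mem hb hb') hb
  · intro c hc
    exact ⟨s⁻¹ * c * s⁻¹, mul_mem (mul_mem (inv_mem hb) hc) (inv_mem hb), by group⟩

theorem IsWord.prod_mem {l : List G} (h : IsWord P l) : l.prod ∈ P.N :=
  list_prod_mem fun x hx => P.subset (h x hx)

theorem IsWord.cons {s : G} {l : List G} (hs : s ∈ P.S) (h : IsWord P l) : IsWord P (s :: l) := by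
  intro x hx; rcases List.mem_cons.1 hx with rfl | hx
  exacts [hs, h x hx]

theorem IsWord.sublist {l m : List G} (h : IsWord P l) (hm : m.Sublist l) : IsWord P m :=
  fun x hx => h x (hm.subset hx)

theorem isWord_nil : IsWord P [] := by intro x hx; simp at hx

/-! ### Words -/

theorem exists_word_subset {J : Set G} (hJ : J ⊆ P.S) {n : G}
    (hn : n ∈ Subgroup.closure J ⊔ (P.B ⊓ P.N)) :
    ∃ l : List G, (∀ x ∈ l, x ∈ J) ∧ Eqv P l.prod n := by
  have e : Subgroup.closure J ⊔ (P.B ⊓ P.N) =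
      Subgroup.closure (J ∪ ((P.B ⊓ P.N : Subgroup G) : Set G)) := by
    rw [Subgroup.closure_union, Subgroup.closure_eq]
  rw [e] at hn
  induction hn using Subgroup.closure_induction_left with
  | one => exact ⟨[], by simp, by simp [Eqv]⟩
  | mul_left x hx y _ ih =>
    obtain ⟨l, hl, hly⟩ := ih
    have hlw : IsWord P l := fun z hz => hJ (hl z hz)
    rcases hx with hx | hx
    · exact ⟨x :: l, by simpa [hx] using hl, by simpa using hly.mul_left x⟩
    · exact ⟨l, hl, hly.trans (mem_H_mul_eqv hx (hly.mem_N hlw.prod_mem)).symm⟩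
  | inv_mul_cancel x hx y _ ih =>
    obtain ⟨l, hl, hly⟩ := ih
    have hlw : IsWord P l := fun z hz => hJ (hl z hz)
    rcases hx with hx | hx
    · refine ⟨x :: l, by simpa [hx] using hl, ?_⟩
      rw [List.prod_cons]
      exact (hly.mul_left x).trans ((eqv_inv_self (hJ hx)).mul_right (hly.mem_N hlw.prod_mem))
    · exact ⟨l, hl, hly.trans (mem_H_mul_eqv (inv_mem hx) (hly.mem_N hlw.prod_mem)).symm⟩

theorem exists_word {n : G} (hn : n ∈ P.N) : ∃ l : List G, IsWord P l ∧ Eqv P l.prod n :=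
  exists_word_subset (subset_refl _) (by rw [P.closure_sup]; exact hn)

/-! ### Length -/

theorem len_le_of_word {l : List G} {n : G} (hl : IsWord P l) (h : Eqv P l.prod n) :
    len P n ≤ l.length := Nat.sInf_le ⟨l, hl, rfl, h⟩

theorem exists_len {n : G} (hn : n ∈ P.N) :
    ∃ l, IsWord P l ∧ l.length = len P n ∧ Eqv P l.prod n := by
  have hne : {k | ∃ l, IsWord P l ∧ l.length = k ∧ Eqv P l.prod n}.Nonempty := by
    obtain ⟨l, hl, h⟩ := exists_word hn
    exact ⟨l.length, l, hl, rfl, h⟩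
  exact Nat.sInf_mem hne

theorem len_congr {a b : G} (h : Eqv P a b) : len P a = len P b := by
  have : {k | ∃ l, IsWord P l ∧ l.length = k ∧ Eqv P l.prod a} =
      {k | ∃ l, IsWord P l ∧ l.length = k ∧ Eqv P l.prod b} := by
    ext k
    exact ⟨fun ⟨l, h1, h2, h3⟩ => ⟨l, h1, h2, h3.trans h⟩,
      fun ⟨l, h1, h2, h3⟩ => ⟨l, h1, h2, h3.trans h.symm⟩⟩
  unfold len; rw [this]

theorem len_eq_zero_iff {n : G} (hn : n ∈ P.N) : len P n = 0 ↔ n ∈ P.B := by
  constructor
  · intro h
    obtain ⟨l, -, hlen, h'⟩ := exists_len hn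
    rw [h, List.length_eq_zero_iff] at hlen
    subst hlen
    exact (eqv_one_iff.1 (by simpa using h')).1
  · intro h
    have := len_le_of_word isWord_nil (n := n) (by simpa using eqv_one_iff.2 ⟨h, hn⟩)
    simpa using this

theorem len_mul_le {s n : G} (hs : s ∈ P.S) (hn : n ∈ P.N) : len P (s * n) ≤ len P n + 1 := by
  obtain ⟨l, hl, hlen, h⟩ := exists_len hn
  have := len_le_of_word (hl.cons hs) (n := s * n) (by simpa using h.mul_left s)
  simpa [hlen] using this

theorem len_le_mul {s n : G} (hs : s ∈ P.S) (hn : n ∈ P.N) : len P n ≤ len P (s * n) + 1 := by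
  have := len_mul_le hs (mul_mem (s_mem_N hs) hn)
  rwa [len_congr (eqv_twice hs hn)] at this

theorem len_mul_right_le {s n : G} (hs : s ∈ P.S) (hn : n ∈ P.N) :
    len P (n * s) ≤ len P n + 1 := by
  obtain ⟨l, hl, hlen, h⟩ := exists_len hn
  have hw : IsWord P (l ++ [s]) := by
    intro x hx; rcases List.mem_append.1 hx with hx | hx
    · exact hl x hx
    · rw [List.mem_singleton.1 hx]; exact hs
  have := len_le_of_word hw (n := n * s) (by simpa using h.mul_right (s_mem_N hs))
  simpa [hlen] using this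

theorem exists_cons {n : G} (hn : n ∈ P.N) {k : ℕ} (hk : len P n = k + 1) :
    ∃ s ∈ P.S, ∃ m ∈ P.N, len P m = k ∧ Eqv P (s * m) n := by
  obtain ⟨l, hl, hlen, h⟩ := exists_len hn
  obtain ⟨s, l, rfl⟩ : ∃ s l', l = s :: l' := by
    rcases l with - | ⟨s, l⟩
    · simp [hk] at hlen
    · exact ⟨s, l, rfl⟩
  have hs : s ∈ P.S := hl s (by simp)
  have hlw : IsWord P l := hl.sublist (List.sublist_cons_self s l)
  rw [List.prod_cons] at h
  refine ⟨s, hs, l.prod, hlw.prod_mem, ?_, h⟩
  have h1 := len_le_of_word hlw (Eqv.refl (P := P) l.prod)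
  have h2 := len_mul_le hs hlw.prod_mem
  rw [len_congr h, hk] at h2
  simp only [List.length_cons, hk] at hlen
  omega

theorem exists_snoc {n : G} (hn : n ∈ P.N) {k : ℕ} (hk : len P n = k + 1) :
    ∃ s ∈ P.S, ∃ m ∈ P.N, len P m = k ∧ Eqv P (m * s) n := by
  obtain ⟨l, hl, hlen, h⟩ := exists_len hn
  obtain ⟨l, s, rfl⟩ : ∃ l' s, l = l' ++ [s] := by
    rcases List.eq_nil_or_concat l with rfl | ⟨l', s, rfl⟩
    · simp [hk] at hlen
    · exact ⟨l', s, by simp⟩
  have hs : s ∈ P.S := hl s (by simp)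
  have hlw : IsWord P l := hl.sublist (List.sublist_append_left l [s])
  rw [List.prod_append, List.prod_singleton] at h
  refine ⟨s, hs, l.prod, hlw.prod_mem, ?_, h⟩
  have h1 := len_le_of_word hlw (Eqv.refl (P := P) l.prod)
  have h2 := len_mul_right_le hs hlw.prod_mem
  rw [len_congr h, hk] at h2
  simp [hk] at hlen
  omega

/-! ### The double coset conditions -/

theorem step_left {s n b g : G} (hs : s ∈ P.S) (hn : n ∈ P.N) (hb : b ∈ P.B)
    (hg : g ∈ cell P n) : s * b * g ∈ cell P (s * n) ∨ s * b * g ∈ cell P n := by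
  obtain ⟨b₁, hb₁, b₂, hb₂, rfl⟩ := mem_cell.1 hg
  have h := P.mul_mem_union s hs n hn (b * b₁) (mul_mem hb hb₁)
  rw [show s * b * (b₁ * n * b₂) = s * (b * b₁) * n * b₂ by group]
  rcases h with h | h
  · exact Or.inl (mem_cell_mul hb₂ h)
  · exact Or.inr (mem_cell_mul hb₂ h)

theorem step_left' {s n g : G} (hs : s ∈ P.S) (hn : n ∈ P.N) (hg : g ∈ cell P n) :
    s * g ∈ cell P (s * n) ∨ s * g ∈ cell P n := by
  simpa using step_left hs hn (one_mem _) hg

theorem step_left_inv {s n g : G} (hs : s ∈ P.S) (hn : n ∈ P.N) (hg : g ∈ cell P n) :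
    s⁻¹ * g ∈ cell P (s * n) ∨ s⁻¹ * g ∈ cell P n := by
  have := step_left hs hn (inv_mem (P.sq_mem s hs)) hg
  rwa [show s * (s * s)⁻¹ * g = s⁻¹ * g by group] at this

theorem step_right {s n b g : G} (hs : s ∈ P.S) (hn : n ∈ P.N) (hb : b ∈ P.B)
    (hg : g ∈ cell P n) : g * b * s ∈ cell P (n * s) ∨ g * b * s ∈ cell P n := by
  have h := step_left_inv hs (inv_mem hn) (mul_mem_cell (inv_mem hb) (inv_mem_cell hg))
  rcases h with h | h
  · left
    have h' := inv_mem_cell h
    rw [show (s⁻¹ * (b⁻¹ * g⁻¹))⁻¹ = g * b * s by group,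
      show (s * n⁻¹)⁻¹ = n * s⁻¹ by group] at h'
    rwa [((eqv_inv_self hs).mul_left n).cell_eq]
  · right
    have h' := inv_mem_cell h
    rwa [show (s⁻¹ * (b⁻¹ * g⁻¹))⁻¹ = g * b * s by group, inv_inv] at h'

theorem eqv_of_cell_eq_aux (k : ℕ) : ∀ {n n' : G}, n ∈ P.N → n' ∈ P.N → len P n = k →
    k ≤ len P n' → cell P n = cell P n' → Eqv P n n' := by
  induction k with
  | zero =>
    intro n n' hn hn' hk _ hc
    have hnB := (len_eq_zero_iff hn).1 hk
    obtain ⟨b₁, hb₁, b₂, hb₂, e⟩ := mem_cell.1 (hc.symm ▸ mem_cell_self n' : n' ∈ cell P n)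
    exact eqv_of_mem hn hn' (by
      rw [e]; exact mul_mem (inv_mem hnB) (mul_mem (mul_mem hb₁ hnB) hb₂))
  | succ k ih =>
    intro n n' hn hn' hk hle hc
    obtain ⟨s, hs, m, hm, hmk, he⟩ := exists_cons hn hk
    have hmem : s * m ∈ cell P n' := by rw [← hc, ← he.cell_eq]; exact mem_cell_self _
    have h := step_left_inv hs hn' hmem
    rw [inv_mul_cancel_left] at h
    rcases h with h | h
    · have hl := len_le_mul hs hn'
      have := ih hm (mul_mem (s_mem_N hs) hn') hmk (by omega) (cell_eq_of_mem h)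
      exact he.symm.trans ((this.mul_left s).trans (eqv_twice hs hn'))
    · have := len_congr (ih hm hn' hmk (by omega) (cell_eq_of_mem h))
      omega

/-- Uniqueness in the Bruhat decomposition. -/
theorem eqv_of_cell_eq {n n' : G} (hn : n ∈ P.N) (hn' : n' ∈ P.N)
    (hc : cell P n = cell P n') : Eqv P n n' := by
  rcases le_total (len P n) (len P n') with h | h
  · exact eqv_of_cell_eq_aux _ hn hn' rfl h hc
  · exact (eqv_of_cell_eq_aux _ hn' hn rfl h hc.symm).symm

theorem eqv_of_mem_cells {n n' g : G} (hn : n ∈ P.N) (hn' : n' ∈ P.N) (h : g ∈ cell P n)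
    (h' : g ∈ cell P n') : Eqv P n n' := eqv_of_cell_eq hn hn' (cell_eq_of_mem₂ h h')

theorem step_up_aux (k : ℕ) : ∀ {n : G}, n ∈ P.N → len P n = k → ∀ {s : G}, s ∈ P.S →
    k ≤ len P (s * n) → ∀ {b : G}, b ∈ P.B → s * b * n ∈ cell P (s * n) := by
  induction k with
  | zero =>
    intro n hn hk s hs _ b hb
    have hnB := (len_eq_zero_iff hn).1 hk
    rw [← (Eqv.mul_left (eqv_one_iff.2 ⟨hnB, hn⟩) s).cell_eq, mul_one]
    exact mem_cell.2 ⟨1, one_mem _, b * n, mul_mem hb hnB, by group⟩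
  | succ k ih =>
    intro n hn hk s hs hle b hb
    obtain ⟨t, ht, m, hm, hmk, he⟩ := exists_snoc hn hk
    have hsm : s * m ∈ P.N := mul_mem (s_mem_N hs) hm
    have hle' : k ≤ len P (s * m) := by
      by_contra hlt
      have h1 := len_mul_right_le ht hsm
      rw [mul_assoc, len_congr (he.mul_left s)] at h1
      omega
    rcases step_left hs hn hb (mem_cell_self n) with h | h
    · exact h
    exfalso
    obtain ⟨b₁, hb₁, b₂, hb₂, e⟩ := mem_cell.1 (ih hm hmk hs hle' hb)
    have h2 : s * b * (m * t) ∈ cell P n := by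
      have e3 : s * b * n * ((m * t)⁻¹ * n)⁻¹ = s * b * (m * t) := by group
      exact e3 ▸ mem_cell_mul (inv_mem he.1) h
    have h3 : s * b * (m * t) = b₁ * ((s * m) * b₂ * t) := by
      rw [← mul_assoc, e]; group
    rw [h3] at h2
    rcases step_right ht hsm hb₂ (mem_cell_self (s * m)) with h4 | h4
    · have h5 := (eqv_of_mem_cells hn (mul_mem hsm (s_mem_N ht)) h2 (mul_mem_cell hb₁ h4)).trans
        (by rw [mul_assoc]; exact he.mul_left s)
      have h8 := h5.symm.mul_right (inv_mem hn)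
      rw [mul_inv_cancel_right, mul_inv_cancel] at h8
      exact s_not_mem_B hs (eqv_one_iff.1 h8.symm).1
    · have h5 := eqv_of_mem_cells hn hsm h2 (mul_mem_cell hb₁ h4)
      have h6 := len_congr ((h5.mul_left s).trans (eqv_twice hs hm))
      omega

/-- If `s` does not decrease the length of `n`, then `s B n ⊆ B s n B`. -/
theorem step_up {s n b : G} (hs : s ∈ P.S) (hn : n ∈ P.N) (h : len P n ≤ len P (s * n))
    (hb : b ∈ P.B) : s * b * n ∈ cell P (s * n) := step_up_aux _ hn rfl hs h hb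

theorem exists_sbs_mem {s : G} (hs : s ∈ P.S) : ∃ b ∈ P.B, s * b * s ∈ cell P s := by
  by_contra hne
  push Not at hne
  have hall : ∀ b ∈ P.B, s * b * s ∈ P.B := by
    intro b hb
    rcases step_left hs (s_mem_N hs) hb (mem_cell_self s) with h | h
    · rw [← (eqv_one_iff.2 (sq_mem_H hs)).cell_eq] at h
      exact cell_one_subset h
    · exact absurd h (hne b hb)
  refine P.conj_ne s hs (Set.Subset.antisymm ?_ ?_)
  · rintro _ ⟨b, hb, rfl⟩; exact hall b hb
  · intro c hc
    refine ⟨s⁻¹ * c * s⁻¹, ?_, by group⟩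
    have h1 := mul_mem (hall _ (mul_mem (inv_mem (P.sq_mem s hs)) hc))
      (inv_mem (P.sq_mem s hs))
    rwa [show s * ((s * s)⁻¹ * c) * s * (s * s)⁻¹ = s⁻¹ * c * s⁻¹ by group] at h1

theorem len_mul_ne {s n : G} (hs : s ∈ P.S) (hn : n ∈ P.N) : len P (s * n) ≠ len P n := by
  intro heq
  obtain ⟨b, hb, hbs⟩ := exists_sbs_mem hs
  obtain ⟨b₁, hb₁, b₂, hb₂, e⟩ := mem_cell.1 hbs
  have h1 : s * b * (s * n) ∈ cell P n := by
    have := step_up hs (mul_mem (s_mem_N hs) hn) (by rw [len_congr (eqv_twice hs hn)]; omega) hb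
    rwa [(eqv_twice hs hn).cell_eq] at this
  have h2 : s * b * (s * n) ∈ cell P (s * n) := by
    rw [show s * b * (s * n) = b₁ * (s * b₂ * n) by rw [← mul_assoc, e]; group]
    exact mul_mem_cell hb₁ (step_up hs hn heq.ge hb₂)
  have h3 := (eqv_of_mem_cells hn (mul_mem (s_mem_N hs) hn) h1 h2).mul_right (inv_mem hn)
  rw [mul_inv_cancel_right, mul_inv_cancel] at h3
  exact s_not_mem_B hs (eqv_one_iff.1 h3).1

theorem len_up_or_down {s n : G} (hs : s ∈ P.S) (hn : n ∈ P.N) :
    len P (s * n) = len P n + 1 ∨ len P (s * n) + 1 = len P n := by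
  have h1 := len_mul_le hs hn
  have h2 := len_le_mul hs hn
  have h3 := len_mul_ne hs hn
  omega

theorem step_down {s n : G} (hs : s ∈ P.S) (hn : n ∈ P.N) (h : len P (s * n) < len P n) :
    ∃ b ∈ P.B, s * b * n ∈ cell P n := by
  obtain ⟨b, hb, hbs⟩ := exists_sbs_mem hs
  obtain ⟨b₁, hb₁, b₂, hb₂, e⟩ := mem_cell.1 hbs
  have hsn := mul_mem (s_mem_N hs) hn
  have h1 : s * b₂ * (s * n) ∈ cell P n := by
    have := step_up hs hsn (by rw [len_congr (eqv_twice hs hn)]; omega) hb₂
    rwa [(eqv_twice hs hn).cell_eq] at this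
  have h2 : s * b * s * (s * n) ∈ cell P n := by
    rw [e, show b₁ * s * b₂ * (s * n) = b₁ * (s * b₂ * (s * n)) by group]
    exact mul_mem_cell hb₁ h1
  refine ⟨b * (s * s), mul_mem hb (P.sq_mem s hs), ?_⟩
  rwa [show s * (b * (s * s)) * n = s * b * s * (s * n) by group]

/-! ### Exchange and deletion -/

theorem exchange {s : G} (hs : s ∈ P.S) : ∀ {l : List G}, Red P l →
    len P (s * l.prod) < l.length → ∃ i < l.length, Eqv P (s * l.prod) (l.eraseIdx i).prod := by
  intro l
  induction l using List.reverseRecOn with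
  | nil => intro _ h; simp at h
  | append_singleton m t ih =>
    rintro ⟨hw, hred⟩ hlt
    have hmw : IsWord P m := hw.sublist (List.sublist_append_left m [t])
    have ht : t ∈ P.S := hw t (by simp)
    have hm := hmw.prod_mem
    have htN := s_mem_N ht
    simp only [List.prod_append, List.prod_singleton, List.length_append,
      List.length_singleton] at hred hlt ⊢
    have hmred : len P m.prod = m.length := by
      have h1 := len_le_of_word hmw (Eqv.refl (P := P) m.prod)
      have h2 := len_mul_right_le ht hm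
      omega
    have hsm := mul_mem (s_mem_N hs) hm
    rcases len_up_or_down hs hm with hup | hdown
    · refine ⟨m.length, by omega, ?_⟩
      rw [List.eraseIdx_append_of_length_le le_rfl, Nat.sub_self, List.eraseIdx_zero,
        List.tail_cons, List.append_nil]
      obtain ⟨b, hb, hbn⟩ := step_down hs (mul_mem hm htN) (by omega)
      obtain ⟨b₁, hb₁, b₂, hb₂, e⟩ := mem_cell.1 (step_up hs hm (by omega) hb)
      have h3 : s * b * (m.prod * t) = b₁ * ((s * m.prod) * b₂ * t) := by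
        rw [← mul_assoc, e]; group
      rw [h3] at hbn
      rcases step_right ht hsm hb₂ (mem_cell_self (s * m.prod)) with h4 | h4
      · exfalso
        have h5 := eqv_of_mem_cells (mul_mem hm htN) (mul_mem hsm htN) hbn (mul_mem_cell hb₁ h4)
        have h6 := len_congr h5
        rw [mul_assoc] at h6
        omega
      · have h5 := eqv_of_mem_cells (mul_mem hm htN) hsm hbn (mul_mem_cell hb₁ h4)
        exact (h5.mul_left s).trans (eqv_twice hs hm)
    · obtain ⟨i, hi, he⟩ := ih ⟨hmw, hmred⟩ (by omega)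
      refine ⟨i, by omega, ?_⟩
      rw [List.eraseIdx_append_of_lt_length hi, List.prod_append, List.prod_singleton, ← mul_assoc]
      exact he.mul_right htN

theorem red_nil : Red P ([] : List G) :=
  ⟨isWord_nil, by simpa using (len_eq_zero_iff (one_mem P.N)).2 (one_mem _)⟩

theorem Red.tail {s : G} {l : List G} (h : Red P (s :: l)) : Red P l := by
  have hl : IsWord P l := h.1.sublist (List.sublist_cons_self s l)
  have hs : s ∈ P.S := h.1 s (by simp)
  have h1 := len_le_of_word hl (Eqv.refl (P := P) l.prod)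
  have h2 := len_mul_le hs hl.prod_mem
  have h3 := h.2
  simp only [List.prod_cons, List.length_cons] at h3
  exact ⟨hl, by omega⟩

/-- The deletion condition. -/
theorem exists_red_sublist {l : List G} (hl : IsWord P l) :
    ∃ m : List G, m.Sublist l ∧ Red P m ∧ Eqv P m.prod l.prod := by
  induction l with
  | nil => exact ⟨[], List.Sublist.refl _, red_nil, Eqv.refl _⟩
  | cons s l ih =>
    obtain ⟨m, hsub, hred, he⟩ := ih (hl.sublist (List.sublist_cons_self s l))
    have hs : s ∈ P.S := hl s (by simp)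
    rw [List.prod_cons]
    rcases len_up_or_down hs hred.1.prod_mem with hup | hdown
    · refine ⟨s :: m, hsub.cons_cons s, ⟨hred.1.cons hs, ?_⟩, by simpa using he.mul_left s⟩
      rw [List.prod_cons, hup, hred.2, List.length_cons]
    · obtain ⟨i, hi, hie⟩ := exchange hs hred (by rw [← hred.2]; omega)
      refine ⟨m.eraseIdx i, ((List.eraseIdx_sublist m i).trans hsub).cons s,
        ⟨hred.1.sublist (List.eraseIdx_sublist m i), ?_⟩, hie.symm.trans (he.mul_left s)⟩
      rw [← len_congr hie, List.length_eraseIdx_of_lt hi]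
      have := hred.2
      omega

theorem exists_red {n : G} (hn : n ∈ P.N) : ∃ l : List G, Red P l ∧ Eqv P l.prod n := by
  obtain ⟨l, hl, hlen, h⟩ := exists_len hn
  exact ⟨l, ⟨hl, by rw [len_congr h, hlen]⟩, h⟩

/-! ### The subgroups of `N` attached to subsets of `S` -/

theorem exists_red_subset {J : Set G} (hJ : J ⊆ P.S) {n : G}
    (hn : n ∈ Subgroup.closure J ⊔ (P.B ⊓ P.N)) :
    ∃ m : List G, (∀ x ∈ m, x ∈ J) ∧ Red P m ∧ Eqv P m.prod n := by
  obtain ⟨l, hl, he⟩ := exists_word_subset hJ hn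
  obtain ⟨m, hsub, hred, hme⟩ := exists_red_sublist (P := P) (fun x hx => hJ (hl x hx))
  exact ⟨m, fun x hx => hl x (hsub.subset hx), hred, hme.trans he⟩

theorem len_s {s : G} (hs : s ∈ P.S) : len P s = 1 := by
  have h1 := len_mul_le hs (one_mem P.N)
  rw [mul_one, (len_eq_zero_iff (one_mem P.N)).2 (one_mem _)] at h1
  have h2 : len P s ≠ 0 := fun h => s_not_mem_B hs ((len_eq_zero_iff (s_mem_N hs)).1 h)
  omega

/-- A distinguished generator in the subgroup generated by `J` and `B ∩ N` lies in `J`. -/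
theorem s_mem_J {J : Set G} (hJ : J ⊆ P.S) {s : G} (hs : s ∈ P.S)
    (h : s ∈ Subgroup.closure J ⊔ (P.B ⊓ P.N)) : s ∈ J := by
  obtain ⟨m, hm, hred, he⟩ := exists_red_subset hJ h
  have hlen : m.length = 1 := by rw [← hred.2, len_congr he, len_s hs]
  obtain ⟨t, rfl⟩ := List.length_eq_one_iff.1 hlen
  have ht : t ∈ J := hm t (by simp)
  have : t⁻¹ * s ∈ P.B := by simpa [Eqv] using he.1
  rwa [← P.inj t (hJ ht) s hs this]

theorem red_mem_J {J : Set G} (hJ : J ⊆ P.S) : ∀ {l : List G}, Red P l →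
    l.prod ∈ Subgroup.closure J ⊔ (P.B ⊓ P.N) → ∀ x ∈ l, x ∈ J := by
  intro l
  induction l with
  | nil => intro _ _ x hx; simp at hx
  | cons s l ih =>
    intro hred hmem
    obtain ⟨m, hm, hmred, he⟩ := exists_red_subset hJ hmem
    have hs : s ∈ P.S := hred.1 s (by simp)
    have hl := hred.tail
    rw [List.prod_cons] at he hmem
    have h1 : Eqv P (s * m.prod) l.prod := (he.mul_left s).trans (eqv_twice hs hl.1.prod_mem)
    have hlen : m.length = l.length + 1 := by
      have := hred.2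
      simp only [List.prod_cons, List.length_cons] at this
      rw [← hmred.2, len_congr he, this]
    obtain ⟨i, hi, hie⟩ := exchange hs hmred (by rw [len_congr h1, hl.2, hlen]; omega)
    have herase : (m.eraseIdx i).prod ∈ Subgroup.closure J ⊔ (P.B ⊓ P.N) :=
      Subgroup.mem_sup_left (list_prod_mem fun x hx =>
        Subgroup.subset_closure (hm x ((List.eraseIdx_sublist m i).subset hx)))
    have hl' : l.prod ∈ Subgroup.closure J ⊔ (P.B ⊓ P.N) := by
      have := mul_mem herase (Subgroup.mem_sup_right (S := Subgroup.closure J)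
        (hie.symm.trans h1))
      rwa [mul_inv_cancel_left] at this
    have hs' : s ∈ Subgroup.closure J ⊔ (P.B ⊓ P.N) := by
      simpa using mul_mem hmem (inv_mem hl')
    intro x hx
    rcases List.mem_cons.1 hx with rfl | hx
    · exact s_mem_J hJ hs hs'
    · exact ih hl hl' x hx

/-! ### Parabolic subgroups -/

theorem B_le_parabolic (J : Set G) : P.B ≤ P.parabolic J := le_sup_left

theorem J_subset_parabolic {J : Set G} {x : G} (hx : x ∈ J) : x ∈ P.parabolic J :=
  Subgroup.mem_sup_right (Subgroup.subset_closure hx)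

theorem mem_parabolic_iff {J : Set G} (hJ : J ⊆ P.S) {g : G} :
    g ∈ P.parabolic J ↔ ∃ l : List G, (∀ x ∈ l, x ∈ J) ∧ g ∈ cell P l.prod := by
  constructor
  · intro hg
    have e : P.parabolic J = Subgroup.closure ((P.B : Set G) ∪ J) := by
      rw [Cfsg.BNPair.parabolic, Subgroup.closure_union, Subgroup.closure_eq]
    rw [e] at hg
    induction hg using Subgroup.closure_induction_left with
    | one => exact ⟨[], by simp, by simpa using mem_cell_self (P := P) 1⟩
    | mul_left x hx y _ ih =>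
      obtain ⟨l, hl, hy⟩ := ih
      rcases hx with hx | hx
      · exact ⟨l, hl, mul_mem_cell hx hy⟩
      · rcases step_left' (hJ hx) (IsWord.prod_mem fun z hz => hJ (hl z hz)) hy with h | h
        · exact ⟨x :: l, by simpa [hx] using hl, by simpa using h⟩
        · exact ⟨l, hl, h⟩
    | inv_mul_cancel x hx y _ ih =>
      obtain ⟨l, hl, hy⟩ := ih
      rcases hx with hx | hx
      · exact ⟨l, hl, mul_mem_cell (inv_mem hx) hy⟩
      · rcases step_left_inv (hJ hx) (IsWord.prod_mem fun z hz => hJ (hl z hz)) hy with h | h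
        · exact ⟨x :: l, by simpa [hx] using hl, by simpa using h⟩
        · exact ⟨l, hl, h⟩
  · rintro ⟨l, hl, hg⟩
    obtain ⟨b₁, hb₁, b₂, hb₂, rfl⟩ := mem_cell.1 hg
    exact mul_mem (mul_mem (B_le_parabolic J hb₁)
      (list_prod_mem fun x hx => J_subset_parabolic (hl x hx))) (B_le_parabolic J hb₂)

theorem parabolic_S : P.parabolic P.S = ⊤ := by
  refine top_le_iff.1 (P.sup_eq_top ▸ sup_le (B_le_parabolic _) ?_)
  rw [← P.closure_sup]
  exact sup_le le_sup_right (inf_le_left.trans (B_le_parabolic _))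

/-- The Bruhat decomposition. -/
theorem exists_cell (g : G) : ∃ n ∈ P.N, g ∈ cell P n := by
  have hg : g ∈ P.parabolic P.S := by rw [parabolic_S]; exact Subgroup.mem_top g
  obtain ⟨l, hl, hg⟩ := (mem_parabolic_iff (subset_refl _)).1 hg
  exact ⟨l.prod, IsWord.prod_mem hl, hg⟩

theorem mem_parabolic_N {J : Set G} (hJ : J ⊆ P.S) {n : G} (hn : n ∈ P.N) :
    n ∈ P.parabolic J ↔ n ∈ Subgroup.closure J ⊔ (P.B ⊓ P.N) := by
  constructor
  · intro h
    obtain ⟨l, hl, hg⟩ := (mem_parabolic_iff hJ).1 h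
    have he := eqv_of_mem_cells (IsWord.prod_mem fun x hx => hJ (hl x hx)) hn hg
      (mem_cell_self n)
    have := mul_mem (Subgroup.mem_sup_left (T := P.B ⊓ P.N)
      (list_prod_mem fun x hx => Subgroup.subset_closure (hl x hx) :
        l.prod ∈ Subgroup.closure J)) (Subgroup.mem_sup_right he)
    simpa using this
  · intro h
    exact sup_le (le_sup_right : Subgroup.closure J ≤ P.parabolic J)
      (inf_le_left.trans (B_le_parabolic J)) h

theorem mem_parabolic_S {J : Set G} (hJ : J ⊆ P.S) {s : G} (hs : s ∈ P.S) :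
    s ∈ P.parabolic J ↔ s ∈ J :=
  ⟨fun h => s_mem_J hJ hs ((mem_parabolic_N hJ (s_mem_N hs)).1 h), J_subset_parabolic⟩

/-- A subgroup containing `B` and `n B n⁻¹` contains every letter of a reduced word for `n`. -/
theorem letters_mem {M : Subgroup G} (hB : P.B ≤ M) : ∀ {l : List G}, Red P l →
    (∀ b ∈ P.B, l.prod * b * l.prod⁻¹ ∈ M) → ∀ x ∈ l, x ∈ M := by
  intro l
  induction l with
  | nil => intro _ _ x hx; simp at hx
  | cons s l ih =>
    intro hred hconj
    have hs : s ∈ P.S := hred.1 s (by simp)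
    have hl := hred.tail
    have h2 := hred.2
    simp only [List.prod_cons, List.length_cons] at h2 hconj
    have hlt : len P (s * (s * l.prod)) < len P (s * l.prod) := by
      rw [len_congr (eqv_twice hs hl.1.prod_mem), hl.2]; omega
    obtain ⟨b, hb, h⟩ := step_down hs (mul_mem (s_mem_N hs) hl.1.prod_mem) hlt
    obtain ⟨b₁, hb₁, b₂, hb₂, e⟩ := mem_cell.1 h
    have hsM : s ∈ M := by
      have : s = b₁ * ((s * l.prod) * b₂ * (s * l.prod)⁻¹) * b⁻¹ := by
        have e' : s * b = b₁ * (s * l.prod) * b₂ * (s * l.prod)⁻¹ := eq_mul_inv_of_mul_eq e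
        rw [eq_mul_inv_iff_mul_eq, e']; group
      rw [this]
      exact mul_mem (mul_mem (hB hb₁) (hconj _ hb₂)) (hB (inv_mem hb))
    intro x hx
    rcases List.mem_cons.1 hx with rfl | hx
    · exact hsM
    · refine ih hl (fun c hc => ?_) x hx
      have := mul_mem (mul_mem (inv_mem hsM) (hconj c hc)) hsM
      rwa [show s⁻¹ * (s * l.prod * c * (s * l.prod)⁻¹) * s = l.prod * c * l.prod⁻¹ by group]
        at this

theorem eq_parabolic {M : Subgroup G} (hB : P.B ≤ M) :
    M = P.parabolic (P.S ∩ (M : Set G)) := by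
  refine le_antisymm (fun g hg => ?_) (sup_le hB ((Subgroup.closure_le _).2 Set.inter_subset_right))
  obtain ⟨n, hn, hgn⟩ := exists_cell (P := P) g
  obtain ⟨l, hl, he⟩ := exists_red hn
  rw [← he.cell_eq] at hgn
  obtain ⟨b₁, hb₁, b₂, hb₂, rfl⟩ := mem_cell.1 hgn
  have hn' : l.prod ∈ M := by
    have := mul_mem (mul_mem (inv_mem (hB hb₁)) hg) (inv_mem (hB hb₂))
    rwa [show b₁⁻¹ * (b₁ * l.prod * b₂) * b₂⁻¹ = l.prod by group] at this
  have := letters_mem hB hl fun b hb => mul_mem (mul_mem hn' (hB hb)) (inv_mem hn')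
  exact (mem_parabolic_iff Set.inter_subset_left).2
    ⟨l, fun x hx => ⟨hl.1 x hx, this x hx⟩, hgn⟩

/-- If conjugation by `n ∈ N` moves `B` into a subgroup containing `B`, then `n` lies in it. -/
theorem mem_of_conj_le {M : Subgroup G} (hB : P.B ≤ M) {n : G} (hn : n ∈ P.N)
    (h : ∀ b ∈ P.B, n * b * n⁻¹ ∈ M) : n ∈ M := by
  obtain ⟨l, hl, he⟩ := exists_red hn
  have hconj : ∀ b ∈ P.B, l.prod * b * l.prod⁻¹ ∈ M := by
    intro b hb
    have hh : n⁻¹ * l.prod ∈ P.B := he.symm.1
    have := h _ (mul_mem (mul_mem hh hb) (inv_mem hh))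
    rwa [show n * (n⁻¹ * l.prod * b * (n⁻¹ * l.prod)⁻¹) * n⁻¹ = l.prod * b * l.prod⁻¹ by group]
      at this
  have h1 : l.prod ∈ M := list_prod_mem (letters_mem hB hl hconj)
  simpa using mul_mem h1 (hB he.1)

end CfsgLib.Chev.BN
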