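/-
A group generated by involutions satisfying the exchange condition is a Coxeter group
(Bourbaki IV.1.6, after Matsumoto).
-/
import Mathlib

set_option autoImplicit false

namespace CfsgLib.Chev.Exch

variable {W : Type*} [Group W] {ι : Type*} (g : ι → W)

/-- The product of a word. -/
def prodW (l : List ι) : W := (l.map g).prod

/-- A word is reduced when no word with the same product is shorter. -/
def RedW (l : List ι) : Prop := ∀ m : List ι, prodW g m = prodW g l → l.length ≤ m.length

/-- The exchange condition. -/
def HasExchange : Prop :=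
  ∀ (l : List ι) (i : ι), RedW g l → ¬ RedW g (i :: l) →
    ∃ k < l.length, g i * prodW g l = prodW g (l.eraseIdx k)

/-- The alternating word `x y x …` of length `m`. -/
def alt (x y : ι) : ℕ → List ι
  | 0 => []
  | m + 1 => x :: alt y x m

@[simp] theorem prodW_nil : prodW g ([] : List ι) = 1 := rfl

@[simp] theorem prodW_cons (i : ι) (l : List ι) : prodW g (i :: l) = g i * prodW g l := by
  simp [prodW]

@[simp] theorem prodW_append (l m : List ι) :
    prodW g (l ++ m) = prodW g l * prodW g m := by simp [prodW]

@[simp] theorem length_alt (x y : ι) (m : ℕ) : (alt x y m).length = m := by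
  induction m generalizing x y with
  | zero => rfl
  | succ m ih => simp [alt, ih]

theorem alt_succ (x y : ι) (m : ℕ) :
    alt x y (m + 1) = alt x y m ++ [if Even m then x else y] := by
  induction m generalizing x y with
  | zero => simp [alt]
  | succ m ih =>
    rw [alt, ih y x, alt]
    by_cases h : Even m <;> simp [Nat.even_add_one, h]

theorem eraseIdx_alt : ∀ (n : ℕ) (x y : ι) (i : ℕ), 0 < i → i < n →
    ∃ (a : List ι) (b : ι) (c : List ι), (alt x y (n + 1)).eraseIdx i = a ++ b :: b :: c ∧
      a.length + c.length + 2 = n := by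
  intro n
  induction n with
  | zero => intro x y i _ h; omega
  | succ n ih =>
    intro x y i h0 h1
    obtain ⟨i, rfl⟩ : ∃ i', i = i' + 1 := ⟨i - 1, by omega⟩
    rcases Nat.eq_zero_or_pos i with rfl | hi
    · obtain ⟨m, rfl⟩ : ∃ m, n = m + 1 := ⟨n - 1, by omega⟩
      exact ⟨[], x, alt y x m, by simp [alt], by simp⟩
    · obtain ⟨a, b, c, h2, h3⟩ := ih y x i hi (by omega)
      exact ⟨x :: a, b, c, by rw [alt, List.eraseIdx_cons_succ, h2]; rfl, by simp; omega⟩

variable {g}

theorem prodW_alt_two_mul (x y : ι) (j : ℕ) :
    prodW g (alt x y (2 * j)) = (g x * g y) ^ j := by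
  induction j with
  | zero => simp [alt]
  | succ j ih => simp [Nat.mul_succ, alt, ih, pow_succ', mul_assoc]

section
variable (hsq : ∀ i, g i * g i = 1)
include hsq

theorem inv_gen (i : ι) : (g i)⁻¹ = g i := inv_eq_of_mul_eq_one_right (hsq i)

theorem alt_eq_iff (x y : ι) (m : ℕ) :
    prodW g (alt x y m) = prodW g (alt y x m) ↔ (g x * g y) ^ m = 1 := by
  have hyx : g y * g x = (g x * g y)⁻¹ := by rw [mul_inv_rev, inv_gen hsq, inv_gen hsq]
  rcases Nat.even_or_odd' m with ⟨j, rfl | rfl⟩
  · rw [prodW_alt_two_mul, prodW_alt_two_mul, hyx, inv_pow, two_mul, pow_add,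
      mul_eq_one_iff_eq_inv]
  · rw [alt_succ, alt_succ, prodW_append, prodW_append, prodW_alt_two_mul, prodW_alt_two_mul,
      if_pos (even_two_mul j), if_pos (even_two_mul j), hyx, inv_pow]
    simp only [prodW_cons, prodW_nil, mul_one]
    have key : (g x * g y) ^ (2 * j + 1) = (g x * g y) ^ j * g x * g y * (g x * g y) ^ j := by
      rw [two_mul, pow_succ, pow_add, mul_assoc, mul_assoc, mul_assoc, ← mul_assoc (g x),
        ← pow_succ', ← pow_succ]
    rw [key]
    constructor
    · intro h
      rw [h]; simp [mul_assoc, hsq]
    · intro h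
      have h1 := eq_inv_of_mul_eq_one_left h
      rw [← h1, mul_assoc _ (g y), hsq, mul_one]

theorem gen_mul_cancel (i : ι) (a : W) : g i * (g i * a) = a := by
  rw [← mul_assoc, hsq, one_mul]

/-- The Coxeter matrix attached to a family of involutions. -/
noncomputable def coxMatrix (hinj : Function.Injective g) : CoxeterMatrix ι where
  M := Matrix.of fun i j => orderOf (g i * g j)
  isSymm := Matrix.IsSymm.ext fun i j => by
    simp only [Matrix.of_apply]
    rw [← orderOf_inv (g j * g i), mul_inv_rev, inv_gen hsq, inv_gen hsq]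
  diagonal i := by simp [Matrix.of_apply, hsq i]
  off_diagonal i j hij := by
    simp only [Matrix.of_apply, ne_eq, orderOf_eq_one_iff]
    intro h
    exact hij (hinj (by rw [eq_inv_of_mul_eq_one_left h, inv_gen hsq]))

end

theorem RedW.of_cons {i : ι} {l : List ι} (h : RedW g (i :: l)) : RedW g l := by
  intro m hm
  have := h (i :: m) (by simp [hm])
  simpa using this

theorem RedW.of_append {l r : List ι} (h : RedW g (l ++ r)) : RedW g l := by
  intro m hm
  have := h (m ++ r) (by simp [hm])
  simpa using this

theorem RedW.congr {l m : List ι} (h : RedW g l) (hlen : m.length = l.length)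
    (hp : prodW g m = prodW g l) : RedW g m := by
  intro n hn
  rw [hlen]; exact h n (hn.trans hp)

theorem RedW.length_eq {l m : List ι} (h : RedW g l) (h' : RedW g m)
    (hp : prodW g m = prodW g l) : m.length = l.length :=
  le_antisymm (h' l hp.symm) (h m hp)

theorem exists_redW (l : List ι) : ∃ m, RedW g m ∧ prodW g m = prodW g l := by
  classical
  have hne : ∃ k, ∃ m : List ι, m.length = k ∧ prodW g m = prodW g l := ⟨_, l, rfl, rfl⟩
  obtain ⟨m, hm, hp⟩ := Nat.find_spec hne
  refine ⟨m, fun n hn => ?_, hp⟩
  rw [hm]
  exact Nat.find_min' hne ⟨n, rfl, hn.trans hp⟩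

section Main

variable (hsq : ∀ i, g i * g i = 1) (hinj : Function.Injective g) (hne : ∀ i, g i ≠ 1)
  (hex : HasExchange g)


include hne in
theorem redW_singleton (i : ι) : RedW g [i] := by
  intro m hm
  rcases m with - | ⟨a, m⟩
  · simp at hm; exact absurd hm.symm (hne i)
  · simp

theorem pi_braid (x y : ι) :
    (coxMatrix hsq hinj).toCoxeterSystem.wordProd (alt x y (orderOf (g x * g y))) = (coxMatrix hsq hinj).toCoxeterSystem.wordProd (alt y x (orderOf (g x * g y))) := by
  have hs : ∀ i, (coxMatrix hsq hinj).toCoxeterSystem.simple i *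
      (coxMatrix hsq hinj).toCoxeterSystem.simple i = 1 :=
    fun i => (coxMatrix hsq hinj).toCoxeterSystem.simple_mul_simple_self i
  have := (alt_eq_iff (g := (coxMatrix hsq hinj).toCoxeterSystem.simple) hs x y
    (orderOf (g x * g y))).2 ((coxMatrix hsq hinj).toCoxeterSystem.simple_mul_simple_pow x y)
  exact this

include hex in
theorem claim_aux (k : ℕ)
    (IH : ∀ u v : List ι, RedW g u → RedW g v → u.length < k → prodW g u = prodW g v → (coxMatrix hsq hinj).toCoxeterSystem.wordProd u = (coxMatrix hsq hinj).toCoxeterSystem.wordProd v) :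
    ∀ (j m : ℕ) (x y : ι) (r v : List ι), j + m = k + 1 → x ≠ y → 1 ≤ m →
      RedW g (alt x y m ++ r) → (alt x y m ++ r).length = k →
      RedW g (y :: v) → (y :: v).length = k →
      prodW g (alt x y m ++ r) = prodW g (y :: v) →
      (coxMatrix hsq hinj).toCoxeterSystem.wordProd (alt x y m ++ r) = (coxMatrix hsq hinj).toCoxeterSystem.wordProd (y :: v) := by
  have same : ∀ (z : ι) (a b : List ι), RedW g (z :: a) → RedW g (z :: b) → (z :: a).length = k →
      prodW g (z :: a) = prodW g (z :: b) → (coxMatrix hsq hinj).toCoxeterSystem.wordProd (z :: a) = (coxMatrix hsq hinj).toCoxeterSystem.wordProd (z :: b) := by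
    intro z a b ha hb hl hp
    rw [CoxeterSystem.wordProd_cons, CoxeterSystem.wordProd_cons,
      IH a b ha.of_cons hb.of_cons (by simp at hl; omega) (by simpa using hp)]
  intro j
  induction j with
  | zero => intro m x y r v hj _ _ _ hl; simp at hl; omega
  | succ j ih =>
    intro m x y r v hj hxy hm hu hul hv hvl hp
    obtain ⟨n, rfl⟩ : ∃ n, m = n + 1 := ⟨m - 1, by omega⟩
    set u := alt x y (n + 1) ++ r with hudef
    have hnred : ¬ RedW g (y :: u) := by
      intro h
      have := h v (by rw [prodW_cons, hp, prodW_cons, gen_mul_cancel hsq])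
      simp [hul] at this hvl
      omega
    obtain ⟨i, hi, hie⟩ := hex u y hu hnred
    have hlen' : (y :: u.eraseIdx i).length = u.length := by
      rw [List.length_cons, List.length_eraseIdx_of_lt hi]; omega
    have hu'red : RedW g (y :: u.eraseIdx i) := hu.congr hlen'
      (by rw [prodW_cons, ← hie, gen_mul_cancel hsq])
    have hpu' : prodW g (y :: u.eraseIdx i) = prodW g u := by
      rw [prodW_cons, ← hie, gen_mul_cancel hsq]
    by_cases hin : i < n + 1
    · have hpre : g y * prodW g (alt x y (n + 1)) =
          prodW g ((alt x y (n + 1)).eraseIdx i) := by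
        rw [hudef, List.eraseIdx_append_of_lt_length (by simpa using hin)] at hie
        simpa [← mul_assoc] using hie
      have hprered : RedW g (alt x y (n + 1)) := hu.of_append
      -- only the last letter can be erased
      have hlast : i = n := by
        by_contra hne'
        rcases Nat.eq_zero_or_pos i with rfl | hpos
        · simp [alt, ← mul_assoc] at hpre
          exact hxy (hinj (by rw [eq_inv_of_mul_eq_one_left hpre, inv_gen hsq])).symm
        · obtain ⟨a, b, c, hsplit, hac⟩ := eraseIdx_alt n x y i hpos (by omega)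
          have := hprered (y :: (a ++ c)) (by
            rw [prodW_cons, ← gen_mul_cancel hsq y (prodW g (alt x y (n + 1))), hpre, hsplit]
            simp [gen_mul_cancel hsq])
          simp at this; omega
      subst hlast
      rw [alt_succ, List.eraseIdx_append_of_length_le (by simp)] at hpre
      simp at hpre
      have heq : prodW g (alt x y (i + 1)) = prodW g (alt y x (i + 1)) := by
        conv_rhs => rw [alt, prodW_cons, ← hpre, gen_mul_cancel hsq]
        rw [alt_succ]; simp
      have hpow := (alt_eq_iff hsq x y (i + 1)).1 heq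
      set M := orderOf (g x * g y) with hM
      have hMdvd : M ∣ i + 1 := orderOf_dvd_of_pow_eq_one hpow
      have hMeq : M = i + 1 := by
        by_contra hne'
        have hlt : M < i + 1 := lt_of_le_of_ne (Nat.le_of_dvd (by omega) hMdvd) hne'
        have hMpos : 0 < M := Nat.pos_of_dvd_of_pos hMdvd (by omega)
        have hbr : prodW g (alt x y M) = prodW g (alt y x M) :=
          (alt_eq_iff hsq x y M).2 (pow_orderOf_eq_one _)
        obtain ⟨d, hd⟩ : ∃ d, M = d + 1 := ⟨M - 1, by omega⟩
        have hshort : prodW g (alt y x d) = prodW g (alt x y (d + 2)) := by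
          rw [alt_succ x y (d + 1), prodW_append, ← hd, hbr, hd, alt_succ y x d, prodW_append]
          by_cases he : Even d <;> simp [he, Nat.even_add_one, mul_assoc, hsq]
        have hsub : RedW g (alt x y (d + 2)) := by
          have key : ∀ c, RedW g (alt x y (d + 2 + c)) → RedW g (alt x y (d + 2)) := by
            intro c
            induction c with
            | zero => exact id
            | succ c ihc =>
              intro h; rw [← add_assoc, alt_succ] at h
              exact ihc h.of_append
          exact key (i + 1 - (d + 2)) (by rwa [Nat.add_sub_cancel' (by omega)])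
        have := hsub _ hshort
        simp at this
      have hbraid : (coxMatrix hsq hinj).toCoxeterSystem.wordProd (alt x y (i + 1)) = (coxMatrix hsq hinj).toCoxeterSystem.wordProd (alt y x (i + 1)) := by
        have := pi_braid hsq hinj x y
        rwa [← hM, hMeq] at this
      have hwred : RedW g (alt y x (i + 1) ++ r) := hu.congr (by simp [hudef]) (by simp [hudef, heq])
      calc (coxMatrix hsq hinj).toCoxeterSystem.wordProd u = (coxMatrix hsq hinj).toCoxeterSystem.wordProd (alt y x (i + 1) ++ r) := by
            rw [hudef, CoxeterSystem.wordProd_append, hbraid, ← CoxeterSystem.wordProd_append]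
        _ = (coxMatrix hsq hinj).toCoxeterSystem.wordProd (y :: v) := by
            rw [alt, List.cons_append] at hwred ⊢
            refine same y _ v hwred hv ?_ ?_
            · simp [hudef] at hul ⊢; omega
            · rw [← hp, hudef]
              simp only [prodW_cons, prodW_append, alt]
              rw [← mul_assoc]
              congr 1
              have := heq; simp only [alt, prodW_cons] at this
              exact this.symm
    · push Not at hin
      have he : y :: u.eraseIdx i = alt y x (n + 2) ++ r.eraseIdx (i - (n + 1)) := by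
        rw [hudef, List.eraseIdx_append_of_length_le (by simpa using hin), length_alt]
        rfl
      have hvu : (coxMatrix hsq hinj).toCoxeterSystem.wordProd (y :: u.eraseIdx i) = (coxMatrix hsq hinj).toCoxeterSystem.wordProd (y :: v) :=
        same y _ v hu'red hv (by rw [hlen', hul]) (hpu'.trans hp)
      rw [← hvu, he]
      rw [he] at hu'red hpu' hlen'
      obtain ⟨u₁, hu₁⟩ : ∃ u₁, u = x :: u₁ := ⟨alt y x n ++ r, rfl⟩
      rw [hu₁] at hu hul hlen' hpu' ⊢
      exact (ih (n + 2) y x _ u₁ (by omega) (Ne.symm hxy) (by omega) hu'red (hlen'.trans hul) hu hul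
        hpu').symm

include hex in
theorem pi_eq_of_prodW_eq {u v : List ι} (hu : RedW g u) (hv : RedW g v)
    (h : prodW g u = prodW g v) : (coxMatrix hsq hinj).toCoxeterSystem.wordProd u = (coxMatrix hsq hinj).toCoxeterSystem.wordProd v := by
  suffices H : ∀ k (u v : List ι), RedW g u → RedW g v → u.length = k → prodW g u = prodW g v →
      (coxMatrix hsq hinj).toCoxeterSystem.wordProd u = (coxMatrix hsq hinj).toCoxeterSystem.wordProd v from H _ u v hu hv rfl h
  intro k
  induction k using Nat.strong_induction_on with
  | _ k IH =>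
    intro u v hu hv hk h
    have hvk : v.length = k := (hu.length_eq hv h.symm).trans hk
    rcases u with - | ⟨a, u⟩
    · rw [List.eq_nil_of_length_eq_zero (l := v) (by simp at hk; omega)]
    rcases v with - | ⟨b, v⟩
    · simp at hvk hk; omega
    by_cases hab : a = b
    · subst hab
      rw [CoxeterSystem.wordProd_cons, CoxeterSystem.wordProd_cons,
        IH u.length (by simp at hk; omega) u v hu.of_cons hv.of_cons rfl (by simpa using h)]
    · exact claim_aux hsq hinj hex k (fun u' v' hu' hv' hl hp => IH _ hl u' v' hu' hv' rfl hp)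
        k 1 a b u v (by omega) hab le_rfl hu hk hv hvk h

include hex in
theorem pi_eq_reduced (l : List ι) :
    ∃ m, RedW g m ∧ prodW g m = prodW g l ∧ (coxMatrix hsq hinj).toCoxeterSystem.wordProd l = (coxMatrix hsq hinj).toCoxeterSystem.wordProd m := by
  induction l with
  | nil => exact ⟨[], fun m _ => by simp, rfl, rfl⟩
  | cons a l ih =>
    obtain ⟨m, hm, hp, he⟩ := ih
    rw [CoxeterSystem.wordProd_cons, he, ← CoxeterSystem.wordProd_cons]
    by_cases hred : RedW g (a :: m)
    · exact ⟨a :: m, hred, by simp [hp], rfl⟩
    · obtain ⟨i, hi, hie⟩ := hex m a hm hred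
      have hlen : (a :: m.eraseIdx i).length = m.length := by
        rw [List.length_cons, List.length_eraseIdx_of_lt hi]; omega
      have hpm : prodW g (a :: m.eraseIdx i) = prodW g m := by
        rw [prodW_cons, ← hie, gen_mul_cancel hsq]
      have hred' := hm.congr hlen hpm
      refine ⟨m.eraseIdx i, hred'.of_cons, by rw [← hie, hp, prodW_cons], ?_⟩
      rw [CoxeterSystem.wordProd_cons, ← pi_eq_of_prodW_eq hsq hinj hex hred' hm hpm,
        CoxeterSystem.wordProd_cons, CoxeterSystem.simple_mul_simple_cancel_left]

include hex in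
/-- The exchange condition gives a Coxeter system. -/
theorem exists_coxeterSystem (hgen : Subgroup.closure (Set.range g) = ⊤) :
    ∃ cs : CoxeterSystem (coxMatrix hsq hinj) W, ∀ i, cs.simple i = g i := by
  have hlift : (coxMatrix hsq hinj).IsLiftable g := fun i j => by
    simp [coxMatrix, pow_orderOf_eq_one]
  let φ : (coxMatrix hsq hinj).Group →* W := (coxMatrix hsq hinj).toCoxeterSystem.lift ⟨g, hlift⟩
  have hφs : ∀ i, φ ((coxMatrix hsq hinj).toCoxeterSystem.simple i) = g i := fun i =>
    CoxeterSystem.lift_apply_simple _ hlift i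
  have hφ : ∀ l, φ ((coxMatrix hsq hinj).toCoxeterSystem.wordProd l) = prodW g l := by
    intro l
    induction l with
    | nil => simp
    | cons a l ih => rw [CoxeterSystem.wordProd_cons, map_mul, hφs, ih, prodW_cons]
  have hsurj : Function.Surjective φ := by
    rw [← MonoidHom.range_eq_top, eq_top_iff, ← hgen, Subgroup.closure_le]
    rintro _ ⟨i, rfl⟩
    exact ⟨_, hφs i⟩
  have hinjφ : Function.Injective φ := by
    rw [injective_iff_map_eq_one]
    intro a ha
    obtain ⟨l, rfl⟩ := (coxMatrix hsq hinj).toCoxeterSystem.wordProd_surjective a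
    obtain ⟨m, hm, hp, he⟩ := pi_eq_reduced hsq hinj hex l
    have : m.length ≤ 0 := hm [] (by rw [prodW_nil, hp, ← hφ, ha])
    rw [he, List.eq_nil_of_length_eq_zero (Nat.le_zero.1 this)]; simp
  refine ⟨(coxMatrix hsq hinj).toCoxeterSystem.map (MulEquiv.ofBijective φ ⟨hinjφ, hsurj⟩),
    fun i => ?_⟩
  rw [CoxeterSystem.map_simple]
  exact hφs i

end Main

end CfsgLib.Chev.Exch
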