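/-
Chevalley data: integer matrices of the adjoint action, the divided powers occurring in the
root elements, and the list of table facts on which the general theory rests.
-/
import Mathlib
import Cfsg.Prelude.Def_ChevStructure

set_option autoImplicit false

namespace CfsgLib.Chev

open Cfsg.Lie

variable (D : ChevalleyDatum)

/-- The index of `r + s` when it is a root and `s ≠ ±r`. -/
def tgt (r s : ℕ) : Option ℕ := D.chainRoot r s 1

/-- The structure constant `N_{r,s}` (0 when `r + s` is not a root). -/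
def str (r s : ℕ) : ℤ := D.chainM r s 1

/-- The coefficient of the `i`-th fundamental coroot in the coroot of `r`. -/
def cor (r i : ℕ) : ℤ := (D.coroot.getD r #[]).getD i 0

/-- The numeric code of a coordinate. -/
def enc : D.Idx → ℕ := Sum.elim (fun i => i.val) (fun s => D.rank + s.val)

/-- The matrix of `ad e_r` over the integers. -/
def adRoot (r : ℕ) : Matrix D.Idx D.Idx ℤ :=
  Matrix.of fun row col =>
    match col, row with
    | Sum.inl i, Sum.inr u => if u.val = r then -D.cartan i.val r else 0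
    | Sum.inl _, Sum.inl _ => 0
    | Sum.inr s, Sum.inl i => if s.val = D.neg r then cor D r i.val else 0
    | Sum.inr s, Sum.inr u => if tgt D r s.val = some u.val then str D r s.val else 0

/-- The matrix of `ad h_i` over the integers. -/
def adCoroot (i : ℕ) : Matrix D.Idx D.Idx ℤ :=
  Matrix.diagonal (Sum.elim (fun _ => 0) (fun s => D.cartan i s.val))

/-- The adjoint matrix of a basis vector. -/
def adB : D.Idx → Matrix D.Idx D.Idx ℤ :=
  Sum.elim (fun i => adCoroot D i.val) (fun s => adRoot D s.val)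

/-- The adjoint matrix of a vector. -/
def adV (v : D.Idx → ℤ) : Matrix D.Idx D.Idx ℤ := ∑ a, v a • adB D a

/-- The coefficient of `t ^ k` in `x_r(t)`: the `k`-th divided power of `ad e_r`. -/
def divPow (r : ℕ) : ℕ → Matrix D.Idx D.Idx ℤ
  | 0 => 1
  | 1 => adRoot D r
  | k + 2 => Matrix.of fun row col =>
    match col, row with
    | Sum.inr s, Sum.inr u =>
      if s.val = D.neg r then (if k = 0 ∧ u.val = r then -1 else 0)
      else if D.chainRoot r s.val (k + 2) = some u.val then D.chainM r s.val (k + 2) else 0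
    | _, _ => 0

/-- A linear ordering function on root indices built from coefficient vectors `co`. -/
def omega (co : ℕ → ℕ → ℤ) (r : ℕ) : ℤ :=
  ((List.range D.rank).map fun j => co r j * 64 ^ (D.rank - 1 - j)).sum

/-- `a` is a fundamental root or the negative of one. -/
def IsGen (a : ℕ) : Prop := ∃ i < D.rank, a = D.simple i ∨ a = D.neg (D.simple i)

/-- The integer matrix of `x_p(1) x_{-p}(-1) x_p(1)` for the `i`-th fundamental root `p`. -/
def nProd (i : ℕ) : Matrix D.Idx D.Idx ℤ :=
  let P := ∑ k ∈ Finset.range 4, divPow D (D.simple i) k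
  let Q := ∑ k ∈ Finset.range 4, (-1 : ℤ) ^ k • divPow D (D.neg (D.simple i)) k
  P * Q * P

/-- The monomial form of `n_p` with signs `η`. -/
def nForm (η : ℕ → ℤ) (i : ℕ) : Matrix D.Idx D.Idx ℤ :=
  Matrix.of fun row col =>
    match col, row with
    | Sum.inl j, Sum.inl j' =>
      (if j' = j then 1 else 0) - (if j'.val = i then D.cartan j.val (D.simple i) else 0)
    | Sum.inr s, Sum.inr u => if u.val = D.reflectRoot i s.val then η s.val else 0
    | _, _ => 0

/-- The facts about the tables of a Chevalley datum used by the general theory. The function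
`co` gives the coefficients of the roots on the fundamental roots. -/
structure Facts (co : ℕ → ℕ → ℤ) : Prop where
  rank_pos : 0 < D.rank
  nroots_even : D.nroots = 2 * (D.nroots / 2)
  neg_eq : ∀ r < D.nroots, D.neg r = D.nroots - 1 - r
  simple_lt : ∀ i < D.rank, D.nroots / 2 ≤ D.simple i ∧ D.simple i < D.nroots
  keys_nodup : ∀ r < D.nroots, ((D.chain.getD r #[]).toList.map Prod.fst).Nodup
  chain_len : ∀ r < D.nroots, ∀ s < D.nroots, (D.chainEntry r s).length ≤ 3
  tgt_self : ∀ r < D.nroots, tgt D r r = none ∧ tgt D r (D.neg r) = none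
  tgt_spec : ∀ r < D.nroots, ∀ s < D.nroots, ∀ k, tgt D r s = some k →
    k < D.nroots ∧ k ≠ r ∧ k ≠ D.neg r ∧ str D r s ≠ 0
  chain_succ : ∀ r < D.nroots, ∀ s < D.nroots, ∀ k, 1 ≤ k →
    D.chainRoot r s (k + 1) = (D.chainRoot r s k).bind (tgt D r)
  chain_mul : ∀ r < D.nroots, ∀ s < D.nroots, ∀ k, 1 ≤ k → ∀ u, D.chainRoot r s k = some u →
    (k + 1 : ℕ) * D.chainM r s (k + 1) = D.chainM r s k * str D r u
  tgt_symm : ∀ r < D.nroots, ∀ s < D.nroots, tgt D s r = tgt D r s ∧ str D s r = -str D r s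
  cor_pair : ∀ r < D.nroots, ∑ i ∈ Finset.range D.rank, cor D r i * D.cartan i r = 2
  cor_neg : ∀ r < D.nroots, ∀ i < D.rank, cor D (D.neg r) i = -cor D r i
  cartan_neg : ∀ r < D.nroots, ∀ i < D.rank, D.cartan i (D.neg r) = -D.cartan i r
  cartan_add : ∀ r < D.nroots, ∀ s < D.nroots, ∀ k, tgt D r s = some k → ∀ i < D.rank,
    D.cartan i k = D.cartan i r + D.cartan i s
  co_neg : ∀ r < D.nroots, ∀ j < D.rank, co (D.neg r) j = -co r j
  co_add : ∀ r < D.nroots, ∀ s < D.nroots, ∀ k, tgt D r s = some k → ∀ j < D.rank,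
    co k j = co r j + co s j
  co_simple : ∀ i < D.rank, ∀ j < D.rank, co (D.simple i) j = if i = j then 1 else 0
  co_nonneg : ∀ r < D.nroots, D.nroots / 2 ≤ r → ∀ j < D.rank, 0 ≤ co r j
  isPos_iff : ∀ r < D.nroots, D.IsPosRoot r ↔ D.nroots / 2 ≤ r
  isNeg_iff : ∀ r < D.nroots, D.IsNegRoot r ↔ r < D.nroots / 2
  cor_supp : ∀ r < D.nroots, ∀ j < D.rank, (cor D r j = 0 ↔ co r j = 0)
  omega_lt : ∀ r, r + 1 < D.nroots → omega D co r < omega D co (r + 1)
  deriv : ∀ a, IsGen D a → ∀ b : D.Idx,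
    adRoot D a * adB D b - adB D b * adRoot D a = adV D (fun x => adRoot D a x b)
  gen_step : ∀ r < D.nroots, ¬ IsGen D r → ∃ a s, IsGen D a ∧ s < D.nroots ∧
    tgt D a s = some r ∧
      ((D.nroots / 2 ≤ r → D.nroots / 2 ≤ s ∧ s < r) ∧ (r < D.nroots / 2 → s < D.nroots / 2 ∧ r < s))
  refl_lt : ∀ i < D.rank, ∀ s < D.nroots, D.reflectRoot i s < D.nroots
  refl_invol : ∀ i < D.rank, ∀ s < D.nroots, D.reflectRoot i (D.reflectRoot i s) = s
  refl_pos : ∀ i < D.rank, ∀ s < D.nroots, D.nroots / 2 ≤ s → s ≠ D.simple i →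
    D.nroots / 2 ≤ D.reflectRoot i s
  refl_neg : ∀ i < D.rank, ∀ s < D.nroots,
    D.reflectRoot i (D.neg s) = D.neg (D.reflectRoot i s)
  co_refl : ∀ i < D.rank, ∀ s < D.nroots, ∀ j < D.rank,
    co (D.reflectRoot i s) j = co s j - if i = j then D.cartan i s else 0
  cartan_refl : ∀ i < D.rank, ∀ s < D.nroots, ∀ j < D.rank,
    D.cartan j (D.reflectRoot i s) = D.cartan j s - D.cartan j (D.simple i) * D.cartan i s
  cor_refl : ∀ i < D.rank, ∀ r < D.nroots, ∀ j < D.rank,
    cor D (D.reflectRoot i r) j = cor D r j -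
      if i = j then ∑ m ∈ Finset.range D.rank, cor D r m * D.cartan m (D.simple i) else 0
  refl_step : ∀ r < D.nroots, D.nroots / 2 ≤ r → (∀ i < D.rank, r ≠ D.simple i) →
    ∃ i < D.rank, D.nroots / 2 ≤ D.reflectRoot i r ∧ D.reflectRoot i r < r
  nProd_eq : ∀ i < D.rank, ∃ η : ℕ → ℤ, (∀ s < D.nroots, η s = 1 ∨ η s = -1) ∧
    η (D.simple i) = -1 ∧ η (D.neg (D.simple i)) = -1 ∧
    (∀ s < D.nroots, η s * η (D.reflectRoot i s) = (-1) ^ (D.cartan i s).natAbs ∧
      η s * η (D.neg s) = 1) ∧
    nProd D i = nForm D η i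

/-- Extra facts holding for all types except G₂: chains of length at most two, and commutation
inside each chain. -/
structure ShortChains : Prop where
  len_le : ∀ r < D.nroots, ∀ s < D.nroots, (D.chainEntry r s).length ≤ 2
  not_both : ∀ r < D.nroots, ∀ s < D.nroots, (D.chainEntry r s).length = 2 →
    (D.chainEntry s r).length ≤ 1
  commute : ∀ r < D.nroots, ∀ s < D.nroots, (D.chainEntry s r).length ≤ 1 →
    ∀ a ∈ s :: (D.chainEntry r s).map Prod.fst, ∀ b ∈ s :: (D.chainEntry r s).map Prod.fst,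
      tgt D a b = none ∧ b ≠ D.neg a

end CfsgLib.Chev
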