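/-
Root elements of a Chevalley datum over an arbitrary commutative ring: divided powers of the
adjoint action, one-parameter subgroups, the automorphism identity and gradings.
-/
import Mathlib
import Cfsg.Agent.Lib.Chev.Datum

set_option autoImplicit false

namespace CfsgLib.Chev

open Cfsg.Lie
open scoped Matrix

variable {D : ChevalleyDatum} {co : ℕ → ℕ → ℤ}

/-- A root index in range, as a coordinate. -/
def rootIdx (r : ℕ) (h : r < D.nroots) : D.Idx := Sum.inr ⟨r, h⟩

/-! ### Chains -/

theorem chainM_eq_zero_of_none {r s k : ℕ} (h : D.chainRoot r s k = none) :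
    D.chainM r s k = 0 := by
  simp only [ChevalleyDatum.chainRoot, Option.map_eq_none_iff] at h
  simp [ChevalleyDatum.chainM, h]

theorem chainRoot_none_of_len {r s k : ℕ} (h : (D.chainEntry r s).length ≤ k) :
    D.chainRoot r s (k + 1) = none := by
  simp [ChevalleyDatum.chainRoot, List.getElem?_eq_none h]

namespace Facts

variable (hF : Facts D co)
include hF

theorem neg_lt {r : ℕ} (hr : r < D.nroots) : D.neg r < D.nroots := by
  rw [hF.neg_eq r hr]; omega

theorem neg_neg {r : ℕ} (hr : r < D.nroots) : D.neg (D.neg r) = r := by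
  rw [hF.neg_eq _ (hF.neg_lt hr), hF.neg_eq r hr]; omega

theorem neg_ne {r : ℕ} (hr : r < D.nroots) : D.neg r ≠ r := by
  rw [hF.neg_eq r hr]; have := hF.nroots_even; omega

theorem simple_lt' {i : ℕ} (hi : i < D.rank) : D.simple i < D.nroots := (hF.simple_lt i hi).2

theorem chainRoot_ge_four {r s k : ℕ} (hr : r < D.nroots) (hs : s < D.nroots) (hk : 4 ≤ k) :
    D.chainRoot r s k = none := by
  obtain ⟨j, rfl⟩ : ∃ j, k = j + 1 := ⟨k - 1, by omega⟩
  exact chainRoot_none_of_len (by have := hF.chain_len r hr s hs; omega)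

theorem chainRoot_spec {r s : ℕ} (hr : r < D.nroots) (hs : s < D.nroots) :
    ∀ {k u : ℕ}, 1 ≤ k → D.chainRoot r s k = some u →
      u < D.nroots ∧ u ≠ r ∧ u ≠ D.neg r := by
  intro k
  induction k with
  | zero => intro u h; omega
  | succ k ih =>
    intro u _ h
    rcases Nat.eq_zero_or_pos k with hk | hk
    · subst hk
      obtain ⟨h1, h2, h3, -⟩ := hF.tgt_spec r hr s hs u h
      exact ⟨h1, h2, h3⟩
    · rw [hF.chain_succ r hr s hs k hk] at h
      obtain ⟨w, hw, hwu⟩ := Option.bind_eq_some_iff.mp h
      obtain ⟨h1, h2, h3, -⟩ := hF.tgt_spec r hr w (ih hk hw).1 u hwu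
      exact ⟨h1, h2, h3⟩

end Facts

/-! ### Columns of the divided powers -/

theorem adRoot_inl_inl (r : ℕ) (j i : Fin D.rank) :
    adRoot D r (Sum.inl j) (Sum.inl i) = 0 := rfl

theorem adRoot_inr_inl (r : ℕ) (u : Fin D.nroots) (i : Fin D.rank) :
    adRoot D r (Sum.inr u) (Sum.inl i) = if u.val = r then -D.cartan i.val r else 0 := rfl

theorem adRoot_inl_inr (r : ℕ) (j : Fin D.rank) (s : Fin D.nroots) :
    adRoot D r (Sum.inl j) (Sum.inr s) = if s.val = D.neg r then cor D r j.val else 0 := rfl

theorem adRoot_inr_inr (r : ℕ) (u s : Fin D.nroots) :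
    adRoot D r (Sum.inr u) (Sum.inr s) =
      if tgt D r s.val = some u.val then str D r s.val else 0 := rfl

theorem divPow_ge_two_inr (r k : ℕ) (u s : Fin D.nroots) :
    divPow D r (k + 2) (Sum.inr u) (Sum.inr s) =
      if s.val = D.neg r then (if k = 0 ∧ u.val = r then -1 else 0)
      else if D.chainRoot r s.val (k + 2) = some u.val then D.chainM r s.val (k + 2) else 0 := rfl

theorem divPow_ge_two_inl_row (r k : ℕ) (j : Fin D.rank) (b : D.Idx) :
    divPow D r (k + 2) (Sum.inl j) b = 0 := by
  rcases b with i | s <;> rfl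

theorem divPow_ge_two_inl_col (r k : ℕ) (a : D.Idx) (i : Fin D.rank) :
    divPow D r (k + 2) a (Sum.inl i) = 0 := by
  rcases a with j | u <;> rfl

theorem divPow_col_inl (r k : ℕ) (s : Fin D.nroots) (hs : s.val ≠ D.neg r) (j : Fin D.rank) :
    divPow D r (k + 1) (Sum.inl j) (Sum.inr s) = 0 := by
  cases k with
  | zero => simp [divPow, adRoot_inl_inr, hs]
  | succ k => rw [divPow_ge_two_inl_row]

theorem divPow_col_inr (r k : ℕ) (s : Fin D.nroots) (hs : s.val ≠ D.neg r) (u : Fin D.nroots) :
    divPow D r (k + 1) (Sum.inr u) (Sum.inr s) =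
      if D.chainRoot r s.val (k + 1) = some u.val then D.chainM r s.val (k + 1) else 0 := by
  cases k with
  | zero => exact adRoot_inr_inr r u s
  | succ k => rw [divPow_ge_two_inr, if_neg hs]

theorem natsmul_cancel {m : ℕ} (hm : m ≠ 0) {A B : Matrix D.Idx D.Idx ℤ} (h : m • A = m • B) :
    A = B := by
  ext a b
  have := congrFun (congrFun h a) b
  simpa [hm] using this

namespace Facts

variable (hF : Facts D co)
include hF

theorem adRoot_col_self {r : ℕ} (hr : r < D.nroots) (a : D.Idx) :
    adRoot D r a (Sum.inr ⟨r, hr⟩) = 0 := by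
  rcases a with j | u
  · rw [adRoot_inl_inr, if_neg]
    exact (hF.neg_ne hr).symm
  · rw [adRoot_inr_inr, if_neg]
    rw [(hF.tgt_self r hr).1]
    simp

theorem adRoot_mul_divPow {r : ℕ} (hr : r < D.nroots) (k : ℕ) :
    adRoot D r * divPow D r (k + 1) = (k + 2) • divPow D r (k + 2) := by
  ext a b
  rw [Matrix.mul_apply, Fintype.sum_sum_type, Matrix.smul_apply, nsmul_eq_mul]
  rcases b with i | s
  · rw [divPow_ge_two_inl_col]
    cases k with
    | zero =>
      simp only [divPow, adRoot_inl_inl, mul_zero, Finset.sum_const_zero, zero_add,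
        adRoot_inr_inl]
      rw [Finset.sum_eq_single (⟨r, hr⟩ : Fin D.nroots)]
      · simp [hF.adRoot_col_self hr]
      · intro u _ hu
        rw [if_neg (fun h => hu (Fin.ext h)), mul_zero]
      · simp
    | succ k => simp [divPow_ge_two_inl_col]
  by_cases hs : s.val = D.neg r
  · have h0 : tgt D r s.val = none := hs ▸ (hF.tgt_self r hr).2
    rcases k with _ | _ | k
    · have hsum : ∀ u : Fin D.nroots, adRoot D r (Sum.inr u) (Sum.inr s) = 0 := fun u => by
        rw [adRoot_inr_inr, if_neg]; rw [h0]; simp
      simp only [divPow, hsum, mul_zero, Finset.sum_const_zero, add_zero, adRoot_inl_inr,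
        if_pos hs]
      rcases a with j | u
      · simp [adRoot_inl_inl]
      · simp only [adRoot_inr_inl, Matrix.of_apply, if_pos hs, true_and]
        by_cases hu : u.val = r
        · simp only [if_pos hu, neg_mul, Finset.sum_neg_distrib]
          have := hF.cor_pair r hr
          rw [Finset.sum_range] at this
          simp only [mul_comm (D.cartan _ r)]
          rw [this]; norm_num
        · simp [hu]
    · simp only [divPow_ge_two_inl_row, mul_zero, Finset.sum_const_zero, zero_add,
        divPow_ge_two_inr, if_pos hs, true_and]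
      rw [Finset.sum_eq_single (⟨r, hr⟩ : Fin D.nroots)]
      · rcases a with j | u <;> simp [hF.adRoot_col_self hr, divPow, hs]
      · intro u _ hu
        rw [if_neg (fun h => hu (Fin.ext h)), mul_zero]
      · simp
    · rcases a with j | u <;> simp [divPow, hs]
  · simp only [divPow_col_inl r k s hs, mul_zero, Finset.sum_const_zero, zero_add,
      divPow_col_inr r k s hs]
    have hk : 1 ≤ k + 1 := by omega
    cases h : D.chainRoot r s.val (k + 1) with
    | none =>
      have h2 : D.chainRoot r s.val (k + 2) = none := by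
        rw [hF.chain_succ r hr s.val s.isLt (k + 1) hk, h]; rfl
      rcases a with j | u
      · simp [divPow_ge_two_inl_row]
      · simp [divPow_ge_two_inr, hs, h2]
    | some w =>
      obtain ⟨hw, hw1, hw2⟩ := hF.chainRoot_spec hr s.isLt hk h
      rw [Finset.sum_eq_single (⟨w, hw⟩ : Fin D.nroots)]
      · rw [if_pos rfl]
        rcases a with j | u
        · rw [adRoot_inl_inr, if_neg hw2, divPow_ge_two_inl_row]; simp
        · rw [adRoot_inr_inr, divPow_ge_two_inr, if_neg hs,
            hF.chain_succ r hr s.val s.isLt (k + 1) hk, h, Option.bind_some]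
          have := hF.chain_mul r hr s.val s.isLt (k + 1) hk w h
          by_cases hu : tgt D r w = some u.val
          · rw [if_pos hu, if_pos hu]
            push_cast at this ⊢
            rw [mul_comm (str D r w), ← this]
            ring
          · simp [hu]
      · intro u _ hu
        rw [if_neg, mul_zero]
        intro he
        exact hu (Fin.ext (Option.some_injective _ he).symm)
      · simp

theorem adRoot_pow {r : ℕ} (hr : r < D.nroots) :
    ∀ k, adRoot D r ^ k = k.factorial • divPow D r k
  | 0 => by simp [divPow]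
  | 1 => by simp [divPow]
  | k + 2 => by
    rw [pow_succ', adRoot_pow hr (k + 1), mul_smul_comm, hF.adRoot_mul_divPow hr, smul_smul,
      Nat.factorial_succ (k + 1), mul_comm]

theorem divPow_eq_zero {r : ℕ} (hr : r < D.nroots) {k : ℕ} (hk : 4 ≤ k) : divPow D r k = 0 := by
  obtain ⟨j, rfl⟩ : ∃ j, k = j + 2 := ⟨k - 2, by omega⟩
  ext a b
  rcases b with i | s
  · rw [divPow_ge_two_inl_col]; rfl
  rcases a with j' | u
  · rw [divPow_ge_two_inl_row]; rfl
  rw [divPow_ge_two_inr, Matrix.zero_apply]
  split_ifs with h1 h2 h3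
  · omega
  · rfl
  · rw [hF.chainRoot_ge_four hr s.isLt (by omega)] at h3; cases h3
  · rfl

theorem divPow_mul {r : ℕ} (hr : r < D.nroots) (i j : ℕ) :
    divPow D r i * divPow D r j = (i + j).choose i • divPow D r (i + j) := by
  apply natsmul_cancel (m := i.factorial * j.factorial) (by positivity)
  have h := pow_add (adRoot D r) i j
  rw [hF.adRoot_pow hr, hF.adRoot_pow hr, hF.adRoot_pow hr, smul_mul_smul_comm] at h
  rw [← h, smul_smul]
  congr 1
  rw [← Nat.add_choose_mul_factorial_mul_factorial, Nat.choose_symm_add]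
  ring

end Facts

/-! ### Derivations -/

theorem adV_add (v w : D.Idx → ℤ) : adV D (v + w) = adV D v + adV D w := by
  simp [adV, add_smul, Finset.sum_add_distrib]

theorem adV_sub (v w : D.Idx → ℤ) : adV D (v - w) = adV D v - adV D w := by
  simp [adV, sub_smul, Finset.sum_sub_distrib]

theorem adV_smul (c : ℤ) (v : D.Idx → ℤ) : adV D (c • v) = c • adV D v := by
  simp only [adV, Pi.smul_apply, smul_eq_mul, ← smul_smul, Finset.smul_sum]

theorem adV_zero : adV D 0 = 0 := by simp [adV]

theorem adV_single (a : D.Idx) : adV D (Pi.single a 1) = adB D a := by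
  simp [adV, Pi.single_apply, ite_smul]

/-- `A` acts as a derivation. -/
def IsDer (A : Matrix D.Idx D.Idx ℤ) : Prop :=
  ∀ v : D.Idx → ℤ, A * adV D v - adV D v * A = adV D (A *ᵥ v)

theorem isDer_of_basis {A : Matrix D.Idx D.Idx ℤ}
    (h : ∀ b, A * adB D b - adB D b * A = adV D (fun x => A x b)) : IsDer A := by
  intro v
  have e : adV D (A *ᵥ v) = ∑ b, v b • adV D (fun x => A x b) := by
    simp only [adV, Matrix.mulVec, dotProduct, Finset.sum_smul, Finset.smul_sum, smul_smul]
    rw [Finset.sum_comm]
    simp [mul_comm]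
  rw [e, adV]
  simp only [Finset.mul_sum, Finset.sum_mul, ← Finset.sum_sub_distrib, mul_smul_comm,
    smul_mul_assoc, ← smul_sub, h]

theorem IsDer.basis {A : Matrix D.Idx D.Idx ℤ} (h : IsDer A) (b : D.Idx) :
    A * adB D b - adB D b * A = adV D (fun x => A x b) := by
  have := h (Pi.single b 1)
  rw [adV_single, Matrix.mulVec_single_one] at this
  exact this

theorem IsDer.bracket {A S : Matrix D.Idx D.Idx ℤ} (hA : IsDer A) (hS : IsDer S) :
    IsDer (A * S - S * A) := by
  intro v
  have h1 := hA (S *ᵥ v)
  have h2 := hS (A *ᵥ v)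
  rw [← hS v] at h1
  rw [← hA v] at h2
  rw [Matrix.sub_mulVec, ← Matrix.mulVec_mulVec, ← Matrix.mulVec_mulVec, adV_sub, ← h1, ← h2]
  noncomm_ring

theorem IsDer.of_smul {A : Matrix D.Idx D.Idx ℤ} {c : ℤ} (hc : c ≠ 0) (h : IsDer (c • A)) :
    IsDer A := by
  intro v
  have := h v
  rw [smul_mul_assoc, mul_smul_comm, ← smul_sub, Matrix.smul_mulVec, adV_smul] at this
  exact smul_right_injective _ hc this

theorem IsDer.leibniz {A : Matrix D.Idx D.Idx ℤ} (hA : IsDer A) :
    ∀ (k : ℕ) (v : D.Idx → ℤ), A ^ k * adV D v =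
      ∑ p ∈ Finset.HasAntidiagonal.antidiagonal k,
        k.choose p.1 • (adV D (A ^ p.1 *ᵥ v) * A ^ p.2) := by
  intro k
  induction k with
  | zero => intro v; simp
  | succ k ih =>
    intro v
    have hstep : A * adV D v = adV D (A *ᵥ v) + adV D v * A := by
      rw [← hA v]; abel
    rw [pow_succ, mul_assoc, hstep, mul_add, ← mul_assoc, ih, ih,
      Finset.sum_antidiagonal_choose_succ_nsmul (fun i j => adV D (A ^ i *ᵥ v) * A ^ j) k,
      Finset.sum_mul, add_comm]
    congr 1
    · refine Finset.sum_congr rfl fun p _ => ?_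
      rw [smul_mul_assoc, mul_assoc, ← pow_succ]
    · refine Finset.sum_congr rfl fun p hp => ?_
      rw [Matrix.mulVec_mulVec, ← pow_succ]
      rw [Finset.HasAntidiagonal.mem_antidiagonal] at hp
      rw [show k.choose p.2 = k.choose p.1 from by rw [← hp, Nat.choose_symm_add]]

namespace Facts

variable (hF : Facts D co)
include hF

theorem adRoot_bracket {a s r : ℕ} (ha : a < D.nroots) (hs : s < D.nroots)
    (h : tgt D a s = some r) (hA : IsDer (adRoot D a)) :
    adRoot D a * adRoot D s - adRoot D s * adRoot D a = str D a s • adRoot D r := by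
  have hb := hA.basis (Sum.inr ⟨s, hs⟩)
  have hne : s ≠ D.neg a := by
    intro he; rw [he, (hF.tgt_self a ha).2] at h; cases h
  obtain ⟨hr, -, -, -⟩ := hF.tgt_spec a ha s hs r h
  have hv : (fun x => adRoot D a x (Sum.inr ⟨s, hs⟩)) =
      str D a s • Pi.single (Sum.inr ⟨r, hr⟩) 1 := by
    funext x
    rcases x with j | u
    · simp [adRoot_inl_inr, hne]
    · simp only [adRoot_inr_inr, h, Option.some.injEq, Pi.smul_apply, Pi.single_apply,
        Sum.inr.injEq, Fin.ext_iff, smul_eq_mul]
      by_cases hu : r = u.val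
      · simp [hu]
      · simp [hu, Ne.symm hu]
  rw [hv, adV_smul, adV_single] at hb
  exact hb

theorem isDer_gen {a : ℕ} (ha : IsGen D a) : IsDer (adRoot D a) :=
  isDer_of_basis (hF.deriv a ha)

theorem gen_lt {a : ℕ} (ha : IsGen D a) : a < D.nroots := by
  obtain ⟨i, hi, rfl | rfl⟩ := ha
  · exact hF.simple_lt' hi
  · exact hF.neg_lt (hF.simple_lt' hi)

theorem isDer_root : ∀ {r : ℕ}, r < D.nroots → IsDer (adRoot D r) := by
  suffices ∀ m r : ℕ, (if D.nroots / 2 ≤ r then r else D.nroots - r) = m → r < D.nroots →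
      IsDer (adRoot D r) from fun {r} hr => this _ r rfl hr
  intro m
  induction m using Nat.strong_induction_on with
  | _ m ih =>
    intro r hm hr
    by_cases hg : IsGen D r
    · exact hF.isDer_gen hg
    obtain ⟨a, s, ha, hs, ht, hp, hn⟩ := hF.gen_step r hr hg
    have hS : IsDer (adRoot D s) := by
      refine ih _ ?_ s rfl hs
      by_cases h2 : D.nroots / 2 ≤ r
      · obtain ⟨h3, h4⟩ := hp h2
        simp only [if_pos h3, if_pos h2] at hm ⊢; omega
      · obtain ⟨h3, h4⟩ := hn (by omega)
        simp only [if_neg (by omega : ¬ D.nroots / 2 ≤ s), if_neg h2] at hm ⊢; omega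
    have hne := (hF.tgt_spec a (hF.gen_lt ha) s hs r ht).2.2.2
    apply IsDer.of_smul hne
    rw [← hF.adRoot_bracket (hF.gen_lt ha) hs ht (hF.isDer_gen ha)]
    exact (hF.isDer_gen ha).bracket hS

theorem divPow_mul_adV {r : ℕ} (hr : r < D.nroots) (k : ℕ) (v : D.Idx → ℤ) :
    divPow D r k * adV D v =
      ∑ p ∈ Finset.HasAntidiagonal.antidiagonal k,
        adV D (divPow D r p.1 *ᵥ v) * divPow D r p.2 := by
  apply natsmul_cancel k.factorial_ne_zero
  rw [← smul_mul_assoc, ← hF.adRoot_pow hr, (hF.isDer_root hr).leibniz k v, Finset.smul_sum]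
  refine Finset.sum_congr rfl fun p hp => ?_
  rw [Finset.HasAntidiagonal.mem_antidiagonal] at hp
  rw [hF.adRoot_pow hr, hF.adRoot_pow hr, ← hp, Matrix.smul_mulVec]
  rw [show adV D (p.1.factorial • divPow D r p.1 *ᵥ v) =
    p.1.factorial • adV D (divPow D r p.1 *ᵥ v) from by
      rw [← natCast_zsmul, adV_smul, natCast_zsmul]]
  rw [smul_mul_smul_comm, smul_smul, ← Nat.add_choose_mul_factorial_mul_factorial]
  congr 1
  rw [Nat.choose_symm_add]
  ring

end Facts

/-! ### Over a commutative ring -/

variable {R : Type*} [CommRing R]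

/-- An integer matrix read over `R`. -/
abbrev castM (R : Type*) [CommRing R] :
    Matrix D.Idx D.Idx ℤ →+* Matrix D.Idx D.Idx R :=
  (Int.castRingHom R).mapMatrix

/-- The root element `x_r(t)` over a commutative ring. -/
def xR (D : ChevalleyDatum) {R : Type*} [CommRing R] (r : ℕ) (t : R) :
    Matrix D.Idx D.Idx R :=
  ∑ k ∈ Finset.range 4, t ^ k • castM R (divPow D r k)

/-- The adjoint matrix of a vector over `R`. -/
def adR (D : ChevalleyDatum) {R : Type*} [CommRing R] (v : D.Idx → R) : Matrix D.Idx D.Idx R :=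
  ∑ a, v a • castM R (adB D a)

theorem adR_cast (v : D.Idx → ℤ) : adR D (fun a => (v a : R)) = castM R (adV D v) := by
  simp only [adR, adV, map_sum, map_zsmul, Int.cast_smul_eq_zsmul]

theorem xR_zero (r : ℕ) : xR D r (0 : R) = 1 := by
  simp [xR, Finset.sum_range_succ, divPow]

theorem xR_map {S : Type*} [CommRing S] (φ : R →+* S) (r : ℕ) (t : R) :
    (xR D r t).map φ = xR D r (φ t) := by
  ext a b
  simp [xR, Finset.sum_range_succ, Matrix.map_apply]

theorem adR_map {S : Type*} [CommRing S] (φ : R →+* S) (v : D.Idx → R) :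
    (adR D v).map φ = adR D (φ ∘ v) := by
  ext a b
  simp [adR, Matrix.map_apply, Matrix.sum_apply]

theorem castM_natsmul (n : ℕ) (A : Matrix D.Idx D.Idx ℤ) :
    castM R (n • A) = (n : R) • castM R A := by
  rw [map_nsmul, Nat.cast_smul_eq_nsmul]

namespace Facts

variable (hF : Facts D co)
include hF

theorem xR_mul {r : ℕ} (hr : r < D.nroots) (t u : R) : xR D r t * xR D r u = xR D r (t + u) := by
  have hm : ∀ i j, castM R (divPow D r i) * castM R (divPow D r j) =
      ((i + j).choose i : R) • castM R (divPow D r (i + j)) := fun i j => by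
    rw [← map_mul, hF.divPow_mul hr, castM_natsmul]
  simp only [xR, Finset.sum_range_succ, Finset.sum_range_zero, zero_add, mul_add, add_mul,
    smul_mul_assoc, mul_smul_comm, smul_smul, hm]
  simp only [Nat.reduceAdd, Nat.choose, hF.divPow_eq_zero hr (le_refl 4),
    hF.divPow_eq_zero hr (show 4 ≤ 5 by norm_num), hF.divPow_eq_zero hr (show 4 ≤ 6 by norm_num),
    map_zero, smul_zero, add_zero]
  push_cast
  module

theorem xR_mul_neg {r : ℕ} (hr : r < D.nroots) (t : R) : xR D r t * xR D r (-t) = 1 := by
  rw [hF.xR_mul hr, add_neg_cancel, xR_zero]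

theorem xR_neg_mul {r : ℕ} (hr : r < D.nroots) (t : R) : xR D r (-t) * xR D r t = 1 := by
  rw [hF.xR_mul hr, neg_add_cancel, xR_zero]

theorem xR_auto {r : ℕ} (hr : r < D.nroots) (t : R) (v : D.Idx → R) :
    xR D r t * adR D v = adR D (xR D r t *ᵥ v) * xR D r t := by
  have key : ∀ b, xR D r t * castM R (adB D b) =
      adR D (fun a => xR D r t a b) * xR D r t := by
    intro b
    have hk : ∀ k, castM R (divPow D r k) * castM R (adB D b) =
        ∑ p ∈ Finset.HasAntidiagonal.antidiagonal k,
          castM R (adV D (fun a => divPow D r p.1 a b)) * castM R (divPow D r p.2) := fun k => by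
      rw [← map_mul, ← adV_single b, hF.divPow_mul_adV hr, map_sum]
      refine Finset.sum_congr rfl fun p _ => ?_
      rw [map_mul, Matrix.mulVec_single_one]
      rfl
    have hR : adR D (fun a => xR D r t a b) =
        ∑ i ∈ Finset.range 4, t ^ i • castM R (adV D (fun a => divPow D r i a b)) := by
      simp only [← adR_cast]
      simp only [adR, xR, Matrix.sum_apply, Matrix.smul_apply, Finset.smul_sum, Finset.sum_smul]
      rw [Finset.sum_comm]
      simp [smul_smul]
    have hL : xR D r t * castM R (adB D b) =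
        ∑ k ∈ Finset.range 7, t ^ k • (castM R (divPow D r k) * castM R (adB D b)) := by
      simp [xR, Finset.sum_range_succ, add_mul, hF.divPow_eq_zero hr (le_refl 4),
        hF.divPow_eq_zero hr (show 4 ≤ 5 by norm_num),
        hF.divPow_eq_zero hr (show 4 ≤ 6 by norm_num)]
    have hz : ∀ i, 4 ≤ i → castM R (adV D (fun a => divPow D r i a b)) = 0 := fun i hi => by
      rw [hF.divPow_eq_zero hr hi]
      exact (congrArg _ adV_zero).trans (map_zero _)
    rw [hL, hR]
    simp only [xR, hk, Finset.Nat.sum_antidiagonal_eq_sum_range_succ_mk, Finset.sum_range_succ,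
      Finset.sum_range_zero, zero_add]
    simp only [Nat.sub_zero, Nat.sub_self, Nat.reduceSub]
    simp only [hz 4 le_rfl, hz 5 (by norm_num), hz 6 (by norm_num)]
    simp only [hF.divPow_eq_zero hr (le_refl 4),
      hF.divPow_eq_zero hr (show 4 ≤ 5 by norm_num), hF.divPow_eq_zero hr (show 4 ≤ 6 by norm_num),
      map_zero, zero_mul, mul_zero, add_zero, zero_add]
    simp only [mul_add, add_mul, smul_mul_assoc, mul_smul_comm, smul_smul, smul_add]
    module
  calc xR D r t * adR D v = ∑ b, v b • (xR D r t * castM R (adB D b)) := by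
        simp only [adR, Finset.mul_sum, mul_smul_comm]
    _ = ∑ b, v b • (adR D (fun a => xR D r t a b) * xR D r t) := by simp only [key]
    _ = adR D (xR D r t *ᵥ v) * xR D r t := by
        simp only [adR, Matrix.mulVec, dotProduct, Finset.sum_mul, Finset.smul_sum,
          Finset.sum_smul, smul_mul_assoc, smul_smul]
        rw [Finset.sum_comm]
        simp [mul_comm]

end Facts

/-! ### Gradings -/

section Weight

variable {A : Type*} [AddCommGroup A]

/-- The weight of a coordinate for a function on roots. -/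
def wt (D : ChevalleyDatum) (w : ℕ → A) : D.Idx → A := Sum.elim (fun _ => 0) (fun s => w s.val)

/-- `w` is additive on roots. -/
structure IsWeight (D : ChevalleyDatum) (w : ℕ → A) : Prop where
  neg : ∀ r < D.nroots, w (D.neg r) = -w r
  add : ∀ r < D.nroots, ∀ s < D.nroots, ∀ k, tgt D r s = some k → w k = w r + w s

theorem Facts.chainRoot_wt (hF : Facts D co) {w : ℕ → A} (hw : IsWeight D w) {r s : ℕ}
    (hr : r < D.nroots) (hs : s < D.nroots) :
    ∀ {k u : ℕ}, 1 ≤ k → D.chainRoot r s k = some u → w u = k • w r + w s := by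
  intro k
  induction k with
  | zero => intro u h; omega
  | succ k ih =>
    intro u _ h
    rcases Nat.eq_zero_or_pos k with hk | hk
    · subst hk
      rw [one_nsmul]
      exact hw.add r hr s hs u h
    · rw [hF.chain_succ r hr s hs k hk] at h
      obtain ⟨v, hv, hvu⟩ := Option.bind_eq_some_iff.mp h
      rw [hw.add r hr v (hF.chainRoot_spec hr hs hk hv).1 u hvu, ih hk hv, succ_nsmul]
      abel

theorem Facts.divPow_wt (hF : Facts D co) {w : ℕ → A} (hw : IsWeight D w) {r : ℕ}
    (hr : r < D.nroots) (k : ℕ) {a b : D.Idx} (h : divPow D r k a b ≠ 0) :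
    wt D w a = k • w r + wt D w b := by
  rcases k with _ | k
  · have : a = b := by
      by_contra hne; exact h (by simp [divPow, hne])
    simp [this]
  rcases b with i | s
  · rcases k with _ | k
    · rcases a with j | u
      · exact absurd (adRoot_inl_inl r j i) h
      · have hu : u.val = r := by
          by_contra hne; exact h (by simp [divPow, adRoot_inr_inl, hne])
        simp [wt, hu]
    · exact absurd (divPow_ge_two_inl_col r k a i) h
  by_cases hs : s.val = D.neg r
  · rcases k with _ | _ | k
    · rcases a with j | u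
      · simp [wt, hs, hw.neg r hr]
      · exfalso
        apply h
        simp [divPow, adRoot_inr_inr, hs, (hF.tgt_self r hr).2]
    · rcases a with j | u
      · exact absurd (divPow_ge_two_inl_row r 0 j _) h
      · have hu : u.val = r := by
          by_contra hne; exact h (by simp [divPow, hs, hne])
        simp [wt, hs, hu, hw.neg r hr, two_nsmul]
    · exfalso
      apply h
      rcases a with j | u
      · exact divPow_ge_two_inl_row r (k + 1) j _
      · simp [divPow, hs]
  · rcases a with j | u
    · exact absurd (divPow_col_inl r k s hs j) h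
    · rw [divPow_col_inr r k s hs] at h
      split_ifs at h with hc
      · exact hF.chainRoot_wt hw hr s.isLt (by omega) hc
      · exact absurd rfl h

theorem Facts.adB_wt (hF : Facts D co) {w : ℕ → A} (hw : IsWeight D w) {x a b : D.Idx}
    (h : adB D x a b ≠ 0) : wt D w a = wt D w x + wt D w b := by
  rcases x with i | s
  · have hab : a = b := by
      by_contra hne; exact h (by simp [adB, adCoroot, hne])
    simp [wt, hab]
  · have := hF.divPow_wt hw s.isLt 1 (a := a) (b := b) h
    simpa [wt] using this

theorem Facts.isWeight_co (hF : Facts D co) {j : ℕ} (hj : j < D.rank) :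
    IsWeight D (fun r => co r j) :=
  ⟨fun r hr => hF.co_neg r hr j hj, fun r hr s hs k h => hF.co_add r hr s hs k h j hj⟩

theorem Facts.isWeight_cartan (hF : Facts D co) {i : ℕ} (hi : i < D.rank) :
    IsWeight D (fun r => D.cartan i r) :=
  ⟨fun r hr => hF.cartan_neg r hr i hi, fun r hr s hs k h => hF.cartan_add r hr s hs k h i hi⟩

theorem Facts.isWeight_omega (hF : Facts D co) : IsWeight D (omega D co) := by
  have key : ∀ f : ℕ → ℤ, ((List.range D.rank).map f).sum = ∑ j ∈ Finset.range D.rank, f j :=
    fun f => rfl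
  refine ⟨fun r hr => ?_, fun r hr s hs k h => ?_⟩
  · simp only [omega, key, ← Finset.sum_neg_distrib]
    exact Finset.sum_congr rfl fun j hj => by
      rw [hF.co_neg r hr j (Finset.mem_range.mp hj), neg_mul]
  · simp only [omega, key, ← Finset.sum_add_distrib]
    exact Finset.sum_congr rfl fun j hj => by
      rw [hF.co_add r hr s hs k h j (Finset.mem_range.mp hj), add_mul]

end Weight

/-! ### Diagonal matrices of characters -/

/-- The diagonal matrix of a function on root indices. -/
def diagC (D : ChevalleyDatum) (χ : ℕ → Rˣ) : Matrix D.Idx D.Idx R :=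
  Matrix.diagonal (Sum.elim (fun _ => (1 : R)) (fun s => (χ s.val : R)))

theorem diagC_apply_wt (χ : ℕ → Rˣ) (a : D.Idx) :
    Sum.elim (fun _ : Fin D.rank => (1 : R)) (fun s : Fin D.nroots => (χ s.val : R)) a =
      ((wt D (fun r => Additive.ofMul (χ r)) a).toMul : Rˣ) := by
  rcases a with j | u <;> rfl

theorem diagC_mul (χ ψ : ℕ → Rˣ) :
    diagC D χ * diagC D ψ = diagC D (fun r => χ r * ψ r) := by
  rw [diagC, diagC, diagC, Matrix.diagonal_mul_diagonal]
  congr 1
  funext a
  rcases a with j | u <;> simp

theorem diagC_one : diagC D (fun _ => (1 : Rˣ)) = 1 := by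
  rw [diagC, ← Matrix.diagonal_one]
  congr 1
  funext a
  rcases a with j | u <;> simp

theorem diagC_congr {χ ψ : ℕ → Rˣ} (h : ∀ r < D.nroots, χ r = ψ r) : diagC D χ = diagC D ψ := by
  rw [diagC, diagC]
  congr 1
  funext a
  rcases a with j | u
  · rfl
  · simp [h u.val u.isLt]

theorem Facts.diagC_conj (hF : Facts D co) {χ : ℕ → Rˣ}
    (hχ : IsWeight D (fun r => Additive.ofMul (χ r))) {r : ℕ} (hr : r < D.nroots) (t : R) :
    diagC D χ * xR D r t = xR D r ((χ r : R) * t) * diagC D χ := by
  ext a b
  rw [diagC, Matrix.diagonal_mul, Matrix.mul_diagonal, diagC_apply_wt, diagC_apply_wt]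
  simp only [xR, Matrix.sum_apply, Matrix.smul_apply, Finset.mul_sum, Finset.sum_mul]
  refine Finset.sum_congr rfl fun k _ => ?_
  by_cases h : divPow D r k a b = 0
  · simp [RingHom.mapMatrix_apply, Matrix.map_apply, h]
  · rw [hF.divPow_wt hχ hr k h, toMul_add, toMul_nsmul, toMul_ofMul, Units.val_mul,
      Units.val_pow_eq_pow_val]
    simp only [smul_eq_mul, mul_pow]
    ring

/-! ### Agreement with the prelude -/

theorem chainEntry_eq_getD (r s : ℕ) : D.chainEntry r s =
    match (D.chain.getD r #[]).toList.find? (fun e => e.1 = s) with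
    | none => []
    | some e => e.2.toList := rfl

theorem filter_eq_find {β : Type*} (s : ℕ) :
    ∀ l : List (ℕ × β), (l.map Prod.fst).Nodup →
      l.filter (fun e => decide (e.1 = s)) = (l.find? (fun e => decide (e.1 = s))).toList
  | [], _ => rfl
  | a :: l, hd => by
    simp only [List.map_cons, List.nodup_cons] at hd
    by_cases ha : a.1 = s
    · simp only [List.filter_cons, List.find?_cons, ha, decide_true, if_true, Option.toList_some]
      rw [List.filter_eq_nil_iff.mpr]
      intro e he
      simp only [decide_eq_true_eq]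
      intro hes
      exact hd.1 (List.mem_map.mpr ⟨e, he, hes.trans ha.symm⟩)
    · simp only [List.filter_cons, List.find?_cons, ha, decide_false, Bool.false_eq_true, if_false]
      exact filter_eq_find s l hd.2

theorem Facts.chainCoeff_eq (hF : Facts D co) {r : ℕ} (hr : r < D.nroots) (s u : ℕ) :
    D.chainCoeff r s u =
      (((D.chainEntry r s).zipIdx).filter (fun q => q.1.1 = u)).map
        fun q => (q.2 + 1, q.1.2) := by
  rw [ChevalleyDatum.chainCoeff, filter_eq_find s _ (hF.keys_nodup r hr),
    ChevalleyDatum.chainEntry]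
  cases h : List.find? (fun e => decide (e.1 = s)) (D.chain.getD r #[]).toList <;> simp

theorem sum_zipIdx_filter (f : ℤ → ℕ → R) (u : ℕ) :
    ∀ (l : List (ℕ × ℤ)), l.length ≤ 3 →
      ((((l.zipIdx).filter (fun q => q.1.1 = u)).map fun q => (q.2 + 1, q.1.2)).map
          fun km => f km.2 km.1).sum =
        ∑ k ∈ Finset.range 3,
          if (l[k]?).map Prod.fst = some u then f (((l[k]?).map Prod.snd).getD 0) (k + 1) else 0
  | [], _ => by simp
  | [a], _ => by
    by_cases h : a.1 = u <;> simp [Finset.sum_range_succ, h]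
  | [a, b], _ => by
    by_cases h : a.1 = u <;> by_cases h' : b.1 = u <;>
      simp [Finset.sum_range_succ, List.zipIdx_cons, h, h']
  | [a, b, c], _ => by
    by_cases h : a.1 = u <;> by_cases h' : b.1 = u <;> by_cases h'' : c.1 = u <;>
      simp [Finset.sum_range_succ, List.zipIdx_cons, h, h', h'', add_assoc]
  | _ :: _ :: _ :: _ :: _, h => by simp only [List.length_cons] at h; omega

theorem Facts.xMat_eq (hF : Facts D co) {F : Type*} [Field F] (r : Fin D.nroots) (t : F) :
    D.xMat F r t = xR D r.val t := by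
  have hr := r.isLt
  ext a b
  simp only [xR, Finset.sum_range_succ, Finset.sum_range_zero, zero_add, Matrix.add_apply,
    Matrix.smul_apply, RingHom.mapMatrix_apply, Matrix.map_apply, Int.coe_castRingHom, pow_zero,
    pow_one, one_mul, smul_eq_mul]
  rcases b with i | s
  · simp only [divPow_ge_two_inl_col, divPow, adRoot, Matrix.one_apply, ChevalleyDatum.xMat,
      Matrix.of_apply]
    rcases a with j | u
    · by_cases h : j = i <;> simp [h]
    · by_cases h : u = r
      · subst h; simp [ChevalleyDatum.cartan, mul_comm]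
      · simp [h, Fin.val_ne_of_ne h]
  by_cases hsr : s = r
  · subst hsr
    have h0 : ∀ k, divPow D s.val (k + 1) a (Sum.inr s) = 0 := by
      intro k
      have hne : s.val ≠ D.neg s.val := (hF.neg_ne hr).symm
      rcases a with j | u
      · exact divPow_col_inl _ _ _ hne _
      · rw [divPow_col_inr _ _ _ hne, if_neg]
        intro h
        have h1 := hF.chainRoot_spec hr hr (by omega) h
        have hnone : D.chainRoot s.val s.val (k + 1) = none := by
          clear h h1
          induction k with
          | zero => exact (hF.tgt_self _ hr).1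
          | succ k ih => rw [hF.chain_succ _ hr _ hr (k + 1) (by omega), ih]; rfl
        rw [hnone] at h; cases h
    rw [h0 0, h0 1, h0 2]
    rcases a with j | u
    · simp [ChevalleyDatum.xMat, divPow]
    · by_cases h : u = s <;> simp [ChevalleyDatum.xMat, divPow, Matrix.one_apply, h]
  by_cases hs : s.val = D.neg r.val
  · simp only [ChevalleyDatum.xMat, Matrix.of_apply, if_neg hsr]
    rw [if_pos (show s.val = D.negIdx.getD r.val 0 from hs)]
    have hrs : r ≠ s := Ne.symm hsr
    rcases a with j | u
    · simp [divPow, adRoot_inl_inr, hs, cor, mul_comm]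
    · simp only [divPow, adRoot_inr_inr, hs, (hF.tgt_self _ hr).2, Matrix.one_apply,
        Sum.inr.injEq, Matrix.of_apply]
      by_cases h : u = s
      · subst h
        simp [Fin.val_ne_of_ne hsr]
      · by_cases h' : u = r
        · subst h'; simp [hrs]
        · simp [h, h', Fin.val_ne_of_ne h']
  · simp only [ChevalleyDatum.xMat, Matrix.of_apply, if_neg hsr]
    rw [if_neg (show ¬ s.val = D.negIdx.getD r.val 0 from hs)]
    rcases a with j | u
    · simp [divPow, adRoot_inl_inr, divPow_ge_two_inl_row, hs]
    · dsimp only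
      rw [hF.chainCoeff_eq hr,
        sum_zipIdx_filter (fun m k => (m : F) * t ^ k) u.val _
          (hF.chain_len _ hr _ s.isLt)]
      rw [show divPow D r.val 1 (Sum.inr u) (Sum.inr s) = _ from divPow_col_inr _ 0 s hs u,
        show divPow D r.val 2 (Sum.inr u) (Sum.inr s) = _ from divPow_col_inr _ 1 s hs u,
        show divPow D r.val 3 (Sum.inr u) (Sum.inr s) = _ from divPow_col_inr _ 2 s hs u]
      simp only [Finset.sum_range_succ, Finset.sum_range_zero, zero_add, Nat.reduceAdd,
        ChevalleyDatum.chainRoot, ChevalleyDatum.chainM, Nat.add_sub_cancel, pow_one, divPow,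
        Matrix.one_apply, Sum.inr.injEq]
      norm_num only
      simp only [apply_ite (Int.cast : ℤ → F), Int.cast_zero, Int.cast_one, mul_ite, mul_zero]
      simp only [mul_comm (t ^ _), mul_comm t]
      ring

theorem Facts.x_eq (hF : Facts D co) {F : Type*} [Field F] {r : ℕ} (hr : r < D.nroots) (t : F) :
    D.x F r t = xR D r t := by
  rw [ChevalleyDatum.x, dif_pos hr, hF.xMat_eq]

end CfsgLib.Chev
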