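/-
Chevalley's commutator formula over an arbitrary commutative ring for data with short chains.
-/
import Mathlib
import Cfsg.Agent.Lib.Chev.Root

set_option autoImplicit false

namespace CfsgLib.Chev

open Cfsg.Lie
open scoped Matrix

variable {D : ChevalleyDatum} {co : ℕ → ℕ → ℤ} {R : Type*} [CommRing R]

/-- The matrix of a word in root elements over a commutative ring. -/
def wR (D : ChevalleyDatum) {R : Type*} [CommRing R] (w : List (ℕ × R)) :
    Matrix D.Idx D.Idx R :=
  (w.map fun p => xR D p.1 p.2).prod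

/-- The right-hand side word of the commutator formula over a commutative ring. -/
def cwR (D : ChevalleyDatum) {R : Type*} [CommRing R] (r s : ℕ) (t u : R) : List (ℕ × R) :=
  (D.commTerms r s).map fun c => (c.1, (c.2.1 : R) * (-t) ^ c.2.2.1 * u ^ c.2.2.2)

/-- The commutator formula of a datum over every commutative ring. -/
def CommF.{w} (D : ChevalleyDatum) : Prop :=
  ∀ (R : Type w) [CommRing R], ∀ r < D.nroots, ∀ s < D.nroots, s ≠ r → s ≠ D.neg r → ∀ t u : R,
    xR D s u * xR D r t = xR D r t * xR D s u * wR D (cwR D r s t u)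

theorem wR_nil : wR D ([] : List (ℕ × R)) = 1 := rfl

theorem wR_cons (p : ℕ × R) (w : List (ℕ × R)) : wR D (p :: w) = xR D p.1 p.2 * wR D w := by
  simp [wR]

theorem wR_append (v w : List (ℕ × R)) : wR D (v ++ w) = wR D v * wR D w := by
  simp [wR]

theorem wR_map {S : Type*} [CommRing S] (φ : R →+* S) (w : List (ℕ × R)) :
    (wR D w).map φ = wR D (w.map fun p => (p.1, φ p.2)) := by
  induction w with
  | nil => simp [wR]
  | cons p w ih =>
    rw [wR_cons, List.map_cons, wR_cons, Matrix.map_mul, ih, xR_map]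

theorem Facts.adRoot_commute (hF : Facts D co) {a b : ℕ} (ha : a < D.nroots) (hb : b < D.nroots)
    (h : tgt D a b = none) (h' : b ≠ D.neg a) : Commute (adRoot D a) (adRoot D b) := by
  have h0 : (fun x => adRoot D a x (Sum.inr ⟨b, hb⟩)) = 0 := by
    funext x
    rcases x with j | u
    · simp [adRoot_inl_inr, h']
    · simp [adRoot_inr_inr, h]
  have := (hF.isDer_root ha).basis (Sum.inr ⟨b, hb⟩)
  rw [h0, adV_zero, sub_eq_zero] at this
  exact this

theorem Facts.xR_col (hF : Facts D co) {r s : ℕ} (hr : r < D.nroots) (hs : s < D.nroots)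
    (h : s ≠ D.neg r) (t : R) (a : D.Idx) :
    xR D r t a (Sum.inr ⟨s, hs⟩) = (if a = Sum.inr ⟨s, hs⟩ then 1 else 0) +
      ∑ k ∈ Finset.range 3,
        t ^ (k + 1) * ((Sum.elim (fun _ => 0) (fun u : Fin D.nroots =>
          if D.chainRoot r s (k + 1) = some u.val then D.chainM r s (k + 1) else 0) a : ℤ) : R) := by
  have _ := hF
  have _ := hr
  rw [xR, Finset.sum_range_succ', Matrix.add_apply, Matrix.sum_apply, add_comm]
  congr 1
  · simp [divPow, Matrix.one_apply]
  · refine Finset.sum_congr rfl fun k _ => ?_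
    simp only [Matrix.smul_apply, RingHom.mapMatrix_apply, Matrix.map_apply, smul_eq_mul,
      Int.coe_castRingHom]
    congr 2
    rcases a with j | u
    · exact divPow_col_inl r k ⟨s, hs⟩ h j
    · exact divPow_col_inr r k ⟨s, hs⟩ h u

/-- The hypothesis that the entries of a chain commute. -/
def ChainComm (D : ChevalleyDatum) (r s : ℕ) : Prop :=
  ∀ a ∈ s :: (D.chainEntry r s).map Prod.fst, ∀ b ∈ s :: (D.chainEntry r s).map Prod.fst,
    tgt D a b = none ∧ b ≠ D.neg a

theorem Facts.entry_lt (hF : Facts D co) {r s : ℕ} (hr : r < D.nroots) (hs : s < D.nroots)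
    {a : ℕ} (ha : a ∈ s :: (D.chainEntry r s).map Prod.fst) : a < D.nroots := by
  rcases List.mem_cons.1 ha with rfl | ha
  · exact hs
  · obtain ⟨i, hi, rfl⟩ := List.mem_iff_getElem.1 ha
    rw [List.length_map] at hi
    refine (hF.chainRoot_spec hr hs (k := i + 1) (by omega) ?_).1
    simp [ChevalleyDatum.chainRoot, hi]

section Exp

variable {K : Type*} [CommRing K] [Algebra ℚ K]

theorem Facts.adR_pow_zero (hF : Facts D co) {r : ℕ} (hr : r < D.nroots) (t : K) :
    (t • castM K (adRoot D r)) ^ 4 = 0 := by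
  rw [smul_pow, ← map_pow, hF.adRoot_pow hr, hF.divPow_eq_zero hr le_rfl]
  simp

theorem Facts.xR_eq_exp (hF : Facts D co) {r : ℕ} (hr : r < D.nroots) (t : K) :
    xR D r t = IsNilpotent.exp (t • castM K (adRoot D r)) := by
  rw [IsNilpotent.exp_eq_sum (hF.adR_pow_zero hr t), xR]
  refine Finset.sum_congr rfl fun k _ => ?_
  rw [smul_pow, ← map_pow, hF.adRoot_pow hr, map_nsmul, smul_comm (t ^ k) (k.factorial),
    ← Nat.cast_smul_eq_nsmul ℚ, smul_smul,
    inv_mul_cancel₀ (by exact_mod_cast k.factorial_ne_zero), one_smul]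

theorem mul_exp_eq {A : Type*} [Ring A] [Module ℚ A] {g a b : A} (ha : IsNilpotent a)
    (hb : IsNilpotent b) (h : g * a = b * g) :
    g * IsNilpotent.exp a = IsNilpotent.exp b * g := by
  obtain ⟨n, hn⟩ := ha
  obtain ⟨m, hm⟩ := hb
  rw [IsNilpotent.exp_eq_sum (k := n + m) (pow_eq_zero_of_le (by omega) hn),
    IsNilpotent.exp_eq_sum (k := n + m) (pow_eq_zero_of_le (by omega) hm),
    Finset.mul_sum, Finset.sum_mul]
  refine Finset.sum_congr rfl fun i _ => ?_
  rw [mul_smul_comm, smul_mul_assoc, (SemiconjBy.pow_right h i).eq]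

theorem Facts.conj_of_chain_Q (hF : Facts D co) {r s : ℕ} (hr : r < D.nroots) (hs : s < D.nroots)
    (hneg : s ≠ D.neg r) (hlen : (D.chainEntry r s).length ≤ 2) (hc : ChainComm D r s) (t u : K) :
    xR D r t * xR D s u = xR D s u *
      wR D ((D.chainEntry r s).zipIdx.map fun q => (q.1.1, (q.1.2 : K) * t ^ (q.2 + 1) * u)) *
        xR D r t := by
  have hnil : ∀ {a : ℕ}, a < D.nroots → ∀ c : K, IsNilpotent (c • castM K (adRoot D a)) :=
    fun ha c => ⟨4, hF.adR_pow_zero ha c⟩
  have hcm : ∀ a ∈ s :: (D.chainEntry r s).map Prod.fst,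
      ∀ b ∈ s :: (D.chainEntry r s).map Prod.fst, ∀ c d : K,
        Commute (c • castM K (adRoot D a)) (d • castM K (adRoot D b)) := fun a ha b hb c d =>
    (((hF.adRoot_commute (hF.entry_lt hr hs ha) (hF.entry_lt hr hs hb) (hc a ha b hb).1
      (hc a ha b hb).2).map (castM K)).smul_left c).smul_right d
  set v : D.Idx → K := fun a => xR D r t a (Sum.inr ⟨s, hs⟩) * u with hv
  have hauto : xR D r t * (u • castM K (adRoot D s)) = adR D v * xR D r t := by
    have h := hF.xR_auto hr t (Pi.single (Sum.inr ⟨s, hs⟩) u)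
    rw [Matrix.mulVec_single] at h
    have e : adR D (Pi.single (Sum.inr ⟨s, hs⟩ : D.Idx) u) = u • castM K (adRoot D s) := by
      simp only [adR, Pi.single_apply, ite_smul, zero_smul]
      rw [Finset.sum_ite_eq' Finset.univ]
      simp [adB]
    rw [e] at h
    exact h
  have e1 : adR D (Pi.single (Sum.inr ⟨s, hs⟩ : D.Idx) u) = u • castM K (adRoot D s) := by
    simp only [adR, Pi.single_apply, ite_smul, zero_smul]
    rw [Finset.sum_ite_eq' Finset.univ]
    simp [adB]
  have adR_add : ∀ v w : D.Idx → K, adR D (v + w) = adR D v + adR D w := fun v w => by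
    simp [adR, add_smul, Finset.sum_add_distrib]
  have e2 : ∀ (a : ℕ) (ha : a < D.nroots) (c : K),
      adR D (Pi.single (Sum.inr ⟨a, ha⟩ : D.Idx) c) = c • castM K (adRoot D a) := fun a ha c => by
    simp only [adR, Pi.single_apply, ite_smul, zero_smul]
    rw [Finset.sum_ite_eq' Finset.univ]
    simp [adB]
  match hL : D.chainEntry r s, hlen with
  | [], _ =>
    have : v = Pi.single (Sum.inr ⟨s, hs⟩) u := by
      funext a
      rw [hv]
      simp only [hF.xR_col hr hs hneg]
      rcases a with j | x <;>
        simp [ChevalleyDatum.chainRoot, hL, Pi.single_apply, Finset.sum_range_succ]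
    rw [this, e1] at hauto
    simp only [List.zipIdx_nil, List.map_nil, wR_nil, mul_one]
    rw [hF.xR_eq_exp hs]
    exact mul_exp_eq (hnil hs u) (hnil hs u) hauto
  | [(k, m)], _ =>
    have hk : k < D.nroots := hF.entry_lt hr hs (by simp [hL])
    have : v = Pi.single (Sum.inr ⟨s, hs⟩) u +
        Pi.single (Sum.inr ⟨k, hk⟩) ((m : K) * t * u) := by
      funext a
      rw [hv]
      simp only [hF.xR_col hr hs hneg]
      rcases a with j | x
      · simp [Finset.sum_range_succ]
      · simp only [ChevalleyDatum.chainRoot, ChevalleyDatum.chainM, hL, Finset.sum_range_succ,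
          Finset.sum_range_zero, Pi.add_apply, Pi.single_apply, Sum.inr.injEq, Fin.ext_iff,
          Sum.elim_inr]
        simp only [eq_comm (a := x.val)]
        by_cases h1 : s = x.val <;> by_cases h2 : k = x.val <;> simp [h1, h2] <;> ring
    rw [this, adR_add, e1, e2] at hauto
    have c1 := hcm s (by simp) k (by simp [hL]) u ((m : K) * t * u)
    simp only [List.zipIdx_cons, List.zipIdx_nil, List.map_cons, List.map_nil, wR_cons, wR_nil,
      mul_one, zero_add, pow_one]
    rw [hF.xR_eq_exp hs, hF.xR_eq_exp hk,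
      ← IsNilpotent.exp_add_of_commute c1 (hnil hs _) (hnil hk _)]
    exact mul_exp_eq (hnil hs u) (c1.isNilpotent_add (hnil hs _) (hnil hk _)) hauto
  | [(k, m), (k', m')], _ =>
    have hk : k < D.nroots := hF.entry_lt hr hs (by simp [hL])
    have hk' : k' < D.nroots := hF.entry_lt hr hs (by simp [hL])
    have : v = Pi.single (Sum.inr ⟨s, hs⟩) u + (Pi.single (Sum.inr ⟨k, hk⟩) ((m : K) * t * u) +
        Pi.single (Sum.inr ⟨k', hk'⟩) ((m' : K) * t ^ 2 * u)) := by
      funext a
      rw [hv]
      simp only [hF.xR_col hr hs hneg]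
      rcases a with j | x
      · simp [Finset.sum_range_succ]
      · simp only [ChevalleyDatum.chainRoot, ChevalleyDatum.chainM, hL, Finset.sum_range_succ,
          Finset.sum_range_zero, Pi.add_apply, Pi.single_apply, Sum.inr.injEq, Fin.ext_iff,
          Sum.elim_inr]
        simp only [eq_comm (a := x.val)]
        by_cases h1 : s = x.val <;> by_cases h2 : k = x.val <;> by_cases h3 : k' = x.val <;>
          simp [h1, h2, h3] <;> ring
    rw [this, adR_add, adR_add, e1, e2, e2] at hauto
    have c1 := hcm k (by simp [hL]) k' (by simp [hL]) ((m : K) * t * u) ((m' : K) * t ^ 2 * u)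
    have c2 := (hcm s (by simp) k (by simp [hL]) u ((m : K) * t * u)).add_right
      (hcm s (by simp) k' (by simp [hL]) u ((m' : K) * t ^ 2 * u))
    have n1 := c1.isNilpotent_add (hnil hk ((m : K) * t * u)) (hnil hk' ((m' : K) * t ^ 2 * u))
    simp only [List.zipIdx_cons, List.zipIdx_nil, List.map_cons, List.map_nil, wR_cons, wR_nil,
      mul_one, zero_add, pow_one, Nat.reduceAdd]
    rw [hF.xR_eq_exp hs, hF.xR_eq_exp hk, hF.xR_eq_exp hk',
      ← IsNilpotent.exp_add_of_commute c1 (hnil hk _) (hnil hk' _),
      ← IsNilpotent.exp_add_of_commute c2 (hnil hs _) n1]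
    exact mul_exp_eq (hnil hs u) (c2.isNilpotent_add (hnil hs _) n1) hauto
  | _ :: _ :: _ :: _, h => simp only [List.length_cons] at h; omega

end Exp

theorem Facts.conj_of_chain (hF : Facts D co) {r s : ℕ} (hr : r < D.nroots) (hs : s < D.nroots)
    (hneg : s ≠ D.neg r) (hlen : (D.chainEntry r s).length ≤ 2) (hc : ChainComm D r s) (t u : R) :
    xR D r t * xR D s u = xR D s u *
      wR D ((D.chainEntry r s).zipIdx.map fun q => (q.1.1, (q.1.2 : R) * t ^ (q.2 + 1) * u)) *
        xR D r t := by
  let P := MvPolynomial (Fin 2) ℤ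
  let ι : P →+* MvPolynomial (Fin 2) ℚ := MvPolynomial.map (Int.castRingHom ℚ)
  have hι : Function.Injective ι := MvPolynomial.map_injective _ Int.cast_injective
  let T : P := MvPolynomial.X 0
  let U : P := MvPolynomial.X 1
  let W : P → P → List (ℕ × P) := fun a b =>
    (D.chainEntry r s).zipIdx.map fun q => (q.1.1, (q.1.2 : P) * a ^ (q.2 + 1) * b)
  have key : xR D r T * xR D s U = xR D s U * wR D (W T U) * xR D r T := by
    apply Matrix.map_injective hι
    simp only [Matrix.map_mul, xR_map, wR_map]
    have := hF.conj_of_chain_Q hr hs hneg hlen hc (ι T) (ι U)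
    simpa [W, List.map_map, Function.comp_def, map_mul, map_pow, map_intCast] using this
  let φ : P →+* R := MvPolynomial.eval₂Hom (Int.castRingHom R) ![t, u]
  have hT : φ T = t := MvPolynomial.eval₂Hom_X' _ _ _
  have hU : φ U = u := MvPolynomial.eval₂Hom_X' _ _ _
  have := congrArg (fun M : Matrix D.Idx D.Idx P => M.map φ) key
  simpa [W, Matrix.map_mul, xR_map, wR_map, List.map_map, Function.comp_def, map_mul, map_pow,
    map_intCast, hT, hU] using this

theorem Facts.commute_of_chainComm (hF : Facts D co) {a b : ℕ} (ha : a < D.nroots)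
    (hb : b < D.nroots) (h : tgt D a b = none) (h' : b ≠ D.neg a) (t u : R) :
    Commute (xR D a t) (xR D b u) := by
  have hA := hF.adRoot_commute ha hb h h'
  have hM : ∀ i j, Commute (divPow D a i) (divPow D b j) := by
    intro i j
    apply natsmul_cancel (m := i.factorial * j.factorial) (by positivity)
    rw [← smul_mul_smul_comm, mul_comm i.factorial, ← smul_mul_smul_comm,
      ← hF.adRoot_pow ha, ← hF.adRoot_pow hb]
    exact (hA.pow_pow i j).eq
  refine Commute.sum_left _ _ _ fun i _ => Commute.sum_right _ _ _ fun j _ => ?_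
  exact (((hM i j).map (castM R)).smul_left _).smul_right _

theorem chainEntry_pos_spec {r s : ℕ} {k : ℕ} {e : ℕ × ℤ} (h : (D.chainEntry r s)[k]? = some e) :
    D.chainRoot r s (k + 1) = some e.1 ∧ D.chainM r s (k + 1) = e.2 := by
  simp [ChevalleyDatum.chainRoot, ChevalleyDatum.chainM, h]

theorem commTerms_left {r s : ℕ} (h1 : (D.chainEntry r s).length ≤ 2)
    (h2 : (D.chainEntry s r).length ≤ 1) :
    D.commTerms r s = (D.chainEntry r s).zipIdx.map fun q => (q.1.1, q.1.2, q.2 + 1, 1) := by
  have a2 : D.chainRoot s r 2 = none := chainRoot_none_of_len h2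
  have a3 : D.chainRoot s r 3 = none := chainRoot_none_of_len (le_trans h2 (by norm_num))
  have b3 : D.chainRoot r s 3 = none := chainRoot_none_of_len h1
  simp only [ChevalleyDatum.commTerms, a2, a3, b3, Option.bind_none]
  match hL : D.chainEntry r s, h1 with
  | [], _ => simp [ChevalleyDatum.chainRoot, hL]
  | [a], _ => simp [ChevalleyDatum.chainRoot, ChevalleyDatum.chainM, hL]
  | [a, b], _ => simp [ChevalleyDatum.chainRoot, ChevalleyDatum.chainM, hL, List.zipIdx_cons]
  | _ :: _ :: _ :: _, h => simp only [List.length_cons] at h; omega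

theorem Facts.commF_of_short.{w} (hF : Facts D co) (hS : ShortChains D) : CommF.{w} D := by
  intro R _ r hr s hs hne hneg t u
  have hneg' : r ≠ D.neg s := fun e => hneg (by rw [e, hF.neg_neg hs])
  by_cases h1 : (D.chainEntry s r).length ≤ 1
  · have key := hF.conj_of_chain hr hs hneg (hS.len_le r hr s hs)
      (fun a ha b hb => hS.commute r hr s hs h1 a ha b hb) (-t) u
    have e : (D.chainEntry r s).zipIdx.map (fun q => (q.1.1, (q.1.2 : R) * (-t) ^ (q.2 + 1) * u))
        = cwR D r s t u := by
      simp [cwR, commTerms_left (hS.len_le r hr s hs) h1, List.map_map, Function.comp_def]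
    rw [e] at key
    calc xR D s u * xR D r t
        = xR D r t * (xR D r (-t) * xR D s u) * xR D r t := by
          rw [← mul_assoc, hF.xR_mul_neg hr, one_mul]
      _ = xR D r t * xR D s u * wR D (cwR D r s t u) * (xR D r (-t) * xR D r t) := by
          rw [key]; simp only [mul_assoc]
      _ = _ := by rw [hF.xR_neg_mul hr, mul_one]
  · have h2 : (D.chainEntry s r).length = 2 := by have := hS.len_le s hs r hr; omega
    have h3 := hS.not_both s hs r hr h2
    have hc : ChainComm D s r := fun a ha b hb => hS.commute s hs r hr h3 a ha b hb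
    obtain ⟨⟨k, m⟩, ⟨k', m'⟩, hL⟩ := List.length_eq_two.1 h2
    have key := hF.conj_of_chain hs hr hneg' h2.le hc (-u) (-t)
    simp only [hL, List.zipIdx_cons, List.zipIdx_nil, List.map_cons, List.map_nil, zero_add,
      pow_one, Nat.reduceAdd] at key
    set P := wR D [(k, (m : R) * -u * -t), (k', (m' : R) * (-u) ^ 2 * -t)] with hP
    have hk : k < D.nroots := hF.entry_lt hs hr (by simp [hL])
    have hk' : k' < D.nroots := hF.entry_lt hs hr (by simp [hL])
    have hcomm : Commute P (xR D r t) := by
      rw [hP]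
      simp only [wR_cons, wR_nil, mul_one]
      exact (hF.commute_of_chainComm hk hr (hc k (by simp [hL]) r (by simp)).1
          (hc k (by simp [hL]) r (by simp)).2 _ _).mul_left
        (hF.commute_of_chainComm hk' hr (hc k' (by simp [hL]) r (by simp)).1
          (hc k' (by simp [hL]) r (by simp)).2 _ _)
    have hT : D.commTerms r s = [(k, -m, 1, 1), (k', m', 1, 2)] := by
      have a1 : D.chainRoot s r 1 = some k := by simp [ChevalleyDatum.chainRoot, hL]
      have a2 : D.chainRoot s r 2 = some k' := by simp [ChevalleyDatum.chainRoot, hL]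
      have a3 : D.chainRoot s r 3 = none := chainRoot_none_of_len h2.le
      have b2 : D.chainRoot r s 2 = none := chainRoot_none_of_len h3
      have b3 : D.chainRoot r s 3 = none := chainRoot_none_of_len (le_trans h3 (by norm_num))
      have b1 : D.chainRoot r s 1 = some k := (hF.tgt_symm s hs r hr).1.trans a1
      have bm : D.chainM r s 1 = -m := by
        have := (hF.tgt_symm s hs r hr).2
        rw [str, str] at this
        rw [this]; simp [ChevalleyDatum.chainM, hL]
      have am : D.chainM s r 2 = m' := by simp [ChevalleyDatum.chainM, hL]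
      simp [ChevalleyDatum.commTerms, a2, a3, b1, b2, b3, bm, am]
    have hW : wR D (cwR D r s t u) = P := by
      rw [hP]
      simp only [cwR, hT, List.map_cons, List.map_nil, Int.cast_neg, pow_one]
      rw [show -(m : R) * -t * u = (m : R) * -u * -t by ring,
        show (m' : R) * -t * u ^ 2 = (m' : R) * (-u) ^ 2 * -t by ring]
    rw [hW]
    calc xR D s u * xR D r t
        = xR D r t * (xR D r (-t) * xR D s u) * xR D r t := by
          rw [← mul_assoc, hF.xR_mul_neg hr, one_mul]
      _ = xR D r t * (xR D s u * (xR D s (-u) * (xR D r (-t) * xR D s u))) * xR D r t := by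
          rw [← mul_assoc (xR D s u), hF.xR_mul_neg hs, one_mul]
      _ = xR D r t * (xR D s u * (xR D r (-t) * P)) * xR D r t := by
          rw [← mul_assoc (xR D s (-u)), key]
          simp only [mul_assoc, hF.xR_neg_mul hs, mul_one]
      _ = xR D r t * xR D s u * xR D r (-t) * (P * xR D r t) := by simp only [mul_assoc]
      _ = xR D r t * xR D s u * (xR D r (-t) * xR D r t) * P := by
          rw [hcomm.eq]; simp only [mul_assoc]
      _ = _ := by rw [hF.xR_neg_mul hr, mul_one]

end CfsgLib.Chev
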