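/-
The elements `n_r(t)` and `h_r(t)` of a Chevalley group: monomial and diagonal forms,
and their action on the root elements.
-/
import Mathlib
import Cfsg.Agent.Lib.Chev.Root

set_option autoImplicit false

namespace CfsgLib.Chev

open Cfsg.Lie
open scoped Matrix

variable {D : ChevalleyDatum} {co : ℕ → ℕ → ℤ}

/-- The integer `2(r,s)/(r,r)`. -/
def prE (D : ChevalleyDatum) (r s : ℕ) : ℤ :=
  ∑ i ∈ Finset.range D.rank, cor D r i * D.cartan i s

namespace Facts

variable (hF : Facts D co)
include hF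

theorem refl_simple {i : ℕ} (hi : i < D.rank) : D.reflectRoot i (D.simple i) = D.neg (D.simple i) := by
  have _ := hF
  have _ := hi
  simp [ChevalleyDatum.reflectRoot]

theorem refl_neg_simple {i : ℕ} (hi : i < D.rank) :
    D.reflectRoot i (D.neg (D.simple i)) = D.simple i := by
  rw [hF.refl_neg i hi _ (hF.simple_lt' hi), hF.refl_simple hi, hF.neg_neg (hF.simple_lt' hi)]

theorem simple_inj {i j : ℕ} (hi : i < D.rank) (hj : j < D.rank) (h : D.simple i = D.simple j) :
    i = j := by
  have h1 := hF.co_simple i hi i hi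
  rw [h, hF.co_simple j hj i hi, if_pos rfl] at h1
  split_ifs at h1 with h2
  · exact h2.symm
  · omega

theorem cartan_simple {i : ℕ} (hi : i < D.rank) : D.cartan i (D.simple i) = 2 := by
  have h := hF.co_refl i hi _ (hF.simple_lt' hi) i hi
  rw [hF.refl_simple hi, hF.co_neg _ (hF.simple_lt' hi) i hi, hF.co_simple i hi i hi,
    if_pos rfl, if_pos rfl] at h
  omega

theorem cor_simple {i m : ℕ} (hi : i < D.rank) (hm : m < D.rank) :
    cor D (D.simple i) m = if m = i then 1 else 0 := by
  have h0 : ∀ m < D.rank, m ≠ i → cor D (D.simple i) m = 0 := fun m hm hne =>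
    (hF.cor_supp _ (hF.simple_lt' hi) m hm).2 (by rw [hF.co_simple i hi m hm, if_neg (Ne.symm hne)])
  split_ifs with h
  · subst h
    have h2 := hF.cor_pair _ (hF.simple_lt' hi)
    rw [Finset.sum_eq_single m (fun k hk hne => by
      rw [h0 k (Finset.mem_range.1 hk) hne, zero_mul]) (fun hn => absurd (Finset.mem_range.2 hm) hn),
      hF.cartan_simple hi] at h2
    omega
  · exact h0 m hm h

theorem prE_simple {i : ℕ} (hi : i < D.rank) (s : ℕ) : prE D (D.simple i) s = D.cartan i s := by
  rw [prE, Finset.sum_eq_single i]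
  · rw [hF.cor_simple hi hi, if_pos rfl, one_mul]
  · intro m hm hne
    rw [hF.cor_simple hi (Finset.mem_range.1 hm), if_neg hne, zero_mul]
  · intro h; exact absurd (Finset.mem_range.2 hi) h

theorem prE_refl {i r s : ℕ} (hi : i < D.rank) (hr : r < D.nroots) (hs : s < D.nroots) :
    prE D (D.reflectRoot i r) s = prE D r (D.reflectRoot i s) := by
  have hL : prE D (D.reflectRoot i r) s =
      prE D r s - prE D r (D.simple i) * D.cartan i s := by
    simp only [prE]
    rw [Finset.sum_congr rfl fun m hm => by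
      rw [hF.cor_refl i hi r hr m (Finset.mem_range.1 hm), sub_mul],
      Finset.sum_sub_distrib]
    simp [hi]
  have hR : prE D r (D.reflectRoot i s) =
      prE D r s - prE D r (D.simple i) * D.cartan i s := by
    simp only [prE]
    rw [Finset.sum_congr rfl fun m hm => by
      rw [hF.cartan_refl i hi s hs m (Finset.mem_range.1 hm), mul_sub],
      Finset.sum_sub_distrib, Finset.sum_mul]
    simp [mul_assoc]
  rw [hL, hR]

theorem isWeight_prE {r : ℕ} (_hr : r < D.nroots) : IsWeight D (fun s => prE D r s) := by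
  refine ⟨fun s hs => ?_, fun a ha b hb k h => ?_⟩
  · simp only [prE, ← Finset.sum_neg_distrib]
    exact Finset.sum_congr rfl fun i hi => by
      rw [hF.cartan_neg s hs i (Finset.mem_range.1 hi), mul_neg]
  · simp only [prE, ← Finset.sum_add_distrib]
    exact Finset.sum_congr rfl fun i hi => by
      rw [hF.cartan_add a ha b hb k h i (Finset.mem_range.1 hi), mul_add]

theorem neg_lt_half {r : ℕ} (hr : r < D.nroots) :
    D.nroots / 2 ≤ D.neg r ↔ r < D.nroots / 2 := by
  rw [hF.neg_eq r hr]; have := hF.nroots_even; omega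

/-- Every root is reached from a fundamental one by fundamental reflections. -/
theorem root_induction {P : ℕ → Prop} (base : ∀ i < D.rank, P (D.simple i))
    (step : ∀ i < D.rank, ∀ s < D.nroots, P s → P (D.reflectRoot i s)) :
    ∀ {r : ℕ}, r < D.nroots → P r := by
  have pos : ∀ r, r < D.nroots → D.nroots / 2 ≤ r → P r ∧ P (D.neg r) := by
    intro r
    induction r using Nat.strong_induction_on with
    | _ r ih =>
      intro hr hp
      by_cases h : ∃ i < D.rank, r = D.simple i
      · obtain ⟨i, hi, rfl⟩ := h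
        refine ⟨base i hi, ?_⟩
        rw [← hF.refl_simple hi]
        exact step i hi _ hr (base i hi)
      · obtain ⟨i, hi, h1, h2⟩ := hF.refl_step r hr hp (fun i hi e => h ⟨i, hi, e⟩)
        have hlt := hF.refl_lt i hi r hr
        obtain ⟨hP, hN⟩ := ih _ h2 hlt h1
        constructor
        · have := step i hi _ hlt hP
          rwa [hF.refl_invol i hi r hr] at this
        · have := step i hi _ (hF.neg_lt hlt) hN
          rwa [hF.refl_neg i hi _ hlt, hF.refl_invol i hi r hr] at this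
  intro r hr
  by_cases hp : D.nroots / 2 ≤ r
  · exact (pos r hr hp).1
  · have := (pos _ (hF.neg_lt hr) ((hF.neg_lt_half hr).2 (by omega))).2
    rwa [hF.neg_neg hr] at this

end Facts

/-! ### The monomial matrix of a fundamental reflection -/

section Ring

variable {R : Type*} [CommRing R]

theorem castM_int (A : Matrix D.Idx D.Idx ℤ) : castM ℤ A = A := by
  ext a b; simp [RingHom.mapMatrix_apply]

/-- `x_p(1) x_{-p}(-1) x_p(1)` over a commutative ring. -/
theorem castM_nProd (i : ℕ) :
    castM R (nProd D i) =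
      xR D (D.simple i) (1 : R) * xR D (D.neg (D.simple i)) (-1) * xR D (D.simple i) 1 := by
  simp only [nProd, xR, map_mul, map_sum, map_zsmul, one_pow, one_smul,
    ← Int.cast_smul_eq_zsmul R, Int.cast_pow, Int.cast_neg, Int.cast_one]

theorem adR_single (a : D.Idx) (c : R) : adR D (Pi.single a c) = c • castM R (adB D a) := by
  simp only [adR, Pi.single_apply, ite_smul, zero_smul]
  rw [Finset.sum_ite_eq' Finset.univ]
  simp

namespace Facts

variable (hF : Facts D co)
include hF

theorem nForm_mul_divPow {i : ℕ} (hi : i < D.rank) {η : ℕ → ℤ} (h : nProd D i = nForm D η i)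
    {s : ℕ} (hs : s < D.nroots) (k : ℕ) :
    nProd D i * divPow D s k = η s ^ k • (divPow D (D.reflectRoot i s) k * nProd D i) := by
  have hp := hF.simple_lt' hi
  have hws := hF.refl_lt i hi s hs
  have hN : xR D (D.simple i) (1 : ℤ) * xR D (D.neg (D.simple i)) (-1) * xR D (D.simple i) 1 =
      nProd D i := by rw [← castM_nProd, castM_int]
  have hauto : ∀ v : D.Idx → ℤ, nProd D i * adR D v = adR D (nProd D i *ᵥ v) * nProd D i := by
    intro v
    rw [← hN, mul_assoc, hF.xR_auto hp, ← mul_assoc, mul_assoc (xR D _ _) (xR D _ _) (adR D _),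
      hF.xR_auto (hF.neg_lt hp), ← mul_assoc, hF.xR_auto hp]
    simp only [Matrix.mulVec_mulVec, mul_assoc]
  have h1 : nProd D i * adRoot D s = (η s • adRoot D (D.reflectRoot i s)) * nProd D i := by
    have := hauto (Pi.single (Sum.inr ⟨s, hs⟩) 1)
    rw [adR_single, one_smul, castM_int, Matrix.mulVec_single_one] at this
    rw [show adRoot D s = adB D (Sum.inr ⟨s, hs⟩ : D.Idx) from rfl, this]
    congr 1
    have : (nProd D i).col (Sum.inr ⟨s, hs⟩) =
        Pi.single (Sum.inr ⟨D.reflectRoot i s, hws⟩) (η s) := by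
      funext a
      rw [h, Matrix.col_apply]
      rcases a with j | u
      · simp [nForm]
      · simp [nForm, Pi.single_apply, Fin.ext_iff]
    rw [this, adR_single, castM_int]
    rfl
  have h2 := (SemiconjBy.pow_right h1 k).eq
  rw [smul_pow, hF.adRoot_pow hs, hF.adRoot_pow hws, mul_smul_comm, smul_mul_assoc,
    smul_mul_assoc, smul_comm] at h2
  exact natsmul_cancel k.factorial_ne_zero h2

theorem castM_nProd_mul_xR {i : ℕ} (hi : i < D.rank) {η : ℕ → ℤ} (h : nProd D i = nForm D η i)
    {s : ℕ} (hs : s < D.nroots) (t : R) :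
    castM R (nProd D i) * xR D s t =
      xR D (D.reflectRoot i s) ((η s : R) * t) * castM R (nProd D i) := by
  simp only [xR, Finset.mul_sum, Finset.sum_mul]
  refine Finset.sum_congr rfl fun k _ => ?_
  rw [mul_smul_comm, smul_mul_assoc, ← map_mul, ← map_mul, hF.nForm_mul_divPow hi h hs k,
    map_zsmul, ← Int.cast_smul_eq_zsmul R, smul_smul, Int.cast_pow, mul_pow, mul_comm]

end Facts

end Ring

/-! ### Elements of the general linear group -/

section Field

variable {F : Type*} [Field F]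

open Classical in
/-- `x_r(t)` as an invertible matrix. -/
noncomputable def xU (D : ChevalleyDatum) (r : ℕ) (t : F) : GL D.Idx F :=
  if h : D.x F r t * D.x F r (-t) = 1 ∧ D.x F r (-t) * D.x F r t = 1 then
    ⟨D.x F r t, D.x F r (-t), h.1, h.2⟩
  else 1

/-- A diagonal element. -/
def dU (D : ChevalleyDatum) (χ : ℕ → Fˣ) : GL D.Idx F :=
  ⟨diagC D χ, diagC D (fun r => (χ r)⁻¹),
    by rw [diagC_mul]; simp [diagC_one],
    by rw [diagC_mul]; simp [diagC_one]⟩

/-- `n_r(t)`. -/
noncomputable def nU (D : ChevalleyDatum) (r : ℕ) (t : F) : GL D.Idx F :=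
  xU D r t * xU D (D.neg r) (-t⁻¹) * xU D r t

/-- `h_r(t)`. -/
noncomputable def hU (D : ChevalleyDatum) (r : ℕ) (t : F) : GL D.Idx F :=
  nU D r t * nU D r (-1)

theorem dU_val (χ : ℕ → Fˣ) : ((dU D χ : GL D.Idx F) : Matrix D.Idx D.Idx F) = diagC D χ := rfl

theorem dU_mul (χ ψ : ℕ → Fˣ) : dU D χ * dU D ψ = dU D (fun r => χ r * ψ r) :=
  Units.ext (diagC_mul χ ψ)

theorem dU_one : dU D (fun _ => (1 : Fˣ)) = 1 := Units.ext diagC_one

theorem dU_inv (χ : ℕ → Fˣ) : (dU D χ)⁻¹ = dU D (fun r => (χ r)⁻¹) := Units.ext rfl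

theorem dU_congr {χ ψ : ℕ → Fˣ} (h : ∀ r < D.nroots, χ r = ψ r) : dU D χ = dU D ψ :=
  Units.ext (diagC_congr h)

theorem dU_commute (χ ψ : ℕ → Fˣ) : Commute (dU D χ) (dU D ψ) := by
  rw [commute_iff_eq, dU_mul, dU_mul]
  simp [mul_comm]

/-- The character `s ↦ t ^ (coefficient of s at i)`. -/
def coChar (co : ℕ → ℕ → ℤ) (i : ℕ) (t : Fˣ) : ℕ → Fˣ := fun s => t ^ co s i

/-- The character `s ↦ t ^ (2(r,s)/(r,r))`. -/
def prChar (D : ChevalleyDatum) (r : ℕ) (t : Fˣ) : ℕ → Fˣ := fun s => t ^ prE D r s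

namespace Facts

variable (hF : Facts D co)
include hF

theorem xU_val {r : ℕ} (hr : r < D.nroots) (t : F) :
    ((xU D r t : GL D.Idx F) : Matrix D.Idx D.Idx F) = D.x F r t := by
  rw [xU, dif_pos]
  rw [hF.x_eq hr, hF.x_eq hr]
  exact ⟨hF.xR_mul_neg hr t, hF.xR_neg_mul hr t⟩

theorem xU_val' {r : ℕ} (hr : r < D.nroots) (t : F) :
    ((xU D r t : GL D.Idx F) : Matrix D.Idx D.Idx F) = xR D r t := by
  rw [hF.xU_val hr, hF.x_eq hr]

theorem xU_add {r : ℕ} (hr : r < D.nroots) (t u : F) : xU D r t * xU D r u = xU D r (t + u) := by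
  ext1
  rw [Units.val_mul, hF.xU_val' hr, hF.xU_val' hr, hF.xU_val' hr, hF.xR_mul hr]

theorem xU_zero {r : ℕ} (hr : r < D.nroots) : xU D r (0 : F) = 1 := by
  ext1; rw [hF.xU_val' hr, xR_zero, Units.val_one]

theorem xU_inv {r : ℕ} (hr : r < D.nroots) (t : F) : (xU D r t)⁻¹ = xU D r (-t) := by
  rw [inv_eq_iff_mul_eq_one, hF.xU_add hr, add_neg_cancel, hF.xU_zero hr]

theorem nU_val {r : ℕ} (hr : r < D.nroots) (t : F) :
    ((nU D r t : GL D.Idx F) : Matrix D.Idx D.Idx F) = D.nMat F r t := by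
  simp [nU, ChevalleyDatum.nMat, ChevalleyDatum.wordMat, ChevalleyDatum.nWord, hF.xU_val hr,
    hF.xU_val (hF.neg_lt hr), mul_assoc]

theorem hU_val {r : ℕ} (hr : r < D.nroots) (t : F) :
    ((hU D r t : GL D.Idx F) : Matrix D.Idx D.Idx F) = D.hMat F r t := by
  rw [hU, Units.val_mul, hF.nU_val hr, hF.nU_val hr]
  simp [ChevalleyDatum.nMat, ChevalleyDatum.hMat, ChevalleyDatum.wordMat, ChevalleyDatum.hWord,
    mul_assoc]

theorem nU_inv {r : ℕ} (hr : r < D.nroots) (t : F) : (nU D r t)⁻¹ = nU D r (-t) := by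
  simp [nU, mul_inv_rev, hF.xU_inv hr, hF.xU_inv (hF.neg_lt hr), inv_neg, mul_assoc]

theorem dU_conj {χ : ℕ → Fˣ} (hχ : IsWeight D (fun r => Additive.ofMul (χ r))) {r : ℕ}
    (hr : r < D.nroots) (t : F) :
    dU D χ * xU D r t = xU D r ((χ r : F) * t) * dU D χ := by
  ext1
  rw [Units.val_mul, Units.val_mul, hF.xU_val' hr, hF.xU_val' hr, dU_val, hF.diagC_conj hχ hr]

theorem isWeight_coChar {i : ℕ} (hi : i < D.rank) (t : Fˣ) :
    IsWeight D (fun r => Additive.ofMul (coChar co i t r)) := by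
  refine ⟨fun r hr => ?_, fun r hr s hs k h => ?_⟩
  · rw [coChar, coChar, hF.co_neg r hr i hi, zpow_neg, ofMul_inv]
  · rw [coChar, coChar, coChar, hF.co_add r hr s hs k h i hi, zpow_add, ofMul_mul]

theorem isWeight_prChar {r : ℕ} (hr : r < D.nroots) (t : Fˣ) :
    IsWeight D (fun s => Additive.ofMul (prChar D r t s)) := by
  have hw := hF.isWeight_prE hr
  refine ⟨fun s hs => ?_, fun a ha b hb k h => ?_⟩
  · rw [prChar, prChar, hw.neg s hs, zpow_neg, ofMul_inv]
  · rw [prChar, prChar, prChar, hw.add a ha b hb k h, zpow_add, ofMul_mul]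

theorem nU_simple_val {i : ℕ} (hi : i < D.rank) :
    ((nU D (D.simple i) (1 : F) : GL D.Idx F) : Matrix D.Idx D.Idx F) =
      castM F (nProd D i) := by
  have hp := hF.simple_lt' hi
  rw [castM_nProd, nU, Units.val_mul, Units.val_mul, hF.xU_val' hp, hF.xU_val' (hF.neg_lt hp),
    inv_one]

/-- The action of `n_p` on all root elements, with the signs. -/
theorem exists_eta {i : ℕ} (hi : i < D.rank) :
    ∃ η : ℕ → ℤ, (∀ s < D.nroots, η s = 1 ∨ η s = -1) ∧
      (∀ s < D.nroots, η (D.neg s) = η s) ∧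
      ∀ s < D.nroots, ∀ t : F, nU D (D.simple i) 1 * xU D s t =
        xU D (D.reflectRoot i s) ((η s : F) * t) * nU D (D.simple i) 1 := by
  obtain ⟨η, h1, -, -, h2, h3⟩ := hF.nProd_eq i hi
  refine ⟨η, h1, fun s hs => ?_, fun s hs t => ?_⟩
  · have := (h2 s hs).2
    rcases h1 s hs with h | h <;> rw [h] at this ⊢ <;> omega
  · ext1
    rw [Units.val_mul, Units.val_mul, hF.nU_simple_val hi, hF.xU_val' hs,
      hF.xU_val' (hF.refl_lt i hi s hs), hF.castM_nProd_mul_xR hi h3 hs]

theorem nU_simple_mul_dU {i : ℕ} (hi : i < D.rank) (χ : ℕ → Fˣ) :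
    nU D (D.simple i) (1 : F) * dU D χ =
      dU D (fun s => χ (D.reflectRoot i s)) * nU D (D.simple i) 1 := by
  obtain ⟨η, -, -, -, -, h3⟩ := hF.nProd_eq i hi
  ext a b
  rw [Units.val_mul, Units.val_mul, hF.nU_simple_val hi, dU_val, dU_val, diagC, diagC,
    Matrix.mul_diagonal, Matrix.diagonal_mul, h3]
  rcases b with j | s <;> rcases a with j' | u
  · simp
  · simp [nForm, RingHom.mapMatrix_apply]
  · simp [nForm, RingHom.mapMatrix_apply]
  · simp only [nForm, RingHom.mapMatrix_apply, Matrix.map_apply, Matrix.of_apply, Sum.elim_inr]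
    by_cases h : u.val = D.reflectRoot i s.val
    · rw [if_pos h, h, hF.refl_invol i hi s.val s.isLt, mul_comm]
    · simp [if_neg h]

theorem nU_simple_conj_dU {i : ℕ} (hi : i < D.rank) (χ : ℕ → Fˣ) :
    nU D (D.simple i) (1 : F) * dU D χ * (nU D (D.simple i) 1)⁻¹ =
      dU D (fun s => χ (D.reflectRoot i s)) := by
  rw [hF.nU_simple_mul_dU hi, mul_inv_cancel_right]

theorem nU_simple_eq {i : ℕ} (hi : i < D.rank) (t : Fˣ) :
    nU D (D.simple i) (t : F) =
      dU D (coChar co i t) * nU D (D.simple i) 1 * (dU D (coChar co i t))⁻¹ := by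
  have hp := hF.simple_lt' hi
  have hw := hF.isWeight_coChar hi t
  have e1 : coChar co i t (D.simple i) = t := by
    rw [coChar, hF.co_simple i hi i hi, if_pos rfl, zpow_one]
  have e2 : coChar co i t (D.neg (D.simple i)) = t⁻¹ := by
    rw [coChar, hF.co_neg _ hp i hi, hF.co_simple i hi i hi, if_pos rfl, zpow_neg, zpow_one]
  have c : ∀ {r : ℕ}, r < D.nroots → ∀ u : F,
      dU D (coChar co i t) * xU D r u * (dU D (coChar co i t))⁻¹ =
        xU D r ((coChar co i t r : F) * u) := fun hr u => by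
    rw [hF.dU_conj hw hr, mul_inv_cancel_right]
  have c1 := c hp (1 : F)
  have c2 := c (hF.neg_lt hp) (-(1 : F)⁻¹)
  rw [e1, mul_one] at c1
  rw [e2, inv_one, mul_neg, mul_one, Units.val_inv_eq_inv_val] at c2
  rw [nU, nU, inv_one, ← c1, ← c2]
  group

theorem hU_simple {i : ℕ} (hi : i < D.rank) (t : Fˣ) :
    hU D (D.simple i) (t : F) = dU D (fun s => t ^ D.cartan i s) := by
  rw [hU, hF.nU_simple_eq hi, ← hF.nU_inv (hF.simple_lt' hi),
    mul_assoc, mul_assoc, ← mul_assoc (nU D (D.simple i) (1 : F)), dU_inv,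
    hF.nU_simple_conj_dU hi, dU_mul]
  refine dU_congr fun s hs => ?_
  simp only [coChar]
  rw [← zpow_neg, ← zpow_add, hF.co_refl i hi s hs i hi, if_pos rfl]
  congr 1
  ring

theorem nU_conj {i : ℕ} (hi : i < D.rank) {η : ℕ → ℤ}
    (h1 : ∀ s < D.nroots, η s = 1 ∨ η s = -1) (h2 : ∀ s < D.nroots, η (D.neg s) = η s)
    (h3 : ∀ s < D.nroots, ∀ t : F, nU D (D.simple i) 1 * xU D s t =
        xU D (D.reflectRoot i s) ((η s : F) * t) * nU D (D.simple i) 1)
    {s : ℕ} (hs : s < D.nroots) (t : F) :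
    nU D (D.simple i) 1 * nU D s t * (nU D (D.simple i) 1)⁻¹ =
      nU D (D.reflectRoot i s) ((η s : F) * t) := by
  have c : ∀ {r : ℕ}, r < D.nroots → ∀ u : F,
      nU D (D.simple i) 1 * xU D r u * (nU D (D.simple i) 1)⁻¹ =
        xU D (D.reflectRoot i r) ((η r : F) * u) := fun hr u => by
    rw [h3 _ hr, mul_inv_cancel_right]
  have c1 := c hs t
  have c2 := c (hF.neg_lt hs) (-t⁻¹)
  rw [hF.refl_neg i hi s hs, h2 s hs] at c2
  have e : (η s : F) * -t⁻¹ = -((η s : F) * t)⁻¹ := by
    rcases h1 s hs with h | h <;> simp [h, inv_neg]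
  rw [e] at c2
  rw [show nU D (D.reflectRoot i s) ((η s : F) * t) =
      xU D (D.reflectRoot i s) ((η s : F) * t) *
        xU D (D.neg (D.reflectRoot i s)) (-((η s : F) * t)⁻¹) *
        xU D (D.reflectRoot i s) ((η s : F) * t) from rfl, ← c1, ← c2,
    show nU D s t = xU D s t * xU D (D.neg s) (-t⁻¹) * xU D s t from rfl]
  group

theorem hU_eq : ∀ {r : ℕ}, r < D.nroots → ∀ t : Fˣ, hU D r (t : F) = dU D (prChar D r t) := by
  refine fun {r} hr => hF.root_induction (P := fun r => ∀ t : Fˣ,
    hU D r (t : F) = dU D (prChar D r t)) (fun i hi t => ?_) (fun i hi s hs ih t => ?_) hr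
  · rw [hF.hU_simple hi]
    exact dU_congr fun s _ => by rw [prChar, hF.prE_simple hi]
  · obtain ⟨η, h1, h2, h3⟩ := hF.exists_eta (F := F) hi
    have key : nU D s ((η s : F) * t) * nU D s ((η s : F) * -1) = dU D (prChar D s t) := by
      rcases h1 s hs with h | h
      · simp only [h, Int.cast_one, one_mul]; exact ih t
      · simp only [h, Int.cast_neg, Int.cast_one, neg_mul, one_mul, _root_.neg_neg]
        have ha := ih (-t)
        have hb := ih (-1)
        rw [Units.val_neg, hU] at ha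
        rw [Units.val_neg, Units.val_one, hU] at hb
        calc nU D s (-(t : F)) * nU D s 1
            = (nU D s (-(t : F)) * nU D s (-1)) * (nU D s (-1) * nU D s (-1))⁻¹ := by
              rw [← inv_inv (nU D s (1 : F)), hF.nU_inv hs]; group
          _ = dU D (prChar D s t) := by
              rw [ha, hb, dU_inv, dU_mul]
              exact dU_congr fun u _ => by
                rw [prChar, prChar, prChar, ← inv_zpow, ← mul_zpow]
                congr 1
                ext; simp
    calc hU D (D.reflectRoot i s) (t : F)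
        = nU D (D.simple i) 1 * (nU D s ((η s : F) * t) * nU D s ((η s : F) * -1)) *
            (nU D (D.simple i) 1)⁻¹ := by
          have a := hF.nU_conj hi h1 h2 h3 hs ((η s : F) * t)
          have b := hF.nU_conj hi h1 h2 h3 hs ((η s : F) * -1)
          have ee : ∀ x : F, (η s : F) * ((η s : F) * x) = x := fun x => by
            rcases h1 s hs with h | h <;> simp [h]
          rw [ee] at a b
          rw [hU, ← a, ← b]
          group
      _ = _ := by
          rw [key, hF.nU_simple_conj_dU hi]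
          exact dU_congr fun u hu => by rw [prChar, prChar, hF.prE_refl hi hs hu]

end Facts

end Field

end CfsgLib.Chev
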