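/-
The unipotent subgroups, the diagonal subgroup and the Borel subgroup of a Chevalley group.
-/
import Mathlib
import Cfsg.Agent.Lib.Chev.Mono
import Cfsg.Agent.Lib.Chev.Comm

set_option autoImplicit false

namespace CfsgLib.Chev

open Cfsg.Lie
open scoped Matrix Pointwise

variable {D : ChevalleyDatum} {co : ℕ → ℕ → ℤ}

/-! ### Positivity -/

namespace Facts

variable (hF : Facts D co)
include hF

theorem omega_mono {r s : ℕ} (h : r < s) (hs : s < D.nroots) :
    omega D co r < omega D co s := by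
  induction s with
  | zero => omega
  | succ s ih =>
    rcases Nat.lt_succ_iff_lt_or_eq.1 h with h' | rfl
    · exact lt_trans (ih h' (by omega)) (hF.omega_lt s hs)
    · exact hF.omega_lt r hs

theorem omega_neg {r : ℕ} (hr : r < D.nroots) :
    omega D co (D.neg r) = -omega D co r := hF.isWeight_omega.neg r hr

theorem omega_pos {r : ℕ} (hr : r < D.nroots) (hp : D.nroots / 2 ≤ r) : 0 < omega D co r := by
  have hev := hF.nroots_even
  have h1 : 0 < omega D co (D.nroots / 2) := by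
    have h2 := hF.omega_mono (r := D.nroots / 2 - 1) (s := D.nroots / 2) (by omega) (by omega)
    have h3 := hF.omega_neg (r := D.nroots / 2) (by omega)
    rw [hF.neg_eq _ (by omega), show D.nroots - 1 - D.nroots / 2 = D.nroots / 2 - 1 by omega] at h3
    omega
  rcases Nat.lt_or_eq_of_le hp with h | h
  · exact lt_trans h1 (hF.omega_mono h hr)
  · exact h ▸ h1

theorem omega_nonpos_iff {r : ℕ} (hr : r < D.nroots) :
    omega D co r < 0 ↔ r < D.nroots / 2 := by
  constructor
  · intro h; by_contra hc; have := hF.omega_pos hr (by omega); omega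
  · intro h
    have := hF.omega_pos (hF.neg_lt hr) ((hF.neg_lt_half hr).2 h)
    rw [hF.omega_neg hr] at this; omega

theorem lt_of_omega_lt {r s : ℕ} (hr : r < D.nroots) (h : omega D co r < omega D co s) :
    r < s := by
  by_contra hc
  rcases Nat.lt_or_eq_of_le (Nat.le_of_not_lt hc) with h' | h'
  · have := hF.omega_mono h' hr; omega
  · rw [h'] at h; omega

theorem root_ext {r s : ℕ} (hr : r < D.nroots) (hs : s < D.nroots)
    (h : ∀ j < D.rank, co r j = co s j) : r = s := by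
  have he : omega D co r = omega D co s := by
    refine congrArg List.sum (List.map_congr_left fun j hj => ?_)
    rw [h j (List.mem_range.1 hj)]
  rcases Nat.lt_trichotomy r s with h' | h' | h'
  · have := hF.omega_mono h' hs; omega
  · exact h'
  · have := hF.omega_mono h' hr; omega

/-- A positive root other than a fundamental one involves another fundamental root. -/
theorem exists_co_pos {i : ℕ} (hi : i < D.rank) {s : ℕ} (hs : s < D.nroots)
    (hp : D.nroots / 2 ≤ s) (hne : s ≠ D.simple i) : ∃ j < D.rank, j ≠ i ∧ 0 < co s j := by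
  by_contra hc
  push Not at hc
  have h0 : ∀ j < D.rank, j ≠ i → co s j = 0 := fun j hj hji =>
    le_antisymm (hc j hj hji) (hF.co_nonneg s hs hp j hj)
  have c0 : ∀ j < D.rank, j ≠ i → cor D s j = 0 := fun j hj hji =>
    (hF.cor_supp s hs j hj).2 (h0 j hj hji)
  have h2 := hF.cor_pair s hs
  rw [Finset.sum_eq_single i (fun m hm hmi => by
    rw [c0 m (Finset.mem_range.1 hm) hmi, zero_mul])
    (fun h => absurd (Finset.mem_range.2 hi) h)] at h2
  have e := hF.cor_refl i hi s hs i hi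
  rw [if_pos rfl, Finset.sum_eq_single i (fun m hm hmi => by
    rw [c0 m (Finset.mem_range.1 hm) hmi, zero_mul])
    (fun h => absurd (Finset.mem_range.2 hi) h), hF.cartan_simple hi] at e
  have hw := hF.refl_lt i hi s hs
  have nn : ∀ r < D.nroots, D.nroots / 2 ≤ r → 0 ≤ cor D r i := by
    intro r hr hr2
    have hpos := ((hF.isPos_iff r hr).2 hr2).2
    rw [cor, Array.getD_eq_getD_getElem?]
    cases h : (D.coroot.getD r #[])[i]? with
    | none => simp
    | some c =>
      exact hpos c (Array.mem_toList_iff.2 (Array.mem_of_getElem? h))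
  have n1 := nn s hs hp
  have n2 := nn _ hw (hF.refl_pos i hi s hs hp hne)
  have : cor D s i = 0 := by omega
  rw [this, zero_mul] at h2
  omega

theorem commTerms_wt {A : Type*} [AddCommGroup A] {w : ℕ → A} (hw : IsWeight D w) {r s : ℕ}
    (hr : r < D.nroots) (hs : s < D.nroots) {c : ℕ × ℤ × ℕ × ℕ} (hc : c ∈ D.commTerms r s) :
    c.1 < D.nroots ∧ 0 < c.2.2.1 ∧ 0 < c.2.2.2 ∧
      w c.1 = c.2.2.1 • w r + c.2.2.2 • w s := by
  simp only [ChevalleyDatum.commTerms, List.mem_filterMap, List.mem_cons, List.not_mem_nil,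
    or_false, Option.map_eq_some_iff] at hc
  obtain ⟨⟨o, d⟩, ho, k, hk, rfl⟩ := hc
  dsimp only at hk ⊢
  have L : ∀ {a b i k : ℕ}, a < D.nroots → b < D.nroots → 1 ≤ i →
      D.chainRoot a b i = some k → k < D.nroots ∧ w k = i • w a + w b :=
    fun ha hb hi h => ⟨(hF.chainRoot_spec ha hb hi h).1, hF.chainRoot_wt hw ha hb hi h⟩
  rcases ho with ho | ho | ho | ho | ho | ho | ho <;>
    (obtain ⟨rfl, rfl⟩ := Prod.mk.injEq _ _ _ _ ▸ ho)
  · obtain ⟨h1, h2⟩ := L hr hs le_rfl hk
    exact ⟨h1, by norm_num, by norm_num, by rw [h2]; simp⟩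
  · obtain ⟨h1, h2⟩ := L hr hs (by norm_num) hk
    exact ⟨h1, by norm_num, by norm_num, by rw [h2]; simp⟩
  · obtain ⟨h1, h2⟩ := L hs hr (by norm_num) hk
    exact ⟨h1, by norm_num, by norm_num, by rw [h2]; simp [add_comm]⟩
  · obtain ⟨h1, h2⟩ := L hr hs (by norm_num) hk
    exact ⟨h1, by norm_num, by norm_num, by rw [h2]; simp⟩
  · obtain ⟨h1, h2⟩ := L hs hr (by norm_num) hk
    exact ⟨h1, by norm_num, by norm_num, by rw [h2]; simp [add_comm]⟩
  · obtain ⟨v, hv, hvk⟩ := Option.bind_eq_some_iff.1 hk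
    obtain ⟨h1, h2⟩ := L hr hs (by norm_num) hv
    obtain ⟨h3, h4⟩ := L h1 hs le_rfl hvk
    exact ⟨h3, by norm_num, by norm_num, by rw [h4, h2]; abel⟩
  · obtain ⟨v, hv, hvk⟩ := Option.bind_eq_some_iff.1 hk
    obtain ⟨h1, h2⟩ := L hs hr (by norm_num) hv
    obtain ⟨h3, h4⟩ := L h1 hr le_rfl hvk
    exact ⟨h3, by norm_num, by norm_num, by rw [h4, h2]; abel⟩

theorem commTerms_lt {r s : ℕ} (hr : r < D.nroots) (hs : s < D.nroots)
    (hrp : D.nroots / 2 ≤ r) (hsp : D.nroots / 2 ≤ s) {c : ℕ × ℤ × ℕ × ℕ}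
    (hc : c ∈ D.commTerms r s) : c.1 < D.nroots ∧ r < c.1 ∧ s < c.1 := by
  obtain ⟨h1, hi, hj, h2⟩ := hF.commTerms_wt hF.isWeight_omega hr hs hc
  rw [nsmul_eq_mul, nsmul_eq_mul] at h2
  have a := hF.omega_pos hr hrp
  have b := hF.omega_pos hs hsp
  have a' := le_mul_of_one_le_left a.le (show (1 : ℤ) ≤ (c.2.2.1 : ℤ) by exact_mod_cast hi)
  have b' := le_mul_of_one_le_left b.le (show (1 : ℤ) ≤ (c.2.2.2 : ℤ) by exact_mod_cast hj)
  exact ⟨h1, hF.lt_of_omega_lt hr (by omega), hF.lt_of_omega_lt hs (by omega)⟩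

end Facts

/-! ### Triangular matrices for a weight -/

section Triangular

variable {F : Type*} [Field F]

/-- `M - 1` only has entries raising the weight by at least `k`. -/
def UT (w : D.Idx → ℤ) (k : ℤ) (M : Matrix D.Idx D.Idx F) : Prop :=
  ∀ a b, (M - 1) a b ≠ 0 → k + w b ≤ w a

theorem UT.one (w : D.Idx → ℤ) (k : ℤ) : UT w k (1 : Matrix D.Idx D.Idx F) := by
  intro a b h; simp at h

theorem UT.mono {w : D.Idx → ℤ} {k l : ℤ} {M : Matrix D.Idx D.Idx F} (h : UT w k M) (hl : l ≤ k) :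
    UT w l M := fun a b hab => by have := h a b hab; omega

theorem UT.mul {w : D.Idx → ℤ} {k : ℤ} (hk : 0 ≤ k) {M N : Matrix D.Idx D.Idx F}
    (hM : UT w k M) (hN : UT w k N) : UT w k (M * N) := by
  intro a b h
  have e : M * N - 1 = (M - 1) + (N - 1) + (M - 1) * (N - 1) := by noncomm_ring
  rw [e, Matrix.add_apply, Matrix.add_apply] at h
  by_cases h1 : (M - 1) a b = 0
  swap
  · exact hM a b h1
  by_cases h2 : (N - 1) a b = 0
  swap
  · exact hN a b h2
  rw [h1, h2, zero_add, zero_add, Matrix.mul_apply] at h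
  obtain ⟨c, -, hc⟩ := Finset.exists_ne_zero_of_sum_ne_zero h
  have := hM a c (left_ne_zero_of_mul hc)
  have := hN c b (right_ne_zero_of_mul hc)
  omega

theorem UT.apply_self {w : D.Idx → ℤ} {k : ℤ} (hk : 0 < k) {M : Matrix D.Idx D.Idx F}
    (hM : UT w k M) (a : D.Idx) : M a a = 1 := by
  by_contra h
  have := hM a a (by simpa [sub_eq_zero] using h)
  omega

theorem UT.eq_one {w : D.Idx → ℤ} {k l : ℤ} (hk : 0 < k) (hl : 0 ≤ l)
    {M : Matrix D.Idx D.Idx F} (h : UT (fun a => -w a) k M) (h' : UT w l M) : M = 1 := by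
  rw [← sub_eq_zero]
  ext a b
  by_contra hab
  have := h a b hab
  have := h' a b hab
  dsimp only at *
  omega

theorem ut_closure {w : D.Idx → ℤ} {k : ℤ} (hk : 0 ≤ k) {S : Set (GL D.Idx F)}
    (h : ∀ g ∈ S, UT w k (g : Matrix D.Idx D.Idx F) ∧
      UT w k ((g⁻¹ : GL D.Idx F) : Matrix D.Idx D.Idx F))
    {g : GL D.Idx F} (hg : g ∈ Subgroup.closure S) : UT w k (g : Matrix D.Idx D.Idx F) := by
  suffices UT w k (g : Matrix D.Idx D.Idx F) ∧
      UT w k ((g⁻¹ : GL D.Idx F) : Matrix D.Idx D.Idx F) from this.1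
  induction hg using Subgroup.closure_induction with
  | mem x hx => exact h x hx
  | one => simpa using UT.one w k
  | mul x y _ _ hx hy =>
    rw [mul_inv_rev, Units.val_mul, Units.val_mul]
    exact ⟨hx.1.mul hk hy.1, hy.2.mul hk hx.2⟩
  | inv x _ hx => rw [inv_inv]; exact ⟨hx.2, hx.1⟩

end Triangular

/-- The matrix of a word as an invertible element. -/
noncomputable def wU (D : ChevalleyDatum) {F : Type*} [Field F] (w : List (ℕ × F)) :
    GL D.Idx F :=
  (w.map fun p => xU D p.1 p.2).prod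

/-- The subgroup generated by the root elements of the roots with property `P`. -/
noncomputable def rootClosure (D : ChevalleyDatum) (F : Type*) [Field F] (P : ℕ → Prop) :
    Subgroup (GL D.Idx F) :=
  Subgroup.closure {g | ∃ (r : ℕ) (t : F), r < D.nroots ∧ P r ∧ g = xU D r t}

/-- The torus element with coordinates `c`. -/
noncomputable def hT (D : ChevalleyDatum) {F : Type*} [Field F] (c : ℕ → Fˣ) : GL D.Idx F :=
  dU D fun s => ∏ i ∈ Finset.range D.rank, c i ^ D.cartan i s

section Groups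

variable {F : Type*} [Field F]

theorem xU_mem_rootClosure {P : ℕ → Prop} {r : ℕ} (hr : r < D.nroots) (h : P r) (t : F) :
    xU D r t ∈ rootClosure D F P := Subgroup.subset_closure ⟨r, t, hr, h, rfl⟩

theorem rootClosure_mono {P Q : ℕ → Prop} (h : ∀ r < D.nroots, P r → Q r) :
    rootClosure D F P ≤ rootClosure D F Q :=
  Subgroup.closure_mono fun _ ⟨r, t, hr, hP, e⟩ => ⟨r, t, hr, h r hr hP, e⟩

theorem rootClosure_congr {P Q : ℕ → Prop} (h : ∀ r < D.nroots, P r ↔ Q r) :
    rootClosure D F P = rootClosure D F Q :=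
  le_antisymm (rootClosure_mono fun r hr => (h r hr).1) (rootClosure_mono fun r hr => (h r hr).2)

theorem wU_cons (p : ℕ × F) (w : List (ℕ × F)) : wU D (p :: w) = xU D p.1 p.2 * wU D w := by
  simp [wU]

theorem wU_mem {S : Subgroup (GL D.Idx F)} {w : List (ℕ × F)}
    (h : ∀ p ∈ w, xU D p.1 p.2 ∈ S) : wU D w ∈ S :=
  S.list_prod_mem fun g hg => by
    obtain ⟨p, hp, rfl⟩ := List.mem_map.1 hg
    exact h p hp

theorem normalizer_of_conj {H : Subgroup (GL D.Idx F)} {g : GL D.Idx F}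
    (h : ∀ x ∈ H, g * x * g⁻¹ ∈ H) (h' : ∀ x ∈ H, g⁻¹ * x * g ∈ H) :
    g ∈ Subgroup.normalizer (H : Set (GL D.Idx F)) := by
  rw [Subgroup.mem_normalizer_iff]
  intro x
  refine ⟨h x, fun hx => ?_⟩
  have := h' _ hx
  rwa [show g⁻¹ * (g * x * g⁻¹) * g = x by group] at this

theorem conj_closure {S : Set (GL D.Idx F)} {H : Subgroup (GL D.Idx F)} {g : GL D.Idx F}
    (h : ∀ x ∈ S, g * x * g⁻¹ ∈ H) {x : GL D.Idx F} (hx : x ∈ Subgroup.closure S) :
    g * x * g⁻¹ ∈ H :=
  (Subgroup.closure_le (K := H.comap (MulAut.conj g).toMonoidHom)).2 h hx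

namespace Facts

variable (hF : Facts D co)
include hF

theorem eq_xU_iff {r : ℕ} (hr : r < D.nroots) {g : GL D.Idx F} {t : F} :
    (g : Matrix D.Idx D.Idx F) = D.x F r t ↔ g = xU D r t := by
  rw [← hF.xU_val hr, Units.val_inj]

theorem wU_val {w : List (ℕ × F)} (h : ∀ p ∈ w, p.1 < D.nroots) :
    ((wU D w : GL D.Idx F) : Matrix D.Idx D.Idx F) = D.wordMat F w := by
  induction w with
  | nil => simp [wU, ChevalleyDatum.wordMat]
  | cons p w ih =>
    rw [wU_cons, Units.val_mul, hF.xU_val (h p (by simp)), ih fun q hq => h q (by simp [hq])]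
    simp [ChevalleyDatum.wordMat]

theorem posUnipotent_eq :
    D.posUnipotent F = rootClosure D F (D.nroots / 2 ≤ ·) := by
  refine congrArg Subgroup.closure (Set.ext fun g => ?_)
  constructor
  · rintro ⟨r, t, hp, h⟩
    exact ⟨r, t, hp.1, (hF.isPos_iff r hp.1).1 hp, (hF.eq_xU_iff hp.1).1 h⟩
  · rintro ⟨r, t, hr, hp, h⟩
    exact ⟨r, t, (hF.isPos_iff r hr).2 hp, (hF.eq_xU_iff hr).2 h⟩

theorem negUnipotent_eq :
    D.negUnipotent F = rootClosure D F (· < D.nroots / 2) := by
  refine congrArg Subgroup.closure (Set.ext fun g => ?_)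
  constructor
  · rintro ⟨r, t, hp, h⟩
    exact ⟨r, t, hp.1, (hF.isNeg_iff r hp.1).1 hp, (hF.eq_xU_iff hp.1).1 h⟩
  · rintro ⟨r, t, hr, hp, h⟩
    exact ⟨r, t, (hF.isNeg_iff r hr).2 hp, (hF.eq_xU_iff hr).2 h⟩

theorem rootSubgroup_eq {r : ℕ} (hr : r < D.nroots) :
    D.rootSubgroup F r = rootClosure D F (· = r) := by
  refine congrArg Subgroup.closure (Set.ext fun g => ?_)
  constructor
  · rintro ⟨t, h⟩; exact ⟨r, t, hr, rfl, (hF.eq_xU_iff hr).1 h⟩
  · rintro ⟨s, t, hs, rfl, h⟩; exact ⟨t, (hF.eq_xU_iff hs).2 h⟩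

theorem mem_rootSubgroup_iff {r : ℕ} (hr : r < D.nroots) {g : GL D.Idx F} :
    g ∈ D.rootSubgroup F r ↔ ∃ t : F, g = xU D r t := by
  rw [hF.rootSubgroup_eq hr]
  refine ⟨fun hg => ?_, fun ⟨t, h⟩ => h ▸ xU_mem_rootClosure (P := (· = r)) hr rfl t⟩
  induction hg using Subgroup.closure_induction with
  | mem x hx => obtain ⟨s, t, -, rfl, h⟩ := hx; exact ⟨t, h⟩
  | one => exact ⟨0, (hF.xU_zero hr).symm⟩
  | mul x y _ _ hx hy =>
    obtain ⟨a, rfl⟩ := hx; obtain ⟨b, rfl⟩ := hy; exact ⟨a + b, hF.xU_add hr a b⟩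
  | inv x _ hx => obtain ⟨a, rfl⟩ := hx; exact ⟨-a, hF.xU_inv hr a⟩

theorem group_eq : D.group F = rootClosure D F (fun _ => True) := by
  refine congrArg Subgroup.closure (Set.ext fun g => ?_)
  constructor
  · rintro ⟨r, t, h⟩
    refine ⟨r.val, t, r.isLt, trivial, (hF.eq_xU_iff r.isLt).1 ?_⟩
    rw [h, ChevalleyDatum.x, dif_pos r.isLt]
  · rintro ⟨r, t, hr, -, rfl⟩
    exact ⟨⟨r, hr⟩, t, by rw [hF.xU_val hr, ChevalleyDatum.x, dif_pos hr]⟩

theorem nU_mem {S : Subgroup (GL D.Idx F)} {r : ℕ} (h : ∀ t : F, xU D r t ∈ S)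
    (h' : ∀ t : F, xU D (D.neg r) t ∈ S) (t : F) : nU D r t ∈ S := by
  have _ := hF
  exact S.mul_mem (S.mul_mem (h t) (h' _)) (h t)

/-! ### The diagonal subgroup -/

theorem hT_one : hT D (fun _ => (1 : Fˣ)) = 1 := by
  have _ := hF
  rw [hT, ← dU_one]
  exact dU_congr fun s _ => by simp

theorem hT_mul (c d : ℕ → Fˣ) : hT D (fun i => c i * d i) = hT D c * hT D d := by
  have _ := hF
  rw [hT, hT, hT, dU_mul]
  exact dU_congr fun s _ => by simp [mul_zpow, Finset.prod_mul_distrib]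

theorem hT_inv (c : ℕ → Fˣ) : hT D (fun i => (c i)⁻¹) = (hT D c)⁻¹ := by
  have _ := hF
  rw [hT, hT, dU_inv]
  exact dU_congr fun s _ => by simp [Finset.prod_inv_distrib]

theorem hU_eq_hT {r : ℕ} (hr : r < D.nroots) (t : Fˣ) :
    hU D r (t : F) = hT D (fun i => t ^ cor D r i) := by
  rw [hF.hU_eq hr, hT]
  refine dU_congr fun s _ => ?_
  rw [prChar, prE]
  induction (Finset.range D.rank) using Finset.induction_on with
  | empty => simp
  | insert a S ha ih =>
    rw [Finset.sum_insert ha, Finset.prod_insert ha, zpow_add, ih, zpow_mul]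

theorem hT_eq_list (c : ℕ → Fˣ) :
    hT D c = ((List.range D.rank).map fun i => hU D (D.simple i) (c i : F)).prod := by
  have key : ∀ m ≤ D.rank, ((List.range m).map fun i => hU D (D.simple i) (c i : F)).prod =
      dU D fun s => ∏ i ∈ Finset.range m, c i ^ D.cartan i s := by
    intro m
    induction m with
    | zero => intro _; simp [← dU_one]
    | succ m ih =>
      intro hm
      rw [List.range_succ, List.map_append, List.prod_append, ih (by omega), List.map_singleton,
        List.prod_singleton, hF.hU_simple (by omega), dU_mul]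
      exact dU_congr fun s _ => by rw [Finset.prod_range_succ]
  rw [key D.rank le_rfl, hT]

theorem diagonal_gen {g : GL D.Idx F} {r : ℕ} {t : F} (hr : r < D.nroots) :
    (g : Matrix D.Idx D.Idx F) = D.hMat F r t ↔ g = hU D r t := by
  rw [← hF.hU_val hr, Units.val_inj]

theorem mem_diagonal_iff {g : GL D.Idx F} :
    g ∈ D.diagonalSubgroup F ↔ ∃ c : ℕ → Fˣ, g = hT D c := by
  constructor
  · intro hg
    induction hg using Subgroup.closure_induction with
    | mem x hx =>
      obtain ⟨r, t, hr, ht, hx⟩ := hx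
      rw [hF.diagonal_gen hr] at hx
      exact ⟨_, hx.trans (hF.hU_eq_hT hr (Units.mk0 t ht))⟩
    | one => exact ⟨_, hF.hT_one.symm⟩
    | mul x y _ _ hx hy =>
      obtain ⟨a, rfl⟩ := hx; obtain ⟨b, rfl⟩ := hy
      exact ⟨_, (hF.hT_mul a b).symm⟩
    | inv x _ hx => obtain ⟨a, rfl⟩ := hx; exact ⟨_, (hF.hT_inv a).symm⟩
  · rintro ⟨c, rfl⟩
    rw [hF.hT_eq_list]
    refine Subgroup.list_prod_mem _ fun x hx => ?_
    obtain ⟨i, hi, rfl⟩ := List.mem_map.1 hx
    rw [List.mem_range] at hi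
    exact Subgroup.subset_closure
      ⟨_, _, hF.simple_lt' hi, Units.ne_zero _, (hF.diagonal_gen (hF.simple_lt' hi)).2 rfl⟩

theorem hU_mem_diagonal {r : ℕ} (hr : r < D.nroots) {t : F} (ht : t ≠ 0) :
    hU D r t ∈ D.diagonalSubgroup F :=
  Subgroup.subset_closure ⟨r, t, hr, ht, (hF.diagonal_gen hr).2 rfl⟩

theorem isWeight_hT (c : ℕ → Fˣ) :
    IsWeight D (fun s => Additive.ofMul (∏ i ∈ Finset.range D.rank, c i ^ D.cartan i s)) := by
  refine ⟨fun r hr => ?_, fun r hr s hs k h => ?_⟩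
  · rw [← ofMul_inv, ← Finset.prod_inv_distrib]
    exact congrArg _ (Finset.prod_congr rfl fun i hi => by
      rw [hF.cartan_neg r hr i (Finset.mem_range.1 hi), zpow_neg])
  · rw [← ofMul_mul, ← Finset.prod_mul_distrib]
    exact congrArg _ (Finset.prod_congr rfl fun i hi => by
      rw [hF.cartan_add r hr s hs k h i (Finset.mem_range.1 hi), zpow_add])

theorem hT_conj_xU (c : ℕ → Fˣ) {r : ℕ} (hr : r < D.nroots) (t : F) :
    hT D c * xU D r t * (hT D c)⁻¹ =
      xU D r (((∏ i ∈ Finset.range D.rank, c i ^ D.cartan i r : Fˣ) : F) * t) := by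
  rw [hT, hF.dU_conj (hF.isWeight_hT c) hr, mul_inv_cancel_right]

theorem diagonal_le_normalizer (P : ℕ → Prop) :
    D.diagonalSubgroup F ≤ Subgroup.normalizer (rootClosure D F P : Set (GL D.Idx F)) := by
  intro g hg
  obtain ⟨c, rfl⟩ := hF.mem_diagonal_iff.1 hg
  have key : ∀ c : ℕ → Fˣ, ∀ x ∈ rootClosure D F P, hT D c * x * (hT D c)⁻¹ ∈ rootClosure D F P :=
    fun c x hx => conj_closure (fun y hy => by
      obtain ⟨r, t, hr, hP, rfl⟩ := hy
      rw [hF.hT_conj_xU c hr]
      exact xU_mem_rootClosure hr hP _) hx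
  refine normalizer_of_conj (key c) fun x hx => ?_
  have := key (fun i => (c i)⁻¹) x hx
  rwa [hF.hT_inv, inv_inv] at this

theorem diagonal_le_group : D.diagonalSubgroup F ≤ D.group F := by
  refine (Subgroup.closure_le _).2 ?_
  rintro g ⟨r, t, hr, -, hg⟩
  rw [hF.diagonal_gen hr] at hg
  subst hg
  rw [hF.group_eq]
  exact Subgroup.mul_mem _
    (hF.nU_mem (fun u => xU_mem_rootClosure hr (P := fun _ => True) trivial u)
      (fun u => xU_mem_rootClosure (hF.neg_lt hr) trivial u) t)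
    (hF.nU_mem (fun u => xU_mem_rootClosure hr (P := fun _ => True) trivial u)
      (fun u => xU_mem_rootClosure (hF.neg_lt hr) trivial u) (-1))

end Facts

/-! ### Commutators and normality -/

section Comm

universe v

variable {K : Type v} [Field K] (hF : Facts D co) (hC : CommF.{v} D)
include hF hC

theorem Facts.xU_comm {r s : ℕ} (hr : r < D.nroots) (hs : s < D.nroots) (hne : s ≠ r)
    (hneg : s ≠ D.neg r) (t u : K) :
    xU D s u * xU D r t = xU D r t * xU D s u * wU D (cwR D r s t u) := by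
  have hw : ∀ p ∈ cwR D r s t u, p.1 < D.nroots := fun p hp => by
    obtain ⟨c, hc, rfl⟩ := List.mem_map.1 hp
    exact (hF.commTerms_wt hF.isWeight_omega hr hs hc).1
  have hv : ∀ w : List (ℕ × K), (∀ p ∈ w, p.1 < D.nroots) →
      ((wU D w : GL D.Idx K) : Matrix D.Idx D.Idx K) = wR D w := fun w hw => by
    rw [hF.wU_val hw, wR, ChevalleyDatum.wordMat]
    exact congrArg List.prod (List.map_congr_left fun p hp => hF.x_eq (hw p hp) p.2)
  ext1
  rw [Units.val_mul, Units.val_mul, Units.val_mul, hF.xU_val' hr, hF.xU_val' hs, hv _ hw]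
  exact hC K r hr s hs hne hneg t u

theorem Facts.conj_xU_mem {P : ℕ → Prop} {i j : ℕ} (hi : i < D.nroots) (hj : j < D.nroots)
    (hne : j ≠ D.neg i) (hPj : P j) (h : i ≠ j → ∀ c ∈ D.commTerms i j, P c.1) (u t : K) :
    xU D i u * xU D j t * xU D i (-u) ∈ rootClosure D K P := by
  by_cases hij : i = j
  · subst hij
    rw [hF.xU_add hi, hF.xU_add hi, show u + t + -u = t by ring]
    exact xU_mem_rootClosure hi hPj t
  · rw [mul_assoc, hF.xU_comm hC hi hj (Ne.symm hij) hne, ← mul_assoc, ← mul_assoc,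
      hF.xU_add hi, add_neg_cancel, hF.xU_zero hi, one_mul]
    refine Subgroup.mul_mem _ (xU_mem_rootClosure hj hPj t) (wU_mem fun p hp => ?_)
    obtain ⟨c, hc, rfl⟩ := List.mem_map.1 hp
    exact xU_mem_rootClosure (hF.commTerms_wt hF.isWeight_omega hi hj hc).1 (h hij c hc) _

theorem Facts.le_normalizer_rootClosure {P Q : ℕ → Prop}
    (h : ∀ i < D.nroots, Q i → ∀ j < D.nroots, P j →
      j ≠ D.neg i ∧ (i ≠ j → ∀ c ∈ D.commTerms i j, P c.1)) :
    rootClosure D K Q ≤ Subgroup.normalizer (rootClosure D K P : Set (GL D.Idx K)) := by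
  refine (Subgroup.closure_le _).2 ?_
  rintro g ⟨i, u, hi, hQ, rfl⟩
  have key : ∀ u : K, ∀ x ∈ rootClosure D K P, xU D i u * x * (xU D i u)⁻¹ ∈ rootClosure D K P :=
    fun u x hx => conj_closure (fun y hy => by
      obtain ⟨j, t, hj, hP, rfl⟩ := hy
      rw [hF.xU_inv hi]
      exact hF.conj_xU_mem hC hi hj (h i hi hQ j hj hP).1 hP (h i hi hQ j hj hP).2 u t) hx
  refine normalizer_of_conj (key u) fun x hx => ?_
  have := key (-u) x hx
  rwa [← hF.xU_inv hi, inv_inv] at this

theorem Facts.pos_le_normalizer_above {k : ℕ} (hk : D.nroots / 2 ≤ k) :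
    rootClosure D K (D.nroots / 2 ≤ ·) ≤
      Subgroup.normalizer (rootClosure D K (k ≤ ·) : Set (GL D.Idx K)) := by
  refine hF.le_normalizer_rootClosure hC fun i hi hip j hj hjk => ⟨?_, fun _ c hc => ?_⟩
  · intro e
    have hlt := (hF.neg_lt_half hi).not.2 (by omega)
    rw [← e] at hlt
    omega
  · have := (hF.commTerms_lt hi hj hip (le_trans hk hjk) hc).2.2
    omega

theorem Facts.exists_decomp {k : ℕ} (hk : D.nroots / 2 ≤ k) (hkn : k < D.nroots)
    {g : GL D.Idx K} (hg : g ∈ rootClosure D K (k ≤ ·)) :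
    ∃ a : K, ∃ g' ∈ rootClosure D K (k + 1 ≤ ·), g = xU D k a * g' := by
  have hnorm : ∀ a : K, ∀ x ∈ rootClosure D K (k + 1 ≤ ·),
      xU D k a * x * (xU D k a)⁻¹ ∈ rootClosure D K (k + 1 ≤ ·) := fun a x hx =>
    (Subgroup.mem_normalizer_iff.1 (hF.pos_le_normalizer_above hC (by omega)
      (xU_mem_rootClosure hkn hk a)) x).1 hx
  induction hg using Subgroup.closure_induction with
  | mem x hx =>
    obtain ⟨r, t, hr, hkr, rfl⟩ := hx
    rcases Nat.lt_or_eq_of_le hkr with h | h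
    · exact ⟨0, _, xU_mem_rootClosure hr h t, by rw [hF.xU_zero hkn, one_mul]⟩
    · subst h; exact ⟨t, 1, Subgroup.one_mem _, (mul_one _).symm⟩
  | one => exact ⟨0, 1, Subgroup.one_mem _, by rw [hF.xU_zero hkn, one_mul]⟩
  | mul x y _ _ hx hy =>
    obtain ⟨a, x', hx', rfl⟩ := hx
    obtain ⟨b, y', hy', rfl⟩ := hy
    refine ⟨a + b, xU D k (-b) * x' * (xU D k (-b))⁻¹ * y',
      Subgroup.mul_mem _ (hnorm _ _ hx') hy', ?_⟩
    rw [hF.xU_inv hkn, _root_.neg_neg, ← hF.xU_add hkn a b,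
      show xU D k (-b) = (xU D k b)⁻¹ from (hF.xU_inv hkn b).symm]
    group
  | inv x _ hx =>
    obtain ⟨a, x', hx', rfl⟩ := hx
    refine ⟨-a, xU D k a * x'⁻¹ * (xU D k a)⁻¹, hnorm _ _ (Subgroup.inv_mem _ hx'), ?_⟩
    rw [← hF.xU_inv hkn]
    group

end Comm

namespace Facts

variable (hF : Facts D co)
include hF

theorem xU_ut {r : ℕ} (hr : r < D.nroots) (hp : D.nroots / 2 ≤ r) {k : ℤ}
    (hk : k ≤ omega D co r) (t : F) :
    UT (wt D (omega D co)) k ((xU D r t : GL D.Idx F) : Matrix D.Idx D.Idx F) := by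
  intro a b h
  rw [hF.xU_val' hr, xR, Finset.sum_range_succ', pow_zero, one_smul, divPow, map_one,
    add_sub_cancel_right, Matrix.sum_apply] at h
  obtain ⟨m, -, hm⟩ := Finset.exists_ne_zero_of_sum_ne_zero h
  have hne : divPow D r (m + 1) a b ≠ 0 := fun e => hm (by
    simp [RingHom.mapMatrix_apply, e])
  have := hF.divPow_wt hF.isWeight_omega hr (m + 1) hne
  rw [nsmul_eq_mul] at this
  have hpos := hF.omega_pos hr hp
  have := le_mul_of_one_le_left hpos.le (show (1 : ℤ) ≤ ((m + 1 : ℕ) : ℤ) by omega)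
  omega

theorem xU_ut_neg {r : ℕ} (hr : r < D.nroots) (hp : r < D.nroots / 2) (t : F) :
    UT (fun a => -wt D (omega D co) a) 1
      ((xU D r t : GL D.Idx F) : Matrix D.Idx D.Idx F) := by
  intro a b h
  rw [hF.xU_val' hr, xR, Finset.sum_range_succ', pow_zero, one_smul, divPow, map_one,
    add_sub_cancel_right, Matrix.sum_apply] at h
  obtain ⟨m, -, hm⟩ := Finset.exists_ne_zero_of_sum_ne_zero h
  have hne : divPow D r (m + 1) a b ≠ 0 := fun e => hm (by
    simp [RingHom.mapMatrix_apply, e])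
  have := hF.divPow_wt hF.isWeight_omega hr (m + 1) hne
  rw [nsmul_eq_mul] at this
  have hneg := (hF.omega_nonpos_iff hr).2 hp
  have := le_mul_of_one_le_left (show (0 : ℤ) ≤ -omega D co r by omega)
    (show (1 : ℤ) ≤ ((m + 1 : ℕ) : ℤ) by omega)
  rw [mul_neg] at this
  dsimp only
  omega

theorem pos_ut {g : GL D.Idx F} (hg : g ∈ rootClosure D F (D.nroots / 2 ≤ ·)) :
    UT (wt D (omega D co)) 1 (g : Matrix D.Idx D.Idx F) := by
  refine ut_closure (by norm_num) ?_ hg
  rintro x ⟨r, t, hr, hp, rfl⟩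
  have := hF.omega_pos hr hp
  rw [hF.xU_inv hr]
  exact ⟨hF.xU_ut hr hp (by omega) t, hF.xU_ut hr hp (by omega) (-t)⟩

theorem neg_ut {g : GL D.Idx F} (hg : g ∈ rootClosure D F (· < D.nroots / 2)) :
    UT (fun a => -wt D (omega D co) a) 1 (g : Matrix D.Idx D.Idx F) := by
  refine ut_closure (by norm_num) ?_ hg
  rintro x ⟨r, t, hr, hp, rfl⟩
  rw [hF.xU_inv hr]
  exact ⟨hF.xU_ut_neg hr hp t, hF.xU_ut_neg hr hp (-t)⟩

theorem diag_ut {g : GL D.Idx F} (hg : g ∈ D.diagonalSubgroup F) (w : D.Idx → ℤ) :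
    UT w 0 (g : Matrix D.Idx D.Idx F) := by
  obtain ⟨c, rfl⟩ := hF.mem_diagonal_iff.1 hg
  intro a b h
  by_cases hab : a = b
  · subst hab; omega
  · simp [hT, dU_val, diagC, Matrix.one_apply, hab] at h

theorem borel_eq :
    D.borelSubgroup F = rootClosure D F (D.nroots / 2 ≤ ·) ⊔ D.diagonalSubgroup F := by
  rw [ChevalleyDatum.borelSubgroup, hF.posUnipotent_eq]

theorem mem_sup_diagonal {P : ℕ → Prop} {g : GL D.Idx F}
    (hg : g ∈ rootClosure D F P ⊔ D.diagonalSubgroup F) :
    ∃ u ∈ rootClosure D F P, ∃ h ∈ D.diagonalSubgroup F, g = u * h := by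
  have hs : (↑(rootClosure D F P ⊔ D.diagonalSubgroup F) : Set (GL D.Idx F)) =
      (rootClosure D F P : Set (GL D.Idx F)) * (D.diagonalSubgroup F : Set (GL D.Idx F)) :=
    Subgroup.coe_mul_of_right_le_normalizer_left _ _ (hF.diagonal_le_normalizer P)
  rw [← SetLike.mem_coe, hs] at hg
  obtain ⟨u, hu, h, hh, rfl⟩ := hg
  exact ⟨u, hu, h, hh, rfl⟩

theorem mem_borel_iff {g : GL D.Idx F} :
    g ∈ D.borelSubgroup F ↔
      ∃ u ∈ rootClosure D F (D.nroots / 2 ≤ ·), ∃ h ∈ D.diagonalSubgroup F, g = u * h := by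
  rw [hF.borel_eq]
  refine ⟨hF.mem_sup_diagonal, ?_⟩
  rintro ⟨u, hu, h, hh, rfl⟩
  exact Subgroup.mul_mem_sup hu hh

theorem borel_ut {g : GL D.Idx F} (hg : g ∈ D.borelSubgroup F) :
    UT (wt D (omega D co)) 0 (g : Matrix D.Idx D.Idx F) := by
  obtain ⟨u, hu, h, hh, rfl⟩ := hF.mem_borel_iff.1 hg
  rw [Units.val_mul]
  exact ((hF.pos_ut hu).mono (by norm_num)).mul le_rfl (hF.diag_ut hh _)

theorem borel_inf_neg : D.borelSubgroup F ⊓ D.negUnipotent F = ⊥ := by
  rw [eq_bot_iff]
  rintro g ⟨hb, hv⟩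
  rw [hF.negUnipotent_eq] at hv
  rw [Subgroup.mem_bot, ← Units.val_inj, Units.val_one]
  exact UT.eq_one (by norm_num) le_rfl (hF.neg_ut hv) (hF.borel_ut hb)

theorem exists_cor_ne {r : ℕ} (hr : r < D.nroots) : ∃ i < D.rank, (cor D r i : F) ≠ 0 := by
  refine hF.root_induction (P := fun r => ∃ i < D.rank, (cor D r i : F) ≠ 0) (fun i hi => ?_)
    (fun i hi s hs ih => ?_) hr
  · exact ⟨i, hi, by rw [hF.cor_simple hi hi, if_pos rfl]; simp⟩
  · by_contra hc
    push Not at hc
    obtain ⟨j, hj, hne⟩ := ih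
    apply hne
    have hw := hF.refl_lt i hi s hs
    have e := hF.cor_refl i hi _ hw j hj
    rw [hF.refl_invol i hi s hs] at e
    rw [e]
    split_ifs with hij
    · push_cast
      rw [hc j hj, Finset.sum_eq_zero fun m hm => by rw [hc m (Finset.mem_range.1 hm), zero_mul]]
      simp
    · simp [hc j hj]

theorem xU_eq_zero_of_ut {r : ℕ} (hr : r < D.nroots) (hp : D.nroots / 2 ≤ r) {d : F}
    (h : UT (wt D (omega D co)) (omega D co r + 1)
      ((xU D r d : GL D.Idx F) : Matrix D.Idx D.Idx F)) : d = 0 := by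
  obtain ⟨i, hi, hne⟩ := hF.exists_cor_ne (F := F) hr
  by_contra hd
  have h' := h (Sum.inl ⟨i, hi⟩) (Sum.inr ⟨D.neg r, hF.neg_lt hr⟩) (by
    rw [hF.xU_val' hr]
    have hz : ∀ k : ℕ, divPow D r (k + 2) (Sum.inl (⟨i, hi⟩ : Fin D.rank))
        (Sum.inr ⟨D.neg r, hF.neg_lt hr⟩) = 0 := fun k => divPow_ge_two_inl_row _ _ _ _
    simp [xR, Finset.sum_range_succ, hz 0, hz 1, divPow, adRoot_inl_inr, Matrix.one_apply, hd,
      hne])
  simp only [wt, Sum.elim_inl, Sum.elim_inr, hF.omega_neg hr] at h'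
  have := hF.omega_pos hr hp
  omega

theorem above_ut {k : ℕ} (hk : k < D.nroots) (hp : D.nroots / 2 ≤ k) {g : GL D.Idx F}
    (hg : g ∈ rootClosure D F (k + 1 ≤ ·)) :
    UT (wt D (omega D co)) (omega D co k + 1) (g : Matrix D.Idx D.Idx F) := by
  have := hF.omega_pos hk hp
  refine ut_closure (by omega) ?_ hg
  rintro x ⟨r, t, hr, hkr, rfl⟩
  have := hF.omega_mono hkr hr
  rw [hF.xU_inv hr]
  exact ⟨hF.xU_ut hr (by omega) (by omega) t, hF.xU_ut hr (by omega) (by omega) (-t)⟩

theorem posRoots_eq : D.posRoots = List.range' (D.nroots / 2) (D.nroots / 2) := by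
  have hev := hF.nroots_even
  have e : D.posRoots = (List.range D.nroots).filter fun r => decide (D.nroots / 2 ≤ r) :=
    List.filter_congr fun r hr => by
      rw [decide_eq_decide]; exact hF.isPos_iff r (List.mem_range.1 hr)
  rw [e, List.range_eq_range',
    show List.range' 0 D.nroots = List.range' 0 (D.nroots / 2) ++
      List.range' (D.nroots / 2) (D.nroots / 2) by
        rw [show List.range' (D.nroots / 2) (D.nroots / 2) =
          List.range' (0 + 1 * (D.nroots / 2)) (D.nroots / 2) by simp, List.range'_append]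
        congr 1
        omega,
    List.filter_append, List.filter_eq_nil_iff.2, List.nil_append, List.filter_eq_self]
  · intro a ha
    rw [List.mem_range'_1] at ha
    simp [ha.1]
  · intro a ha
    rw [List.mem_range'_1] at ha
    simp; omega

end Facts

end Groups

/-! ### Normal form in the unipotent subgroup -/

section NormalForm

universe v

variable {K : Type v} [Field K] (hF : Facts D co) (hC : CommF.{v} D)
include hF

/-- The ordered product over a block of roots. -/
theorem Facts.ordered_mem {k m : ℕ} (hkm : k + m ≤ D.nroots) (t : ℕ → K) :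
    wU D ((List.range' k m).map fun r => (r, t r)) ∈ rootClosure D K (k ≤ ·) := by
  have _ := hF
  refine wU_mem fun p hp => ?_
  obtain ⟨r, hr, rfl⟩ := List.mem_map.1 hp
  rw [List.mem_range'_1] at hr
  exact xU_mem_rootClosure (by omega) hr.1 _

include hC

theorem Facts.exists_ordered : ∀ {m k : ℕ}, k + m = D.nroots → D.nroots / 2 ≤ k →
    ∀ {g : GL D.Idx K}, g ∈ rootClosure D K (k ≤ ·) →
      ∃ t : ℕ → K, g = wU D ((List.range' k m).map fun r => (r, t r)) := by
  intro m
  induction m with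
  | zero =>
    intro k hk _ g hg
    refine ⟨0, ?_⟩
    have : rootClosure D K (k ≤ ·) = ⊥ := by
      rw [eq_bot_iff]
      refine (Subgroup.closure_le _).2 ?_
      rintro x ⟨r, t, hr, hkr, -⟩
      omega
    rw [this, Subgroup.mem_bot] at hg
    simp [hg, wU]
  | succ m ih =>
    intro k hk hp g hg
    obtain ⟨a, g', hg', rfl⟩ := hF.exists_decomp hC hp (by omega) hg
    obtain ⟨t, rfl⟩ := ih (k := k + 1) (by omega) (by omega) hg'
    refine ⟨Function.update t k a, ?_⟩
    rw [List.range'_succ, List.map_cons, wU_cons]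
    simp only [Function.update_self]
    congr 2
    refine List.map_congr_left fun r hr => ?_
    rw [List.mem_range'_1] at hr
    rw [Function.update_of_ne (by omega)]

omit hC in
theorem Facts.ordered_unique : ∀ {m k : ℕ}, k + m = D.nroots → D.nroots / 2 ≤ k →
    ∀ {t t' : ℕ → K}, wU D ((List.range' k m).map fun r => (r, t r)) =
        wU D ((List.range' k m).map fun r => (r, t' r)) →
      ∀ r, k ≤ r → r < D.nroots → t r = t' r := by
  intro m
  induction m with
  | zero => intro k hk _ t t' _ r hr hr'; omega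
  | succ m ih =>
    intro k hk hp t t' h r hr hr'
    have hkn : k < D.nroots := by omega
    simp only [List.range'_succ, List.map_cons, wU_cons] at h
    have hd : t k - t' k = 0 := by
      apply hF.xU_eq_zero_of_ut hkn hp
      have e : xU D k (t k - t' k) = wU D ((List.range' (k + 1) m).map fun r => (r, t' r)) *
          (wU D ((List.range' (k + 1) m).map fun r => (r, t r)))⁻¹ := by
        rw [eq_mul_inv_iff_mul_eq, sub_eq_neg_add, ← hF.xU_add hkn, mul_assoc, h, ← mul_assoc,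
          hF.xU_add hkn, neg_add_cancel, hF.xU_zero hkn, one_mul]
      rw [e]
      exact hF.above_ut hkn hp
        (Subgroup.mul_mem _ (hF.ordered_mem (by omega) t')
          (Subgroup.inv_mem _ (hF.ordered_mem (by omega) t)))
    rcases Nat.lt_or_eq_of_le hr with hlt | rfl
    · rw [sub_eq_zero] at hd
      rw [hd, mul_right_inj] at h
      exact ih (k := k + 1) (by omega) (by omega) h r hlt hr'
    · exact sub_eq_zero.1 hd

/-- Coordinates on the positive unipotent subgroup. -/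
theorem Facts.bijective_ordered :
    Function.Bijective (fun t : Fin (D.nroots / 2) → K =>
      (⟨wU D ((List.range' (D.nroots / 2) (D.nroots / 2)).map fun r =>
          (r, if h : r - D.nroots / 2 < D.nroots / 2 then t ⟨r - D.nroots / 2, h⟩ else 0)),
        hF.ordered_mem (by omega) _⟩ : ↥(rootClosure D K (D.nroots / 2 ≤ ·)))) := by
  have hev := hF.nroots_even
  constructor
  · intro t t' h
    funext ⟨x, hx⟩
    have := hF.ordered_unique (by omega) le_rfl (Subtype.mk.inj h) (D.nroots / 2 + x)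
      (by omega) (by omega)
    simpa [hx] using this
  · rintro ⟨g, hg⟩
    obtain ⟨t, ht⟩ := hF.exists_ordered hC (m := D.nroots / 2) (k := D.nroots / 2) (by omega)
      le_rfl hg
    refine ⟨fun x => t (D.nroots / 2 + x.val), Subtype.ext ?_⟩
    refine ((congrArg (wU D) (List.map_congr_left fun r hr => ?_)).trans ht.symm :)
    rw [List.mem_range'_1] at hr
    rw [dif_pos (by omega)]
    simp only [show D.nroots / 2 + (r - D.nroots / 2) = r by omega]

end NormalForm

end CfsgLib.Chev
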