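/-
The monomial subgroup of a Chevalley group and its action on the roots.
-/
import Mathlib
import Cfsg.Agent.Lib.Chev.Unip
import Cfsg.Agent.Lib.Chev.Exchange

set_option autoImplicit false

namespace CfsgLib.Chev

open Cfsg.Lie
open scoped Matrix

variable {D : ChevalleyDatum} {co : ℕ → ℕ → ℤ}

open Classical in
/-- The permutation of the roots given by a fundamental reflection. -/
noncomputable def sP (D : ChevalleyDatum) (i : Fin D.rank) : Equiv.Perm (Fin D.nroots) :=
  if h : ∀ s : Fin D.nroots, D.reflectRoot i.val s.val < D.nroots then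
    if h' : Function.Involutive (fun s : Fin D.nroots => (⟨_, h s⟩ : Fin D.nroots)) then
      h'.toPerm
    else 1
  else 1

/-- The product of a word of fundamental reflections. -/
noncomputable def sW (D : ChevalleyDatum) (l : List (Fin D.rank)) : Equiv.Perm (Fin D.nroots) :=
  Exch.prodW (sP D) l

/-- `n_p` for the `i`-th fundamental root. -/
noncomputable def nS (D : ChevalleyDatum) (F : Type*) [Field F] (i : Fin D.rank) : GL D.Idx F :=
  nU D (D.simple i.val) 1

/-- The product of a word in the `n_p`. -/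
noncomputable def nW (D : ChevalleyDatum) (F : Type*) [Field F] (l : List (Fin D.rank)) :
    GL D.Idx F :=
  (l.map (nS D F)).prod

/-- `g` permutes the root elements and root vectors as `σ` does. -/
def PermAct {F : Type*} [Field F] (g : GL D.Idx F) (σ : Equiv.Perm (Fin D.nroots)) : Prop :=
  ∀ s : Fin D.nroots, ∃ c : F, c ≠ 0 ∧
    (∀ t : F, g * xU D s.val t * g⁻¹ = xU D (σ s).val (c * t)) ∧
    ∀ a : D.Idx, (g : Matrix D.Idx D.Idx F) a (Sum.inr s) = if a = Sum.inr (σ s) then c else 0

section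

variable {F : Type*} [Field F]

theorem sW_nil : sW D [] = 1 := rfl

theorem sW_cons (j : Fin D.rank) (l : List (Fin D.rank)) : sW D (j :: l) = sP D j * sW D l :=
  Exch.prodW_cons _ _ _

theorem sW_append (a b : List (Fin D.rank)) : sW D (a ++ b) = sW D a * sW D b :=
  Exch.prodW_append _ _ _

theorem nW_nil : nW D F [] = 1 := rfl

theorem nW_cons (j : Fin D.rank) (l : List (Fin D.rank)) :
    nW D F (j :: l) = nS D F j * nW D F l := by
  simp [nW]

theorem nW_append (a b : List (Fin D.rank)) : nW D F (a ++ b) = nW D F a * nW D F b := by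
  simp [nW]

namespace Facts

variable (hF : Facts D co)
include hF

theorem sP_val (i : Fin D.rank) (s : Fin D.nroots) :
    (sP D i s).val = D.reflectRoot i.val s.val := by
  have h : ∀ s : Fin D.nroots, D.reflectRoot i.val s.val < D.nroots :=
    fun s => hF.refl_lt i.val i.isLt s.val s.isLt
  simp only [sP, dif_pos h]
  rw [dif_pos]
  · rfl
  · intro t
    exact Fin.ext (hF.refl_invol i.val i.isLt t.val t.isLt)

theorem sP_sq (i : Fin D.rank) : sP D i * sP D i = 1 :=
  Equiv.ext fun s => Fin.ext (by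
    rw [Equiv.Perm.mul_apply, hF.sP_val, hF.sP_val, hF.refl_invol i.val i.isLt s.val s.isLt,
      Equiv.Perm.one_apply])

/-- A fundamental root as an element of `Fin`. -/
def simpleFin (i : Fin D.rank) : Fin D.nroots := ⟨D.simple i.val, hF.simple_lt' i.isLt⟩

/-- The negative of a root as an element of `Fin`. -/
def negFin (r : Fin D.nroots) : Fin D.nroots := ⟨D.neg r.val, hF.neg_lt r.isLt⟩

theorem sP_simple (i : Fin D.rank) : sP D i (hF.simpleFin i) = hF.negFin (hF.simpleFin i) :=
  Fin.ext (by rw [hF.sP_val]; exact hF.refl_simple i.isLt)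

theorem sP_neg (i : Fin D.rank) (s : Fin D.nroots) :
    sP D i (hF.negFin s) = hF.negFin (sP D i s) :=
  Fin.ext (by
    rw [hF.sP_val]
    show _ = D.neg (sP D i s).val
    rw [hF.sP_val]
    exact hF.refl_neg i.val i.isLt s.val s.isLt)

theorem sW_neg (l : List (Fin D.rank)) (s : Fin D.nroots) :
    sW D l (hF.negFin s) = hF.negFin (sW D l s) := by
  induction l with
  | nil => rfl
  | cons j l ih => rw [sW_cons, Equiv.Perm.mul_apply, Equiv.Perm.mul_apply, ih, hF.sP_neg]

theorem negFin_pos (s : Fin D.nroots) :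
    D.nroots / 2 ≤ (hF.negFin s).val ↔ s.val < D.nroots / 2 := hF.neg_lt_half s.isLt

theorem sW_reverse (l : List (Fin D.rank)) : sW D l.reverse = (sW D l)⁻¹ := by
  induction l with
  | nil => simp [sW_nil]
  | cons j l ih =>
    rw [List.reverse_cons, sW_append, ih, sW_cons, sW_cons, sW_nil, mul_one, mul_inv_rev,
      inv_eq_of_mul_eq_one_right (hF.sP_sq j)]

theorem nS_sq (i : Fin D.rank) {e : ℤ} (he : e = 1 ∨ e = -1) :
    nS D F i * nU D (D.simple i.val) (e : F) ∈ D.diagonalSubgroup F := by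
  have hp := hF.simple_lt' i.isLt
  rcases he with rfl | rfl
  · have h := hF.hU_mem_diagonal (F := F) hp (t := -1) (by simp)
    rw [hU] at h
    have h' := Subgroup.inv_mem _ h
    rw [mul_inv_rev, hF.nU_inv hp, _root_.neg_neg] at h'
    simpa [nS] using h'
  · simp only [nS, Int.cast_neg, Int.cast_one, ← hF.nU_inv hp, mul_inv_cancel]
    exact Subgroup.one_mem _

/-- Words conjugate `n_r(t)` to `n_{w r}(± t)`. -/
theorem nW_conj_nU : ∀ (l : List (Fin D.rank)) (s : Fin D.nroots),
    ∃ e : ℤ, (e = 1 ∨ e = -1) ∧ ∀ t : F,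
      nW D F l * nU D s.val t * (nW D F l)⁻¹ = nU D (sW D l s).val ((e : F) * t) := by
  intro l s
  induction l with
  | nil => exact ⟨1, Or.inl rfl, fun t => by simp [nW_nil, sW_nil]⟩
  | cons j l ih =>
    obtain ⟨e, he, ih⟩ := ih
    obtain ⟨η, h1, h2, h3⟩ := hF.exists_eta (F := F) j.isLt
    refine ⟨η (sW D l s).val * e, ?_, fun t => ?_⟩
    · rcases h1 _ (sW D l s).isLt with h | h <;> rcases he with rfl | rfl <;> simp [h]
    · rw [nW_cons, sW_cons, Equiv.Perm.mul_apply, hF.sP_val, Int.cast_mul, mul_assoc (_ : F),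
        ← hF.nU_conj j.isLt h1 h2 h3 (sW D l s).isLt, ← ih t, nS]
      group

theorem nS_conj_hT (i : Fin D.rank) {h : GL D.Idx F} (hh : h ∈ D.diagonalSubgroup F) :
    nS D F i * h * (nS D F i)⁻¹ ∈ D.diagonalSubgroup F := by
  induction hh using Subgroup.closure_induction with
  | mem x hx =>
    obtain ⟨r, t, hr, ht, hx⟩ := hx
    rw [hF.diagonal_gen hr] at hx
    subst hx
    rw [← Units.val_mk0 ht, hF.hU_eq hr, nS, hF.nU_simple_conj_dU i.isLt,
      show dU D (fun s => prChar D r (Units.mk0 t ht) (D.reflectRoot i.val s)) =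
        hU D (D.reflectRoot i.val r) ((Units.mk0 t ht : Fˣ) : F) by
        rw [hF.hU_eq (hF.refl_lt i.val i.isLt r hr)]
        exact dU_congr fun s hs => by rw [prChar, prChar, hF.prE_refl i.isLt hr hs]]
    exact hF.hU_mem_diagonal (hF.refl_lt i.val i.isLt r hr) (Units.ne_zero _)
  | one => simp
  | mul x y _ _ hx hy =>
    rw [show nS D F i * (x * y) * (nS D F i)⁻¹ =
      (nS D F i * x * (nS D F i)⁻¹) * (nS D F i * y * (nS D F i)⁻¹) by group]
    exact Subgroup.mul_mem _ hx hy
  | inv x _ hx =>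
    rw [show nS D F i * x⁻¹ * (nS D F i)⁻¹ = (nS D F i * x * (nS D F i)⁻¹)⁻¹ by group]
    exact Subgroup.inv_mem _ hx

theorem nS_conj_hT' (i : Fin D.rank) {h : GL D.Idx F} (hh : h ∈ D.diagonalSubgroup F) :
    (nS D F i)⁻¹ * h * nS D F i ∈ D.diagonalSubgroup F := by
  have hk : nS D F i * nS D F i ∈ D.diagonalSubgroup F := by
    have := hF.nS_sq (F := F) i (e := 1) (Or.inl rfl)
    simpa [nS] using this
  rw [show (nS D F i)⁻¹ * h * nS D F i = (nS D F i * nS D F i)⁻¹ *
    (nS D F i * h * (nS D F i)⁻¹) * (nS D F i * nS D F i) by group]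
  exact Subgroup.mul_mem _ (Subgroup.mul_mem _ (Subgroup.inv_mem _ hk) (hF.nS_conj_hT i hh)) hk

theorem nW_conj_hT' (l : List (Fin D.rank)) {h : GL D.Idx F} (hh : h ∈ D.diagonalSubgroup F) :
    (nW D F l)⁻¹ * h * nW D F l ∈ D.diagonalSubgroup F := by
  induction l generalizing h with
  | nil => simpa [nW_nil] using hh
  | cons j l ih =>
    rw [nW_cons, show (nS D F j * nW D F l)⁻¹ * h * (nS D F j * nW D F l) =
      (nW D F l)⁻¹ * ((nS D F j)⁻¹ * h * nS D F j) * nW D F l by group]
    exact ih (hF.nS_conj_hT' j hh)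

/-- Deletion: if the word sends the positive root `r` to a negative one, a letter may be
omitted after multiplying by `n_r`. -/
theorem deletion : ∀ (l : List (Fin D.rank)) (r : Fin D.nroots), D.nroots / 2 ≤ r.val →
    (sW D l r).val < D.nroots / 2 →
    ∃ (a b : List (Fin D.rank)) (j : Fin D.rank), l = a ++ j :: b ∧
      ∃ h ∈ D.diagonalSubgroup F, nW D F l * nU D r.val 1 = nW D F (a ++ b) * h := by
  intro l
  induction l with
  | nil => intro r hr h; rw [sW_nil, Equiv.Perm.one_apply] at h; omega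
  | cons j l ih =>
    intro r hr h
    by_cases hneg : (sW D l r).val < D.nroots / 2
    · obtain ⟨a, b, k, rfl, hh, hmem, he⟩ := ih r hr hneg
      exact ⟨j :: a, b, k, rfl, hh, hmem, by
        rw [nW_cons, mul_assoc, he, List.cons_append, nW_cons, mul_assoc]⟩
    · have hp : (sW D l r).val = D.simple j.val := by
        by_contra hne
        have := hF.refl_pos j.val j.isLt _ (sW D l r).isLt (by omega) hne
        rw [sW_cons, Equiv.Perm.mul_apply, hF.sP_val] at h
        omega
      obtain ⟨e, he, hc⟩ := hF.nW_conj_nU (F := F) l r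
      have h1 := hc 1
      rw [hp, mul_one] at h1
      have hk := hF.nS_sq (F := F) j he
      refine ⟨[], l, j, rfl, _, hF.nW_conj_hT' l hk, ?_⟩
      rw [nW_cons, List.nil_append, ← h1]
      group

theorem exists_nW {g : GL D.Idx F} (hg : g ∈ D.monomialSubgroup F) :
    ∃ l, ∃ h ∈ D.diagonalSubgroup F, g = nW D F l * h := by
  let M : Subgroup (GL D.Idx F) :=
    { carrier := {g | ∃ l, ∃ h ∈ D.diagonalSubgroup F, g = nW D F l * h}
      one_mem' := ⟨[], 1, Subgroup.one_mem _, by simp [nW_nil]⟩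
      mul_mem' := by
        rintro _ _ ⟨l, h, hh, rfl⟩ ⟨m, k, hk, rfl⟩
        refine ⟨l ++ m, _, Subgroup.mul_mem _ (hF.nW_conj_hT' m hh) hk, ?_⟩
        rw [nW_append]; group
      inv_mem' := by
        rintro _ ⟨l, h, hh, rfl⟩
        have key : ∀ l : List (Fin D.rank), ∃ m, ∃ k ∈ D.diagonalSubgroup F,
            (nW D F l)⁻¹ = nW D F m * k := by
          intro l
          induction l with
          | nil => exact ⟨[], 1, Subgroup.one_mem _, by simp [nW_nil]⟩
          | cons j l ih =>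
            obtain ⟨m, k, hk, e⟩ := ih
            have hsq : nS D F j * nS D F j ∈ D.diagonalSubgroup F := by
              simpa [nS] using hF.nS_sq (F := F) j (e := 1) (Or.inl rfl)
            refine ⟨m ++ [j], ((nS D F j)⁻¹ * k * nS D F j) * (nS D F j * nS D F j)⁻¹,
              Subgroup.mul_mem _ (hF.nS_conj_hT' j hk) (Subgroup.inv_mem _ hsq), ?_⟩
            rw [nW_cons, mul_inv_rev, e, nW_append, nW_cons, nW_nil]
            group
        obtain ⟨m, k, hk, e⟩ := key l
        refine ⟨m, _, Subgroup.mul_mem _ (hF.nW_conj_hT' m (Subgroup.inv_mem _ hh)) hk, ?_⟩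
        rw [mul_inv_rev, e]; group }
  have hH : D.diagonalSubgroup F ≤ M := fun h hh => ⟨[], h, hh, by simp [nW_nil]⟩
  have hS : ∀ i : Fin D.rank, nS D F i ∈ M := fun i =>
    ⟨[i], 1, Subgroup.one_mem _, by simp [nW_cons, nW_nil]⟩
  have hN : ∀ r < D.nroots, ∀ t : F, t ≠ 0 → nU D r t ∈ M := by
    intro r hr
    refine hF.root_induction (P := fun r => ∀ t : F, t ≠ 0 → nU D r t ∈ M) (fun i hi t ht => ?_)
      (fun i hi s hs ih t ht => ?_) hr
    · have hp := hF.simple_lt' hi
      rw [show nU D (D.simple i) t = hU D (D.simple i) t * nS D F ⟨i, hi⟩ from by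
        rw [hU, ← hF.nU_inv hp, nS]; group]
      exact M.mul_mem (hH (hF.hU_mem_diagonal hp ht)) (hS _)
    · obtain ⟨η, h1, h2, h3⟩ := hF.exists_eta (F := F) hi
      have := hF.nU_conj hi h1 h2 h3 hs ((η s : F) * t)
      rw [show (η s : F) * ((η s : F) * t) = t by rcases h1 s hs with h | h <;> simp [h]] at this
      rw [← this]
      refine M.mul_mem (M.mul_mem (hS ⟨i, hi⟩) (ih _ ?_)) (M.inv_mem (hS ⟨i, hi⟩))
      rcases h1 s hs with h | h <;> simpa [h] using ht
  have : D.monomialSubgroup F ≤ M := by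
    refine sup_le hH ((Subgroup.closure_le _).2 ?_)
    rintro x ⟨r, hr, hx⟩
    rw [← hF.nU_val hr, Units.val_inj] at hx
    exact hx ▸ hN r hr 1 one_ne_zero
  exact this hg

theorem nU_mem_monomial {r : ℕ} (hr : r < D.nroots) :
    nU D r (1 : F) ∈ D.monomialSubgroup F :=
  Subgroup.mem_sup_right (Subgroup.subset_closure ⟨r, hr, hF.nU_val hr 1⟩)

theorem nS_mem (i : Fin D.rank) : nS D F i ∈ D.monomialSubgroup F :=
  hF.nU_mem_monomial (hF.simple_lt' i.isLt)

theorem nW_mem (l : List (Fin D.rank)) : nW D F l ∈ D.monomialSubgroup F :=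
  Subgroup.list_prod_mem _ fun g hg => by
    obtain ⟨i, -, rfl⟩ := List.mem_map.1 hg
    exact hF.nS_mem i

/-! ### The action on the roots -/

theorem permAct_mul {g h : GL D.Idx F} {σ τ : Equiv.Perm (Fin D.nroots)}
    (hg : PermAct g σ) (hh : PermAct h τ) : PermAct (g * h) (σ * τ) := by
  have _ := hF
  intro s
  obtain ⟨c, hc, hc1, hc2⟩ := hh s
  obtain ⟨d, hd, hd1, hd2⟩ := hg (τ s)
  refine ⟨d * c, mul_ne_zero hd hc, fun t => ?_, fun a => ?_⟩
  · rw [show g * h * xU D s.val t * (g * h)⁻¹ = g * (h * xU D s.val t * h⁻¹) * g⁻¹ by group,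
      hc1, hd1, Equiv.Perm.mul_apply, mul_assoc]
  · rw [Units.val_mul, Matrix.mul_apply, Finset.sum_eq_single (Sum.inr (τ s))]
    · rw [hc2, hd2, if_pos rfl, Equiv.Perm.mul_apply]
      split_ifs <;> simp
    · intro b _ hb; rw [hc2, if_neg hb, mul_zero]
    · simp

theorem permAct_dU {χ : ℕ → Fˣ} (hχ : IsWeight D (fun r => Additive.ofMul (χ r))) :
    PermAct (dU D χ) 1 := by
  intro s
  refine ⟨χ s.val, Units.ne_zero _, fun t => ?_, fun a => ?_⟩
  · rw [hF.dU_conj hχ s.isLt, mul_inv_cancel_right, Equiv.Perm.one_apply]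
  · rw [dU_val, diagC, Matrix.diagonal_apply, Equiv.Perm.one_apply]
    split_ifs with h <;> simp [h]

theorem permAct_diagonal {g : GL D.Idx F} (hg : g ∈ D.diagonalSubgroup F) : PermAct g 1 := by
  obtain ⟨c, rfl⟩ := hF.mem_diagonal_iff.1 hg
  exact hF.permAct_dU (hF.isWeight_hT c)

theorem permAct_nS (i : Fin D.rank) : PermAct (nS D F i) (sP D i) := by
  intro s
  obtain ⟨η, h1, -, -, -, h3⟩ := hF.nProd_eq i.val i.isLt
  refine ⟨(η s.val : F), by rcases h1 _ s.isLt with h | h <;> simp [h], fun t => ?_, fun a => ?_⟩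
  · rw [hF.sP_val]
    rw [mul_inv_eq_iff_eq_mul]
    ext1
    rw [Units.val_mul, Units.val_mul, nS, hF.nU_simple_val i.isLt, hF.xU_val' s.isLt,
      hF.xU_val' (hF.refl_lt i.val i.isLt s.val s.isLt), hF.castM_nProd_mul_xR i.isLt h3 s.isLt]
  · rw [nS, hF.nU_simple_val i.isLt, h3]
    rcases a with j | u
    · simp [nForm, RingHom.mapMatrix_apply]
    · simp only [nForm, RingHom.mapMatrix_apply, Matrix.map_apply, Matrix.of_apply, Sum.inr.injEq,
        Fin.ext_iff, hF.sP_val]
      split_ifs <;> simp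

theorem permAct_nW (l : List (Fin D.rank)) : PermAct (nW D F l) (sW D l) := by
  induction l with
  | nil =>
    intro s
    refine ⟨1, one_ne_zero, fun t => by simp [nW_nil, sW_nil], fun a => ?_⟩
    rw [nW_nil, sW_nil, Units.val_one, Matrix.one_apply, Equiv.Perm.one_apply]
  | cons j l ih => rw [nW_cons, sW_cons]; exact hF.permAct_mul (hF.permAct_nS j) ih

theorem exists_permAct {g : GL D.Idx F} (hg : g ∈ D.monomialSubgroup F) :
    ∃ σ, PermAct g σ := by
  obtain ⟨l, h, hh, rfl⟩ := hF.exists_nW hg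
  exact ⟨_, hF.permAct_mul (hF.permAct_nW l) (hF.permAct_diagonal hh)⟩

theorem permAct_unique {g : GL D.Idx F} {σ τ : Equiv.Perm (Fin D.nroots)} (hσ : PermAct g σ)
    (hτ : PermAct g τ) : σ = τ := by
  have _ := hF
  refine Equiv.ext fun s => ?_
  obtain ⟨c, hc, -, h1⟩ := hσ s
  obtain ⟨d, hd, -, h2⟩ := hτ s
  by_contra hne
  have := h1 (Sum.inr (σ s))
  rw [h2, if_pos rfl, if_neg (by simpa using hne)] at this
  exact hc this.symm

open Classical in
/-- The permutation of the roots induced by an element of `N`. -/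
noncomputable def weylHom : ↥(D.monomialSubgroup F) →* Equiv.Perm (Fin D.nroots) :=
  MonoidHom.mk' (fun g => Classical.choose (hF.exists_permAct g.2)) fun g h =>
    hF.permAct_unique (Classical.choose_spec (hF.exists_permAct (g * h).2))
      (hF.permAct_mul (Classical.choose_spec (hF.exists_permAct g.2))
        (Classical.choose_spec (hF.exists_permAct h.2)))

theorem weylHom_eq {g : ↥(D.monomialSubgroup F)} {σ : Equiv.Perm (Fin D.nroots)}
    (h : PermAct (g : GL D.Idx F) σ) : hF.weylHom g = σ :=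
  hF.permAct_unique (Classical.choose_spec (hF.exists_permAct g.2)) h

theorem weylHom_nW (l : List (Fin D.rank)) :
    hF.weylHom (F := F) ⟨nW D F l, hF.nW_mem l⟩ = sW D l := hF.weylHom_eq (hF.permAct_nW l)

omit F in
theorem weylHom_deletion (l : List (Fin D.rank)) (i : Fin D.rank)
    (h : (sW D l (hF.simpleFin i)).val < D.nroots / 2) :
    ∃ (a b : List (Fin D.rank)) (j : Fin D.rank), l = a ++ j :: b ∧
      sW D (l ++ [i]) = sW D (a ++ b) := by
  obtain ⟨a, b, j, e, hh, hmem, heq⟩ :=
    hF.deletion (F := ℚ) l (hF.simpleFin i) (hF.simple_lt i.val i.isLt).1 h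
  refine ⟨a, b, j, e, ?_⟩
  have h1 := hF.permAct_nW (F := ℚ) (l ++ [i])
  rw [nW_append, nW_cons, nW_nil, mul_one, nS] at h1
  rw [show (hF.simpleFin i).val = D.simple i.val from rfl] at heq
  rw [heq] at h1
  have h2 := hF.permAct_mul (hF.permAct_nW (F := ℚ) (a ++ b)) (hF.permAct_diagonal hmem)
  rw [mul_one] at h2
  exact hF.permAct_unique h1 h2

theorem nW_mem_diagonal {l : List (Fin D.rank)} (h : sW D l = 1) :
    nW D F l ∈ D.diagonalSubgroup F := by
  suffices ∀ (m : ℕ) (l : List (Fin D.rank)), l.length = m → sW D l = 1 →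
      nW D F l ∈ D.diagonalSubgroup F from this _ l rfl h
  intro m
  induction m using Nat.strong_induction_on with
  | _ m ih =>
    intro l hm hl
    rcases List.eq_nil_or_concat l with rfl | ⟨l', i, rfl⟩
    · rw [nW_nil]; exact Subgroup.one_mem _
    rw [List.concat_eq_append] at hl hm ⊢
    rw [sW_append, sW_cons, sW_nil, mul_one] at hl
    have hl' : sW D l' = sP D i := by
      rw [eq_inv_of_mul_eq_one_left hl, inv_eq_of_mul_eq_one_right (hF.sP_sq i)]
    have hneg : (sW D l' (hF.simpleFin i)).val < D.nroots / 2 := by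
      rw [hl', hF.sP_simple]
      have h1 := hF.negFin_pos (hF.simpleFin i)
      have h2 : D.nroots / 2 ≤ (hF.simpleFin i).val := (hF.simple_lt i.val i.isLt).1
      omega
    obtain ⟨a, b, j, e, hh, hmem, heq⟩ :=
      hF.deletion (F := F) l' (hF.simpleFin i) (hF.simple_lt i.val i.isLt).1 hneg
    rw [nW_append, nW_cons, nW_nil, mul_one]
    show nW D F l' * nU D (hF.simpleFin i).val 1 ∈ _
    rw [heq]
    refine Subgroup.mul_mem _ (ih (a ++ b).length ?_ _ rfl ?_) hmem
    · rw [← hm, e]; simp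
    · have h1 := hF.permAct_nW (F := F) (l' ++ [i])
      rw [nW_append, nW_cons, nW_nil, mul_one] at h1
      have h2 := hF.permAct_mul (hF.permAct_nW (F := F) (a ++ b)) (hF.permAct_diagonal hmem)
      rw [mul_one, ← heq] at h2
      rw [← hF.permAct_unique h1 h2, sW_append, sW_cons, sW_nil, mul_one, hl', hF.sP_sq]

theorem mem_diagonal_of_permAct {g : GL D.Idx F} (hg : g ∈ D.monomialSubgroup F)
    (h : PermAct g 1) : g ∈ D.diagonalSubgroup F := by
  obtain ⟨l, k, hk, rfl⟩ := hF.exists_nW hg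
  have := hF.permAct_unique h (hF.permAct_mul (hF.permAct_nW l) (hF.permAct_diagonal hk))
  rw [mul_one] at this
  exact Subgroup.mul_mem _ (hF.nW_mem_diagonal this.symm) hk

theorem weylHom_ker :
    (hF.weylHom (F := F)).ker = (D.diagonalSubgroup F).subgroupOf (D.monomialSubgroup F) := by
  ext g
  rw [MonoidHom.mem_ker, Subgroup.mem_subgroupOf]
  refine ⟨fun h => hF.mem_diagonal_of_permAct g.2 ?_, fun h => hF.weylHom_eq (hF.permAct_diagonal h)⟩
  obtain ⟨σ, hσ⟩ := hF.exists_permAct g.2
  rwa [← (hF.weylHom_eq hσ).symm.trans h]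

theorem permAct_pos {g : GL D.Idx F} {σ : Equiv.Perm (Fin D.nroots)} (hg : PermAct g σ)
    (hu : g ∈ D.borelSubgroup F) : σ = 1 := by
  refine Equiv.ext fun s => ?_
  obtain ⟨u, hu', h, hh, rfl⟩ := hF.mem_borel_iff.1 hu
  obtain ⟨c, hc, -, hcol⟩ := hg s
  obtain ⟨d, hd, -, hd'⟩ := hF.permAct_diagonal hh s
  have := hcol (Sum.inr s)
  rw [Units.val_mul, Matrix.mul_apply, Finset.sum_eq_single (Sum.inr s)] at this
  · rw [hd', if_pos (by simp), (hF.pos_ut hu').apply_self (by norm_num), one_mul] at this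
    by_contra hne
    rw [if_neg (show ¬ (Sum.inr s : D.Idx) = Sum.inr (σ s) from
      fun e => hne (Sum.inr.inj e).symm)] at this
    exact hd this
  · intro b _ hb; rw [hd', Equiv.Perm.one_apply, if_neg hb, mul_zero]
  · simp

theorem borel_inf_monomial :
    D.borelSubgroup F ⊓ D.monomialSubgroup F = D.diagonalSubgroup F := by
  refine le_antisymm ?_ (le_inf ?_ le_sup_left)
  · rintro g ⟨hb, hn⟩
    obtain ⟨σ, hσ⟩ := hF.exists_permAct hn
    exact hF.mem_diagonal_of_permAct hn (hF.permAct_pos hσ hb ▸ hσ)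
  · rw [ChevalleyDatum.borelSubgroup]; exact le_sup_right

theorem pos_inf_diagonal :
    rootClosure D F (D.nroots / 2 ≤ ·) ⊓ D.diagonalSubgroup F = ⊥ := by
  rw [eq_bot_iff]
  rintro g ⟨hu, hh⟩
  rw [Subgroup.mem_bot, ← Units.val_inj, Units.val_one]
  exact UT.eq_one (w := fun a => -wt D (omega D co) a) one_pos le_rfl
    (fun a b hab => by simpa using hF.pos_ut hu a b hab) (hF.diag_ut hh _)

end Facts

end

/-! ### The Weyl group -/

namespace Facts

variable (hF : Facts D co)
include hF

theorem sW_left_exchange {l : List (Fin D.rank)} {i : Fin D.rank}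
    (h : ((sW D l)⁻¹ (hF.simpleFin i)).val < D.nroots / 2) :
    ∃ (a b : List (Fin D.rank)) (j : Fin D.rank), l = a ++ j :: b ∧
      sP D i * sW D l = sW D (a ++ b) := by
  rw [← hF.sW_reverse] at h
  obtain ⟨a, b, j, e, he⟩ := hF.weylHom_deletion _ _ h
  refine ⟨b.reverse, a.reverse, j, ?_, ?_⟩
  · rw [← List.reverse_reverse l, e]; simp
  · rw [← List.reverse_append, hF.sW_reverse, ← he, sW_append, sW_cons, sW_nil, mul_one,
      hF.sW_reverse, mul_inv_rev, inv_inv, inv_eq_of_mul_eq_one_right (hF.sP_sq i)]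

theorem hasExchange : Exch.HasExchange (sP D) := by
  intro l i hl hn
  by_cases h : ((sW D l)⁻¹ (hF.simpleFin i)).val < D.nroots / 2
  · obtain ⟨a, b, j, rfl, he⟩ := hF.sW_left_exchange h
    refine ⟨a.length, by simp, ?_⟩
    rw [show ((a ++ j :: b).eraseIdx a.length) = a ++ b by
      rw [List.eraseIdx_append_of_length_le le_rfl]; simp]
    exact he
  · exfalso
    obtain ⟨m, hm, hmp⟩ := Exch.exists_redW (g := sP D) (i :: l)
    have hlen : m.length ≤ l.length := by
      by_contra hc
      refine hn fun k hk => ?_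
      have := hm k (hk.trans hmp.symm)
      simp only [List.length_cons] at *
      omega
    have hneg : ((sW D m)⁻¹ (hF.simpleFin i)).val < D.nroots / 2 := by
      rw [sW, hmp, Exch.prodW_cons, mul_inv_rev, Equiv.Perm.mul_apply,
        inv_eq_of_mul_eq_one_right (hF.sP_sq i), hF.sP_simple, ← sW, ← hF.sW_reverse,
        hF.sW_neg, hF.sW_reverse]
      have h1 := hF.negFin_pos ((sW D l)⁻¹ (hF.simpleFin i))
      omega
    obtain ⟨a, b, j, rfl, he⟩ := hF.sW_left_exchange hneg
    have := hl (a ++ b) (by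
      show sW D (a ++ b) = sW D l
      rw [← he, sW, hmp, Exch.prodW_cons, ← mul_assoc, hF.sP_sq, one_mul]; rfl)
    simp only [List.length_append, List.length_cons] at *
    omega

theorem sP_injective : Function.Injective (sP D) := by
  intro i j h
  have e := congrArg (fun σ => σ (hF.simpleFin i)) h
  simp only [hF.sP_simple] at e
  have e' := congrArg Fin.val e
  rw [hF.sP_val] at e'
  change D.neg (D.simple i.val) = D.reflectRoot j.val (D.simple i.val) at e'
  by_contra hne
  have hne' : D.simple i.val ≠ D.simple j.val := fun h' =>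
    hne (Fin.ext (hF.simple_inj i.isLt j.isLt h'))
  have h1 := hF.refl_pos j.val j.isLt _ (hF.simple_lt' i.isLt) (hF.simple_lt i.val i.isLt).1 hne'
  rw [← e'] at h1
  have h2 := (hF.neg_lt_half (hF.simple_lt' i.isLt)).1 h1
  have := (hF.simple_lt i.val i.isLt).1
  omega

theorem sP_ne_one (i : Fin D.rank) : sP D i ≠ 1 := by
  intro h
  have e := congrArg (fun σ => σ (hF.simpleFin i)) h
  simp only [hF.sP_simple, Equiv.Perm.one_apply] at e
  exact hF.neg_ne (hF.simple_lt' i.isLt) (congrArg Fin.val e)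

/-- A product of reflections keeping every positive root positive is trivial. -/
theorem eq_one_of_pos (l : List (Fin D.rank))
    (h : ∀ r : Fin D.nroots, D.nroots / 2 ≤ r.val → D.nroots / 2 ≤ (sW D l r).val) :
    sW D l = 1 := by
  obtain ⟨m, hm, hmp⟩ := Exch.exists_redW (g := sP D) l
  rcases List.eq_nil_or_concat m with rfl | ⟨m', i, rfl⟩
  · rw [sW, ← hmp]; rfl
  exfalso
  rw [List.concat_eq_append] at hm hmp
  have hp := (hF.simple_lt i.val i.isLt).1
  have hpos := h (hF.simpleFin i) hp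
  rw [sW, ← hmp, ← sW, sW_append, sW_cons, sW_nil, mul_one, Equiv.Perm.mul_apply, hF.sP_simple,
    hF.sW_neg] at hpos
  obtain ⟨a, b, j, rfl, he⟩ := hF.weylHom_deletion m' i ((hF.negFin_pos _).1 hpos)
  have := hm (a ++ b) he.symm
  simp only [List.length_append, List.length_cons, List.length_nil] at this
  omega

end Facts

end CfsgLib.Chev
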