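/-
The (B,N)-pair of a Chevalley group, the longest element and the Bruhat normal form.
-/
import Mathlib
import Cfsg.Prelude.Def_LieExceptional
import Cfsg.Agent.Lib.Chev.Weyl
import Cfsg.Agent.Lib.Chev.BNPair

set_option autoImplicit false

namespace CfsgLib.Chev

open Cfsg.Lie
open scoped Matrix Pointwise

variable {D : ChevalleyDatum} {co : ℕ → ℕ → ℤ}

/-- The roots kept positive by a permutation. -/
def PosKeep (σ : Equiv.Perm (Fin D.nroots)) (r : ℕ) : Prop :=
  ∃ h : r < D.nroots, D.nroots / 2 ≤ r ∧ D.nroots / 2 ≤ (σ ⟨r, h⟩).val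

/-- The roots made negative by a permutation. -/
def PosFlip (σ : Equiv.Perm (Fin D.nroots)) (r : ℕ) : Prop :=
  ∃ h : r < D.nroots, D.nroots / 2 ≤ r ∧ (σ ⟨r, h⟩).val < D.nroots / 2

section

variable {F : Type*} [Field F]

namespace Facts

variable (hF : Facts D co)
include hF

/-- A root subgroup determines its root. -/
theorem xU_root_unique {r s : ℕ} (hr : r < D.nroots) (hs : s < D.nroots) {c d : F} (hc : c ≠ 0)
    (h : xU D r c = xU D s d) : r = s := by
  obtain ⟨i, hi, hne⟩ := hF.exists_cor_ne (F := F) hr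
  by_contra hrs
  have hneg : D.neg r ≠ D.neg s := fun e => hrs (by rw [← hF.neg_neg hr, e, hF.neg_neg hs])
  have e := congrArg (fun g : GL D.Idx F => (g : Matrix D.Idx D.Idx F) (Sum.inl ⟨i, hi⟩)
    (Sum.inr ⟨D.neg r, hF.neg_lt hr⟩)) h
  simp only [hF.xU_val' hr, hF.xU_val' hs] at e
  have hz : ∀ q k : ℕ, divPow D q (k + 2) (Sum.inl (⟨i, hi⟩ : Fin D.rank))
        (Sum.inr ⟨D.neg r, hF.neg_lt hr⟩) = 0 := fun q k => divPow_ge_two_inl_row _ _ _ _
  simp [xR, Finset.sum_range_succ, hz _ 0, hz _ 1, divPow, adRoot_inl_inr, Matrix.one_apply,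
    hneg, hne, hc] at e

theorem xU_eq_one {r : ℕ} (hr : r < D.nroots) {c : F} (h : xU D r c = 1) : c = 0 := by
  by_contra hc
  have hn := hF.neg_lt hr
  refine hF.neg_ne hr (hF.xU_root_unique (c := c) (d := (0 : F)) hr hn hc ?_).symm
  rw [h, hF.xU_zero hn]

theorem conj_rootClosure {g : GL D.Idx F} {σ : Equiv.Perm (Fin D.nroots)} (hg : PermAct g σ)
    {P Q : ℕ → Prop} (h : ∀ s : Fin D.nroots, P s.val → Q (σ s).val) {x : GL D.Idx F}
    (hx : x ∈ rootClosure D F P) : g * x * g⁻¹ ∈ rootClosure D F Q := by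
  have _ := hF
  refine conj_closure ?_ hx
  rintro y ⟨r, t, hr, hP, rfl⟩
  obtain ⟨c, -, h1, -⟩ := hg ⟨r, hr⟩
  rw [show xU D r t = xU D (⟨r, hr⟩ : Fin D.nroots).val t from rfl, h1]
  exact xU_mem_rootClosure (σ ⟨r, hr⟩).isLt (h _ hP) _

theorem permAct_inv {g : GL D.Idx F} {σ : Equiv.Perm (Fin D.nroots)}
    (hg : g ∈ D.monomialSubgroup F) (h : PermAct g σ) : PermAct g⁻¹ σ⁻¹ := by
  obtain ⟨τ, hτ⟩ := hF.exists_permAct (Subgroup.inv_mem _ hg)
  have h1 := hF.weylHom_eq (g := ⟨g, hg⟩) h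
  have h2 := hF.weylHom_eq (g := ⟨g⁻¹, Subgroup.inv_mem _ hg⟩) hτ
  rw [show (⟨g⁻¹, Subgroup.inv_mem _ hg⟩ : ↥(D.monomialSubgroup F)) = ⟨g, hg⟩⁻¹ from rfl,
    map_inv, h1] at h2
  rwa [h2]

theorem sP_pos (i : Fin D.rank) {s : Fin D.nroots} (hs : D.nroots / 2 ≤ s.val)
    (hne : s.val ≠ D.simple i.val) :
    D.nroots / 2 ≤ (sP D i s).val ∧ (sP D i s).val ≠ D.simple i.val := by
  rw [hF.sP_val]
  refine ⟨hF.refl_pos i.val i.isLt s.val s.isLt hs hne, fun e => ?_⟩
  have := congrArg (D.reflectRoot i.val) e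
  rw [hF.refl_invol i.val i.isLt s.val s.isLt, hF.refl_simple i.isLt] at this
  have h1 := (hF.simple_lt i.val i.isLt)
  have h2 := (hF.neg_lt_half (hF.simple_lt' i.isLt)).1 (this ▸ hs)
  omega

theorem monomial_le_group : D.monomialSubgroup F ≤ D.group F := by
  refine sup_le hF.diagonal_le_group ((Subgroup.closure_le _).2 ?_)
  rintro g ⟨r, hr, hg⟩
  rw [← hF.nU_val hr, Units.val_inj] at hg
  rw [hg, hF.group_eq]
  exact hF.nU_mem (fun u => xU_mem_rootClosure hr (P := fun _ => True) trivial u)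
    (fun u => xU_mem_rootClosure (hF.neg_lt hr) trivial u) 1

theorem pos_le_group : rootClosure D F (D.nroots / 2 ≤ ·) ≤ D.group F := by
  rw [hF.group_eq]; exact rootClosure_mono fun _ _ _ => trivial

theorem borel_le_group : D.borelSubgroup F ≤ D.group F := by
  rw [hF.borel_eq]; exact sup_le hF.pos_le_group hF.diagonal_le_group

theorem pos_le_borel : rootClosure D F (D.nroots / 2 ≤ ·) ≤ D.borelSubgroup F := by
  rw [hF.borel_eq]; exact le_sup_left

theorem diagonal_le_borel : D.diagonalSubgroup F ≤ D.borelSubgroup F := le_sup_right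

theorem xU_mem_borel {r : ℕ} (hr : r < D.nroots) (hp : D.nroots / 2 ≤ r) (t : F) :
    xU D r t ∈ D.borelSubgroup F := hF.pos_le_borel (xU_mem_rootClosure hr hp t)

theorem borel_sup_monomial : D.borelSubgroup F ⊔ D.monomialSubgroup F = D.group F := by
  refine le_antisymm (sup_le hF.borel_le_group hF.monomial_le_group) ?_
  set S := D.borelSubgroup F ⊔ D.monomialSubgroup F with hS
  have hB : D.borelSubgroup F ≤ S := le_sup_left
  have hN : D.monomialSubgroup F ≤ S := le_sup_right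
  have key : ∀ r < D.nroots, ∀ t : F, xU D r t ∈ S := by
    intro r hr
    refine hF.root_induction (P := fun r => ∀ t : F, xU D r t ∈ S)
      (fun i hi t => hB (hF.xU_mem_borel (hF.simple_lt' hi) (hF.simple_lt i hi).1 t))
      (fun i hi s hs ih t => ?_) hr
    obtain ⟨η, h1, -, h3⟩ := hF.exists_eta (F := F) hi
    have := h3 s hs ((η s : F) * t)
    rw [show (η s : F) * ((η s : F) * t) = t by rcases h1 s hs with h | h <;> simp [h],
      ← mul_inv_eq_iff_eq_mul] at this
    rw [← this]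
    exact Subgroup.mul_mem _ (Subgroup.mul_mem _ (hN (hF.nS_mem ⟨i, hi⟩)) (ih _))
      (Subgroup.inv_mem _ (hN (hF.nS_mem ⟨i, hi⟩)))
  rw [hF.group_eq]
  refine (Subgroup.closure_le _).2 ?_
  rintro g ⟨r, t, hr, -, rfl⟩
  exact key r hr t

theorem cartan_eq_sum {i : ℕ} (hi : i < D.rank) {s : ℕ} (hs : s < D.nroots) : D.cartan i s =
    ∑ q ∈ Finset.range D.rank, co s q * D.cartan i (D.simple q) := by
  refine hF.root_induction (P := fun s => D.cartan i s =
    ∑ q ∈ Finset.range D.rank, co s q * D.cartan i (D.simple q)) (fun m hm => ?_)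
    (fun m hm r hr ih => ?_) hs
  · rw [Finset.sum_eq_single m]
    · rw [hF.co_simple m hm m hm, if_pos rfl, one_mul]
    · intro q hq hne
      rw [hF.co_simple m hm q (Finset.mem_range.1 hq), if_neg (Ne.symm hne), zero_mul]
    · intro hn; exact absurd (Finset.mem_range.2 hm) hn
  · rw [hF.cartan_refl m hm r hr i hi, ih]
    refine Eq.symm ?_
    rw [Finset.sum_congr rfl fun q hq => by
      rw [hF.co_refl m hm r hr q (Finset.mem_range.1 hq), sub_mul], Finset.sum_sub_distrib]
    simp [hm, mul_comm]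

theorem weight_sW (l : List (Fin D.rank)) {j : ℕ} (hj : j < D.rank) :
    IsWeight D (fun r => if h : r < D.nroots then co (sW D l ⟨r, h⟩).val j else 0) := by
  induction l generalizing j with
  | nil =>
    refine ⟨fun r hr => ?_, fun r hr s hs k h => ?_⟩
    · rw [dif_pos (hF.neg_lt hr), dif_pos hr]
      simp [sW_nil, hF.co_neg r hr j hj]
    · rw [dif_pos (hF.tgt_spec r hr s hs k h).1, dif_pos hr, dif_pos hs]
      simp [sW_nil, hF.co_add r hr s hs k h j hj]
  | cons m l ih =>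
    have expand : ∀ x : Fin D.nroots, co (sW D (m :: l) x).val j = co (sW D l x).val j -
        if m.val = j then ∑ q ∈ Finset.range D.rank,
          co (sW D l x).val q * D.cartan m.val (D.simple q) else 0 := by
      intro x
      have hx := (sW D l x).isLt
      rw [sW_cons, Equiv.Perm.mul_apply, hF.sP_val, hF.co_refl m.val m.isLt _ hx j hj]
      congr 1
      split_ifs
      · exact hF.cartan_eq_sum m.isLt hx
      · rfl
    refine ⟨fun r hr => ?_, fun r hr s hs k h => ?_⟩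
    · rw [dif_pos (hF.neg_lt hr), dif_pos hr, expand, expand]
      have e : ∀ q < D.rank, co (sW D l ⟨D.neg r, hF.neg_lt hr⟩).val q =
          -co (sW D l ⟨r, hr⟩).val q := fun q hq => by
        have := (ih hq).neg r hr
        rwa [dif_pos (hF.neg_lt hr), dif_pos hr] at this
      rw [e j hj, Finset.sum_congr rfl fun q hq => by rw [e q (Finset.mem_range.1 hq)]]
      simp only [neg_mul, Finset.sum_neg_distrib]
      split_ifs <;> ring
    · have hk := (hF.tgt_spec r hr s hs k h).1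
      rw [dif_pos hk, dif_pos hr, dif_pos hs, expand, expand, expand]
      have e : ∀ q < D.rank, co (sW D l ⟨k, hk⟩).val q =
          co (sW D l ⟨r, hr⟩).val q + co (sW D l ⟨s, hs⟩).val q := fun q hq => by
        have := (ih hq).add r hr s hs k h
        rwa [dif_pos hk, dif_pos hr, dif_pos hs] at this
      rw [e j hj, Finset.sum_congr rfl fun q hq => by rw [e q (Finset.mem_range.1 hq)]]
      simp only [add_mul, Finset.sum_add_distrib]
      split_ifs <;> ring

theorem exists_longest : ∃ l : List (Fin D.rank),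
    ∀ r : Fin D.nroots, D.nroots / 2 ≤ r.val → (sW D l r).val < D.nroots / 2 := by
  classical
  let N : List (Fin D.rank) → ℕ := fun l =>
    (Finset.univ.filter fun r : Fin D.nroots =>
      D.nroots / 2 ≤ r.val ∧ (sW D l r).val < D.nroots / 2).card
  obtain ⟨l, hl⟩ : ∃ l, ∀ m, N m ≤ N l := by
    have hbdd : BddAbove (Set.range N) :=
      ⟨D.nroots, by rintro _ ⟨m, rfl⟩; exact (Finset.card_le_univ _).trans (by simp)⟩
    obtain ⟨l, hl⟩ := Nat.sSup_mem (Set.range_nonempty N) hbdd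
    exact ⟨l, fun m => hl ▸ le_csSup hbdd ⟨m, rfl⟩⟩
  have hsimple : ∀ i : Fin D.rank, (sW D l (hF.simpleFin i)).val < D.nroots / 2 := by
    intro i
    by_contra hc
    have hp : D.nroots / 2 ≤ (hF.simpleFin i).val := (hF.simple_lt i.val i.isLt).1
    have hw : ∀ r, sW D (l ++ [i]) r = sW D l (sP D i r) := fun r => by
      rw [sW_append, sW_cons, sW_nil, mul_one, Equiv.Perm.mul_apply]
    have key : (Finset.univ.filter fun r : Fin D.nroots =>
          D.nroots / 2 ≤ r.val ∧ (sW D l r).val < D.nroots / 2).image (sP D i) ⊂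
        Finset.univ.filter fun r : Fin D.nroots =>
          D.nroots / 2 ≤ r.val ∧ (sW D (l ++ [i]) r).val < D.nroots / 2 := by
      have hsub : ∀ r : Fin D.nroots, D.nroots / 2 ≤ r.val →
          (sW D l r).val < D.nroots / 2 → r.val ≠ D.simple i.val := by
        intro r _ h2 e
        exact hc (by rwa [show r = hF.simpleFin i from Fin.ext e] at h2)
      rw [Finset.ssubset_iff_subset_ne]
      refine ⟨?_, fun e => ?_⟩
      · intro r hr
        simp only [Finset.mem_image, Finset.mem_filter, Finset.mem_univ, true_and] at hr ⊢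
        obtain ⟨q, ⟨h1, h2⟩, rfl⟩ := hr
        refine ⟨(hF.sP_pos i h1 (hsub q h1 h2)).1, ?_⟩
        rw [hw, ← Equiv.Perm.mul_apply, ← Equiv.Perm.mul_apply, mul_assoc, hF.sP_sq, mul_one]
        exact h2
      · have hmem : hF.simpleFin i ∈ Finset.univ.filter fun r : Fin D.nroots =>
            D.nroots / 2 ≤ r.val ∧ (sW D (l ++ [i]) r).val < D.nroots / 2 := by
          simp only [Finset.mem_filter, Finset.mem_univ, true_and]
          refine ⟨hp, ?_⟩
          rw [hw, hF.sP_simple, hF.sW_neg]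
          have := hF.negFin_pos (sW D l (hF.simpleFin i))
          omega
        rw [← e] at hmem
        simp only [Finset.mem_image, Finset.mem_filter, Finset.mem_univ, true_and] at hmem
        obtain ⟨q, ⟨h1, h2⟩, hq⟩ := hmem
        exact (hF.sP_pos i h1 (hsub q h1 h2)).2 (congrArg Fin.val hq)
    have := Finset.card_lt_card key
    rw [Finset.card_image_of_injective _ (sP D i).injective] at this
    exact absurd (hl (l ++ [i])) (by simpa [N] using this)
  refine ⟨l, fun r hr => ?_⟩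
  have key : ∀ n : ℕ, ∀ hn : n < D.nroots, D.nroots / 2 ≤ n →
      ∀ j < D.rank, co (sW D l ⟨n, hn⟩).val j ≤ 0 := by
    intro n
    induction n using Nat.strong_induction_on with
    | _ n ih =>
      intro hn hp j hj
      have negcase : (sW D l ⟨n, hn⟩).val < D.nroots / 2 → co (sW D l ⟨n, hn⟩).val j ≤ 0 := by
        intro h
        have h1 := hF.co_nonneg _ (hF.neg_lt (sW D l ⟨n, hn⟩).isLt)
          ((hF.neg_lt_half (sW D l ⟨n, hn⟩).isLt).2 h) j hj
        rw [hF.co_neg _ (sW D l ⟨n, hn⟩).isLt j hj] at h1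
        omega
      by_cases hsimp : ∃ i : Fin D.rank, n = D.simple i.val
      · obtain ⟨i, rfl⟩ := hsimp
        exact negcase (hsimple i)
      · have hg : ¬ IsGen D n := by
          rintro ⟨i, hi, h | h⟩
          · exact hsimp ⟨⟨i, hi⟩, h⟩
          · have := (hF.neg_lt_half (hF.simple_lt' hi)).1 (h ▸ hp)
            have := (hF.simple_lt i hi).1
            omega
        obtain ⟨a, s, ha, hs, ht, hpos, -⟩ := hF.gen_step n hn hg
        obtain ⟨hsp, hsn⟩ := hpos hp
        have ha' := hF.gen_lt ha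
        have hap : D.nroots / 2 ≤ a := by
          by_contra hc
          have h1 := hF.isWeight_omega.add a ha' s hs n ht
          have h2 := hF.omega_mono hsn hn
          have h3 := (hF.omega_nonpos_iff ha').2 (by omega)
          omega
        have hw := (hF.weight_sW l hj).add a ha' s hs n ht
        simp only [dif_pos hn, dif_pos ha', dif_pos hs] at hw
        have han : a < n := by
          have h1 := hF.isWeight_omega.add a ha' s hs n ht
          exact hF.lt_of_omega_lt ha' (by have := hF.omega_pos hs hsp; omega)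
        rw [hw]
        exact add_nonpos (ih a han ha' hap j hj) (ih s hsn hs hsp j hj)
  by_contra hc
  have hpos := hF.omega_pos (sW D l r).isLt (by omega)
  have : omega D co (sW D l r).val ≤ 0 := by
    have hsum : ∀ L : List ℤ, (∀ x ∈ L, x ≤ 0) → L.sum ≤ 0 := fun L hL => by
      induction L with
      | nil => simp
      | cons a L ih =>
        rw [List.sum_cons]
        exact add_nonpos (hL a (by simp)) (ih fun x hx => hL x (by simp [hx]))
    refine hsum _ fun x hx => ?_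
    obtain ⟨j, hj, rfl⟩ := List.mem_map.1 hx
    exact mul_nonpos_of_nonpos_of_nonneg (key r.val r.isLt hr j (List.mem_range.1 hj))
      (pow_nonneg (by norm_num) _)
  omega

end Facts

end

/-! ### The double coset multiplication and the (B,N)-pair -/

section BN

universe v

variable {K : Type v} [Field K] (hF : Facts D co) (hC : CommF.{v} D)
include hF hC

theorem Facts.simple_normalizer (i : Fin D.rank) {r : ℕ} (hr : r < D.nroots)
    (hri : r = D.simple i.val ∨ r = D.neg (D.simple i.val)) :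
    rootClosure D K (· = r) ≤ Subgroup.normalizer
      (rootClosure D K (fun s => D.nroots / 2 ≤ s ∧ s ≠ D.simple i.val) : Set (GL D.Idx K)) := by
  refine hF.le_normalizer_rootClosure hC fun a ha hae j hj hjp => ?_
  subst hae
  obtain ⟨m, hm, hmi, hpos⟩ := hF.exists_co_pos i.isLt hj hjp.1 hjp.2
  have ha0 : co a m = 0 := by
    rcases hri with rfl | rfl
    · rw [hF.co_simple i.val i.isLt m hm, if_neg (Ne.symm hmi)]
    · rw [hF.co_neg _ (hF.simple_lt' i.isLt) m hm, hF.co_simple i.val i.isLt m hm,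
        if_neg (Ne.symm hmi), neg_zero]
  refine ⟨fun e => ?_, fun _ c hc => ?_⟩
  · rw [e, hF.co_neg a ha m hm, ha0] at hpos; omega
  · obtain ⟨hc1, -, hc2, hw⟩ := hF.commTerms_wt (hF.isWeight_co hm) ha hj hc
    simp only [ha0, smul_zero, zero_add, nsmul_eq_mul] at hw
    have hcp : 0 < co c.1 m := by rw [hw]; positivity
    refine ⟨?_, fun e => ?_⟩
    · by_contra hn
      have h1 := hF.co_nonneg _ (hF.neg_lt hc1) ((hF.neg_lt_half hc1).2 (by omega)) m hm
      rw [hF.co_neg _ hc1 m hm] at h1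
      omega
    · rw [e, hF.co_simple i.val i.isLt m hm, if_neg (Ne.symm hmi)] at hcp
      omega

theorem Facts.pos_decomp (i : Fin D.rank) {u : GL D.Idx K}
    (hu : u ∈ rootClosure D K (D.nroots / 2 ≤ ·)) :
    ∃ u' ∈ rootClosure D K (fun s => D.nroots / 2 ≤ s ∧ s ≠ D.simple i.val), ∃ a : K,
      u = u' * xU D (D.simple i.val) a := by
  have hp := hF.simple_lt' i.isLt
  have hnorm : ∀ a : K, ∀ x ∈ rootClosure D K (fun s => D.nroots / 2 ≤ s ∧ s ≠ D.simple i.val),
      xU D (D.simple i.val) a * x * (xU D (D.simple i.val) a)⁻¹ ∈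
        rootClosure D K (fun s => D.nroots / 2 ≤ s ∧ s ≠ D.simple i.val) := fun a x hx =>
    (Subgroup.mem_normalizer_iff.1 (hF.simple_normalizer hC i hp (Or.inl rfl)
      (xU_mem_rootClosure (P := (· = D.simple i.val)) hp rfl a)) x).1 hx
  induction hu using Subgroup.closure_induction with
  | mem x hx =>
    obtain ⟨r, t, hr, hp', rfl⟩ := hx
    by_cases h : r = D.simple i.val
    · exact ⟨1, Subgroup.one_mem _, t, by rw [h, one_mul]⟩
    · exact ⟨_, xU_mem_rootClosure hr ⟨hp', h⟩ t, 0, by rw [hF.xU_zero hp, mul_one]⟩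
  | one => exact ⟨1, Subgroup.one_mem _, 0, by rw [hF.xU_zero hp, one_mul]⟩
  | mul x y _ _ hx hy =>
    obtain ⟨x', hx', a, rfl⟩ := hx
    obtain ⟨y', hy', b, rfl⟩ := hy
    refine ⟨x' * (xU D (D.simple i.val) a * y' * (xU D (D.simple i.val) a)⁻¹),
      Subgroup.mul_mem _ hx' (hnorm a y' hy'), a + b, ?_⟩
    rw [← hF.xU_add hp]; group
  | inv x _ hx =>
    obtain ⟨x', hx', a, rfl⟩ := hx
    refine ⟨xU D (D.simple i.val) (-a) * x'⁻¹ * (xU D (D.simple i.val) (-a))⁻¹,
      hnorm (-a) _ (Subgroup.inv_mem _ hx'), -a, ?_⟩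
    rw [← hF.xU_inv hp]; group

/-- The key double coset step. -/
theorem Facts.step (i : Fin D.rank) {n b : GL D.Idx K} (hn : n ∈ D.monomialSubgroup K)
    (hb : b ∈ D.borelSubgroup K) :
    nS D K i * b * n ∈ DoubleCoset.doubleCoset (nS D K i * n)
        (D.borelSubgroup K : Set (GL D.Idx K)) (D.borelSubgroup K) ∪
      DoubleCoset.doubleCoset n (D.borelSubgroup K : Set (GL D.Idx K)) (D.borelSubgroup K) := by
  set B := D.borelSubgroup K
  obtain ⟨u, hu, h, hh, rfl⟩ := hF.mem_borel_iff.1 hb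
  obtain ⟨u', hu', a, rfl⟩ := hF.pos_decomp hC i hu
  obtain ⟨σ, hσ⟩ := hF.exists_permAct hn
  have hp := hF.simple_lt' i.isLt
  have hn' := hF.neg_lt hp
  have hpp := (hF.simple_lt i.val i.isLt).1
  set s := nS D K i with hs
  have hA : s * u' * s⁻¹ ∈ B := hF.pos_le_borel <| hF.conj_rootClosure (hF.permAct_nS i)
    (Q := (D.nroots / 2 ≤ ·)) (fun q hq => (hF.sP_pos i hq.1 hq.2).1) hu'
  have hk : n⁻¹ * h * n ∈ D.diagonalSubgroup K := by
    obtain ⟨l, k, hk, rfl⟩ := hF.exists_nW hn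
    rw [show (nW D K l * k)⁻¹ * h * (nW D K l * k) = k⁻¹ * ((nW D K l)⁻¹ * h * nW D K l) * k by
      group]
    exact Subgroup.mul_mem _ (Subgroup.mul_mem _ (Subgroup.inv_mem _ hk) (hF.nW_conj_hT' l hh)) hk
  have e : s * (u' * xU D (D.simple i.val) a * h) * n =
      (s * u' * s⁻¹) * (s * xU D (D.simple i.val) a * n) * (n⁻¹ * h * n) := by group
  rw [e]
  have hσi := hF.permAct_inv hn hσ
  obtain ⟨c, -, hc, -⟩ := hσi ⟨D.simple i.val, hp⟩
  by_cases hpos : D.nroots / 2 ≤ (σ⁻¹ ⟨D.simple i.val, hp⟩).val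
  · left
    rw [DoubleCoset.mem_doubleCoset]
    refine ⟨_, hA, n⁻¹ * xU D (D.simple i.val) a * n * (n⁻¹ * h * n), ?_, by group⟩
    have := hc a
    rw [inv_inv] at this
    rw [this]
    exact B.mul_mem (hF.xU_mem_borel (σ⁻¹ _).isLt hpos _) (hF.diagonal_le_borel hk)
  · by_cases ha : a = 0
    · left
      rw [DoubleCoset.mem_doubleCoset]
      exact ⟨_, hA, _, hF.diagonal_le_borel hk, by rw [ha, hF.xU_zero hp]; group⟩
    right
    obtain ⟨η, h1, h2, h3⟩ := hF.exists_eta (F := K) i.isLt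
    have hne : (η (D.simple i.val) : K) ≠ 0 := by rcases h1 _ hp with h | h <;> simp [h]
    set a' := (η (D.simple i.val) : K) * a with ha'
    have hz : a' ≠ 0 := mul_ne_zero hne ha
    have m1 := h3 _ hp a
    rw [hF.refl_simple i.isLt] at m1
    -- the rank one identity
    set w := -a'⁻¹ with hw
    have hw0 : w ≠ 0 := neg_ne_zero.2 (inv_ne_zero hz)
    have hnU : xU D (D.neg (D.simple i.val)) a' =
        xU D (D.simple i.val) (-w) * nU D (D.simple i.val) w * xU D (D.simple i.val) (-w) := by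
      rw [nU, show -w⁻¹ = a' by rw [hw, inv_neg, inv_inv, _root_.neg_neg],
        ← hF.xU_inv hp w]
      group
    have hH : nU D (D.simple i.val) w * s ∈ D.diagonalSubgroup K := by
      have e1 : nU D (D.simple i.val) w * s =
          hU D (D.simple i.val) w * ((nU D (D.simple i.val) (-1))⁻¹ * s) := by
        rw [hU]; group
      rw [e1, hF.nU_inv hp, _root_.neg_neg]
      exact Subgroup.mul_mem _ (hF.hU_mem_diagonal hp hw0)
        (by simpa [hs, nS] using hF.nS_sq (F := K) i (e := 1) (Or.inl rfl))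
    obtain ⟨c', -, hc', -⟩ := hσi ⟨D.neg (D.simple i.val), hn'⟩
    have m2 := h3 _ hn' ((η (D.simple i.val) : K) * -w)
    rw [hF.refl_neg_simple i.isLt, h2 _ hp,
      show (η (D.simple i.val) : K) * ((η (D.simple i.val) : K) * -w) = -w by
        rcases h1 _ hp with h | h <;> simp [h]] at m2
    have hposn : D.nroots / 2 ≤ (σ⁻¹ ⟨D.neg (D.simple i.val), hn'⟩).val := by
      obtain ⟨l, hl⟩ : ∃ l, σ⁻¹ = sW D l := by
        obtain ⟨l, k, hk, e⟩ := hF.exists_nW (Subgroup.inv_mem _ hn)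
        refine ⟨l, ?_⟩
        rw [e] at hσi
        rw [hF.permAct_unique hσi (hF.permAct_mul (hF.permAct_nW l) (hF.permAct_diagonal hk)),
          mul_one]
      rw [hl] at hpos ⊢
      rw [show (⟨D.neg (D.simple i.val), hn'⟩ : Fin D.nroots) = hF.negFin (hF.simpleFin i) from rfl,
        hF.sW_neg, hF.negFin_pos]
      change ¬ D.nroots / 2 ≤ (sW D l (hF.simpleFin i)).val at hpos
      omega
    rw [DoubleCoset.mem_doubleCoset]
    refine ⟨(s * u' * s⁻¹) * (xU D (D.simple i.val) (-w) * (nU D (D.simple i.val) w * s)),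
      B.mul_mem hA (B.mul_mem (hF.xU_mem_borel hp hpp _) (hF.diagonal_le_borel hH)),
      n⁻¹ * xU D (D.neg (D.simple i.val)) ((η (D.simple i.val) : K) * -w) * n * (n⁻¹ * h * n),
      ?_, ?_⟩
    · have := hc' ((η (D.simple i.val) : K) * -w)
      rw [inv_inv] at this
      rw [this]
      exact B.mul_mem (hF.xU_mem_borel (σ⁻¹ _).isLt hposn _) (hF.diagonal_le_borel hk)
    · have e2 : s * xU D (D.simple i.val) a = xU D (D.neg (D.simple i.val)) a' * s := m1
      have e3 : s * xU D (D.neg (D.simple i.val)) ((η (D.simple i.val) : K) * -w) =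
          xU D (D.simple i.val) (-w) * s := m2
      rw [e2, hnU, show xU D (D.simple i.val) (-w) * nU D (D.simple i.val) w *
          xU D (D.simple i.val) (-w) * s = xU D (D.simple i.val) (-w) *
          nU D (D.simple i.val) w * (xU D (D.simple i.val) (-w) * s) by group, ← e3]
      group

/-- The (B,N)-pair of a Chevalley group. -/
noncomputable def Facts.bnPair : Cfsg.BNPair ↥(D.group K) where
  B := (D.borelSubgroup K).subgroupOf (D.group K)
  N := (D.monomialSubgroup K).subgroupOf (D.group K)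
  S := {n : ↥(D.group K) | ∃ i < D.rank,
    ((n : GL D.Idx K) : Matrix D.Idx D.Idx K) = D.nMat K (D.simple i) 1}
  sup_eq_top := by
    rw [← Subgroup.subgroupOf_sup hF.borel_le_group hF.monomial_le_group, hF.borel_sup_monomial,
      Subgroup.subgroupOf_self]
  conj_mem := by
    rintro ⟨n, _⟩ hn ⟨t, _⟩ ht
    obtain ⟨hb, hm⟩ := ht
    simp only [Subgroup.mem_subgroupOf] at hn hb hm ⊢
    have hH : t ∈ D.diagonalSubgroup K := by
      rw [← hF.borel_inf_monomial]; exact ⟨hb, hm⟩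
    refine hF.diagonal_le_borel ?_
    refine hF.mem_diagonal_of_permAct (Subgroup.mul_mem _ (Subgroup.mul_mem _ hn hm)
      (Subgroup.inv_mem _ hn)) ?_
    obtain ⟨σ, hσ⟩ := hF.exists_permAct hn
    have := hF.permAct_mul (hF.permAct_mul hσ (hF.permAct_diagonal hH)) (hF.permAct_inv hn hσ)
    simpa using this
  subset := by
    rintro n ⟨i, hi, hn⟩
    rw [← hF.nU_val (hF.simple_lt' hi), Units.val_inj] at hn
    show (n : GL D.Idx K) ∈ D.monomialSubgroup K
    rw [hn]; exact hF.nS_mem ⟨i, hi⟩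
  sq_mem := by
    rintro n ⟨i, hi, hn⟩
    rw [← hF.nU_val (hF.simple_lt' hi), Units.val_inj] at hn
    show (n : GL D.Idx K) * n ∈ D.borelSubgroup K
    rw [hn]
    exact hF.diagonal_le_borel
      (by simpa [nS] using hF.nS_sq (F := K) ⟨i, hi⟩ (e := 1) (Or.inl rfl))
  inj := by
    rintro s ⟨i, hi, hs⟩ s' ⟨j, hj, hs'⟩ hB
    rw [← hF.nU_val (hF.simple_lt' hi), Units.val_inj] at hs
    rw [← hF.nU_val (hF.simple_lt' hj), Units.val_inj] at hs'
    apply Subtype.ext
    rw [hs, hs']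
    change (s : GL D.Idx K)⁻¹ * (s' : GL D.Idx K) ∈ D.borelSubgroup K at hB
    rw [hs, hs'] at hB
    have h1 := hF.permAct_mul (hF.permAct_inv (hF.nS_mem (F := K) ⟨i, hi⟩) (hF.permAct_nS ⟨i, hi⟩))
      (hF.permAct_nS (F := K) ⟨j, hj⟩)
    have h2 := hF.permAct_pos h1 hB
    rw [inv_mul_eq_one] at h2
    have := hF.sP_injective h2
    rw [Fin.mk.injEq] at this
    rw [this]
  closure_sup := by
    apply le_antisymm
    · refine sup_le ((Subgroup.closure_le _).2 ?_) inf_le_right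
      rintro n ⟨i, hi, hn⟩
      rw [← hF.nU_val (hF.simple_lt' hi), Units.val_inj] at hn
      show (n : GL D.Idx K) ∈ D.monomialSubgroup K
      rw [hn]; exact hF.nS_mem ⟨i, hi⟩
    · intro n hn
      obtain ⟨l, h, hh, e⟩ := hF.exists_nW (g := (n : GL D.Idx K)) hn
      have hl : ∀ l : List (Fin D.rank), (⟨nW D K l, hF.monomial_le_group (hF.nW_mem l)⟩ :
          ↥(D.group K)) ∈ Subgroup.closure {n : ↥(D.group K) | ∃ i < D.rank,
            ((n : GL D.Idx K) : Matrix D.Idx D.Idx K) = D.nMat K (D.simple i) 1} := by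
        intro l
        induction l with
        | nil => simp only [nW_nil]; exact Subgroup.one_mem _
        | cons i l ih =>
          have : (⟨nW D K (i :: l), hF.monomial_le_group (hF.nW_mem (i :: l))⟩ : ↥(D.group K)) =
              ⟨nS D K i, hF.monomial_le_group (hF.nS_mem i)⟩ *
                ⟨nW D K l, hF.monomial_le_group (hF.nW_mem l)⟩ := Subtype.ext (nW_cons i l)
          rw [this]
          exact Subgroup.mul_mem _
            (Subgroup.subset_closure ⟨i.val, i.isLt, hF.nU_val (hF.simple_lt' i.isLt) 1⟩) ih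
      have : n = ⟨nW D K l, hF.monomial_le_group (hF.nW_mem l)⟩ *
          ⟨h, hF.diagonal_le_group hh⟩ := Subtype.ext e
      rw [this]
      refine Subgroup.mul_mem_sup (hl l) ⟨?_, ?_⟩
      · exact hF.diagonal_le_borel hh
      · exact Subgroup.mem_sup_left hh
  mul_mem_union := by
    rintro ⟨s, _⟩ ⟨i, hi, hs⟩ ⟨n, _⟩ hn ⟨b, _⟩ hb
    rw [← hF.nU_val (hF.simple_lt' hi), Units.val_inj] at hs
    simp only [Subgroup.mem_subgroupOf] at hn hb
    subst hs
    have := hF.step hC ⟨i, hi⟩ hn hb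
    have lift : ∀ (x : GL D.Idx K) (hx : x ∈ D.group K) (g : ↥(D.group K)),
        (g : GL D.Idx K) ∈ DoubleCoset.doubleCoset x
          (D.borelSubgroup K : Set (GL D.Idx K)) (D.borelSubgroup K) →
        g ∈ DoubleCoset.doubleCoset (⟨x, hx⟩ : ↥(D.group K))
          ((D.borelSubgroup K).subgroupOf (D.group K) : Set ↥(D.group K))
          ((D.borelSubgroup K).subgroupOf (D.group K)) := by
      intro x hx g hg
      rw [DoubleCoset.mem_doubleCoset] at hg ⊢
      obtain ⟨b₁, hb₁, b₂, hb₂, e⟩ := hg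
      exact ⟨⟨b₁, hF.borel_le_group hb₁⟩, hb₁, ⟨b₂, hF.borel_le_group hb₂⟩, hb₂, Subtype.ext e⟩
    exact this.imp (lift _ _ _) (lift _ _ _)
  conj_ne := by
    rintro ⟨s, hsG⟩ ⟨i, hi, hs⟩
    rw [← hF.nU_val (hF.simple_lt' hi), Units.val_inj] at hs
    simp only at hs
    subst hs
    intro h
    have hp := hF.simple_lt' hi
    have hx : (⟨xU D (D.simple i) (1 : K),
        hF.borel_le_group (hF.xU_mem_borel hp (hF.simple_lt i hi).1 1)⟩ : ↥(D.group K)) ∈
          (D.borelSubgroup K).subgroupOf (D.group K) := hF.xU_mem_borel hp (hF.simple_lt i hi).1 1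
    have h1 := Set.mem_image_of_mem (fun b : ↥(D.group K) => (⟨_, hsG⟩ : ↥(D.group K)) * b *
      ⟨_, hsG⟩) hx
    rw [h] at h1
    change nU D (D.simple i) (1 : K) * xU D (D.simple i) 1 * nU D (D.simple i) 1 ∈
      D.borelSubgroup K at h1
    obtain ⟨η, hη, -, h3⟩ := hF.exists_eta (F := K) hi
    rw [h3 _ hp 1, hF.refl_simple hi, mul_assoc, Subgroup.mul_mem_cancel_right] at h1
    · have h4 : xU D (D.neg (D.simple i)) ((η (D.simple i) : K) * 1) ∈
          D.borelSubgroup K ⊓ D.negUnipotent K := ⟨h1, by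
        rw [hF.negUnipotent_eq]
        refine xU_mem_rootClosure (hF.neg_lt hp) ?_ _
        have := (hF.simple_lt i hi).1
        have := hF.neg_lt_half hp
        omega⟩
      rw [hF.borel_inf_neg, Subgroup.mem_bot] at h4
      have := hF.xU_eq_one (hF.neg_lt hp) h4
      rcases hη _ hp with h | h <;> simp [h] at this
    · exact hF.diagonal_le_borel
        (by simpa [nS] using hF.nS_sq (F := K) ⟨i, hi⟩ (e := 1) (Or.inl rfl))

/-! ### The Bruhat normal form -/

theorem Facts.flip_decomp {σ : Equiv.Perm (Fin D.nroots)} :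
    ∀ {m k : ℕ}, k + m = D.nroots → D.nroots / 2 ≤ k →
      ∀ {g : GL D.Idx K}, g ∈ rootClosure D K (k ≤ ·) →
        ∃ a ∈ rootClosure D K (PosKeep σ), ∃ c ∈ rootClosure D K (PosFlip σ), g = a * c := by
  intro m
  induction m with
  | zero =>
    intro k hk _ g hg
    have : rootClosure D K (k ≤ ·) = ⊥ := by
      rw [eq_bot_iff]
      refine (Subgroup.closure_le _).2 ?_
      rintro x ⟨r, t, hr, hkr, -⟩
      omega
    rw [this, Subgroup.mem_bot] at hg
    exact ⟨1, Subgroup.one_mem _, 1, Subgroup.one_mem _, by rw [hg, mul_one]⟩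
  | succ m ih =>
    intro k hk hp g hg
    have hkn : k < D.nroots := by omega
    obtain ⟨a, g', hg', rfl⟩ := hF.exists_decomp hC hp hkn hg
    by_cases h : D.nroots / 2 ≤ (σ ⟨k, hkn⟩).val
    · obtain ⟨b, hb, c, hc, rfl⟩ := ih (k := k + 1) (by omega) (by omega) hg'
      exact ⟨xU D k a * b, Subgroup.mul_mem _ (xU_mem_rootClosure hkn ⟨hkn, hp, h⟩ a) hb, c, hc,
        by group⟩
    · have hn := (Subgroup.mem_normalizer_iff.1 (hF.pos_le_normalizer_above hC (k := k + 1)
        (by omega) (xU_mem_rootClosure hkn hp a)) g').1 hg'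
      obtain ⟨b, hb, c, hc, e⟩ := ih (k := k + 1) (by omega) (by omega) hn
      refine ⟨b, hb, c * xU D k a, Subgroup.mul_mem _ hc
        (xU_mem_rootClosure hkn ⟨hkn, hp, by omega⟩ a), ?_⟩
      rw [← mul_assoc, ← e]; group

theorem Facts.bruhat_exists {g : GL D.Idx K} (hg : g ∈ D.group K) :
    ∃ b ∈ D.borelSubgroup K, ∃ n ∈ D.monomialSubgroup K, ∃ σ, PermAct n σ ∧
      ∃ u ∈ rootClosure D K (PosFlip σ), g = b * n * u := by
  have hev := hF.nroots_even
  obtain ⟨n, hn, hcell⟩ := BN.exists_cell (P := hF.bnPair hC) ⟨g, hg⟩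
  obtain ⟨b, hb, b', hb', e⟩ := BN.mem_cell.1 hcell
  have hn' : (n : GL D.Idx K) ∈ D.monomialSubgroup K := hn
  have hb1 : (b : GL D.Idx K) ∈ D.borelSubgroup K := hb
  have hb2 : (b' : GL D.Idx K) ∈ D.borelSubgroup K := hb'
  have e' : g = (b : GL D.Idx K) * n * b' := congrArg Subtype.val e
  obtain ⟨u, hu, h, hh, e2⟩ := hF.mem_borel_iff.1 hb2
  obtain ⟨σ, hσ⟩ := hF.exists_permAct hn'
  -- move the diagonal part to the left
  have hu' : h⁻¹ * u * h ∈ rootClosure D K (D.nroots / 2 ≤ ·) := by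
    have := (Subgroup.mem_normalizer_iff.1 (hF.diagonal_le_normalizer (D.nroots / 2 ≤ ·)
      (Subgroup.inv_mem _ hh)) u).1 hu
    rwa [inv_inv] at this
  obtain ⟨a, ha, c, hc, e3⟩ := hF.flip_decomp hC (σ := σ) (m := D.nroots / 2)
    (k := D.nroots / 2) (by omega) le_rfl hu'
  have hnh : (n : GL D.Idx K) * h * (n : GL D.Idx K)⁻¹ ∈ D.borelSubgroup K :=
    (hF.bnPair hC).conj_mem n hn ⟨h, hF.diagonal_le_group hh⟩
      ⟨hF.diagonal_le_borel hh, Subgroup.mem_sup_left hh⟩
  have hna : (n : GL D.Idx K) * a * (n : GL D.Idx K)⁻¹ ∈ D.borelSubgroup K :=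
    hF.pos_le_borel (hF.conj_rootClosure hσ (Q := (D.nroots / 2 ≤ ·))
      (fun s hs => hs.2.2) ha)
  refine ⟨(b : GL D.Idx K) * ((n : GL D.Idx K) * h * (n : GL D.Idx K)⁻¹) *
      ((n : GL D.Idx K) * a * (n : GL D.Idx K)⁻¹),
    Subgroup.mul_mem _ (Subgroup.mul_mem _ hb1 hnh) hna, n, hn', σ, hσ, c, hc, ?_⟩
  rw [e', e2]
  calc (b : GL D.Idx K) * n * (u * h) = b * n * h * (h⁻¹ * u * h) := by group
    _ = _ := by rw [e3]; group

theorem Facts.bruhat_eqv {b b' n n' u u' : GL D.Idx K} (hb : b ∈ D.borelSubgroup K)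
    (hb' : b' ∈ D.borelSubgroup K) (hn : n ∈ D.monomialSubgroup K)
    (hn' : n' ∈ D.monomialSubgroup K) (hu : u ∈ D.borelSubgroup K)
    (hu' : u' ∈ D.borelSubgroup K) (h : b * n * u = b' * n' * u') :
    n⁻¹ * n' ∈ D.diagonalSubgroup K := by
  have hN := hF.monomial_le_group (F := K)
  have hB := hF.borel_le_group (F := K)
  let g : ↥(D.group K) := ⟨b, hB hb⟩ * ⟨n, hN hn⟩ * ⟨u, hB hu⟩
  have h1 : g ∈ BN.cell (hF.bnPair hC) ⟨n, hN hn⟩ :=
    BN.mem_cell.2 ⟨⟨b, hB hb⟩, hb, ⟨u, hB hu⟩, hu, rfl⟩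
  have h2 : g ∈ BN.cell (hF.bnPair hC) ⟨n', hN hn'⟩ :=
    BN.mem_cell.2 ⟨⟨b', hB hb'⟩, hb', ⟨u', hB hu'⟩, hu', Subtype.ext h⟩
  have h3 := BN.eqv_of_mem_cells (P := hF.bnPair hC) (n := ⟨n, hN hn⟩) (n' := ⟨n', hN hn'⟩) hn hn' h1 h2
  rw [← hF.borel_inf_monomial]
  exact ⟨h3.1, h3.2⟩

end BN

theorem Facts.bruhat_unique (hF : Facts D co) {F : Type*} [Field F] {b b' n u u' : GL D.Idx F}
    {σ : Equiv.Perm (Fin D.nroots)} (hσ : PermAct n σ) (hb : b ∈ D.borelSubgroup F)
    (hb' : b' ∈ D.borelSubgroup F) (hu : u ∈ rootClosure D F (PosFlip σ))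
    (hu' : u' ∈ rootClosure D F (PosFlip σ)) (h : b * n * u = b' * n * u') :
    b = b' ∧ u = u' := by
  have h1 : n * (u' * u⁻¹) * n⁻¹ = b'⁻¹ * b := by
    rw [eq_inv_mul_iff_mul_eq, show b' * (n * (u' * u⁻¹) * n⁻¹) = b' * n * u' * u⁻¹ * n⁻¹ by group,
      ← h]
    group
  have h2 : n * (u' * u⁻¹) * n⁻¹ ∈ D.negUnipotent F := by
    rw [hF.negUnipotent_eq]
    exact hF.conj_rootClosure hσ (fun s hs => hs.2.2)
      (Subgroup.mul_mem _ hu' (Subgroup.inv_mem _ hu))
  have h3 : n * (u' * u⁻¹) * n⁻¹ ∈ D.borelSubgroup F := by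
    rw [h1]; exact Subgroup.mul_mem _ (Subgroup.inv_mem _ hb') hb
  have h4 : n * (u' * u⁻¹) * n⁻¹ ∈ D.borelSubgroup F ⊓ D.negUnipotent F := ⟨h3, h2⟩
  rw [hF.borel_inf_neg, Subgroup.mem_bot] at h4
  refine ⟨?_, ?_⟩
  · rw [h4] at h1
    exact (inv_mul_eq_one.1 h1.symm).symm
  · rw [conj_eq_one_iff, mul_inv_eq_one] at h4
    exact h4.symm

end CfsgLib.Chev
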