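/-
Consequences of the (B,N)-pair of a Chevalley group: nilpotency of U, solvability of B,
trivial core, irreducibility and perfectness criteria.
-/
import Mathlib
import Cfsg.Agent.Lib.Chev.Bruhat

set_option autoImplicit false

namespace CfsgLib.Chev

open Cfsg.Lie
open scoped Matrix Pointwise commutatorElement

variable {D : ChevalleyDatum} {co : ℕ → ℕ → ℤ}

section

variable {F : Type*} [Field F]

namespace Facts

variable (hF : Facts D co)
include hF

/-- `n` moves the root subgroup of `r` into V exactly when it makes `r` negative. -/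
theorem map_le_neg_iff {n : GL D.Idx F} {σ : Equiv.Perm (Fin D.nroots)} (hσ : PermAct n σ)
    {r : ℕ} (hr : r < D.nroots) :
    (D.rootSubgroup F r).map (MulAut.conj n).toMonoidHom ≤ D.negUnipotent F ↔
      (σ ⟨r, hr⟩).val < D.nroots / 2 := by
  obtain ⟨c, hc, h1, -⟩ := hσ ⟨r, hr⟩
  constructor
  · intro h
    by_contra hpos
    have hmem : n * xU D r 1 * n⁻¹ ∈ D.borelSubgroup F ⊓ D.negUnipotent F := by
      refine ⟨?_, h ⟨xU D r 1, (hF.mem_rootSubgroup_iff hr).2 ⟨1, rfl⟩, rfl⟩⟩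
      rw [show xU D r (1 : F) = xU D (⟨r, hr⟩ : Fin D.nroots).val 1 from rfl, h1]
      exact hF.xU_mem_borel (σ _).isLt (by omega) _
    rw [hF.borel_inf_neg, Subgroup.mem_bot, show xU D r (1 : F) =
      xU D (⟨r, hr⟩ : Fin D.nroots).val 1 from rfl, h1, mul_one] at hmem
    exact hc (hF.xU_eq_one (σ _).isLt hmem)
  · intro h
    rintro x ⟨y, hy, rfl⟩
    obtain ⟨t, rfl⟩ := (hF.mem_rootSubgroup_iff hr).1 hy
    rw [hF.negUnipotent_eq]
    show n * xU D (⟨r, hr⟩ : Fin D.nroots).val t * n⁻¹ ∈ _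
    rw [h1]
    exact xU_mem_rootClosure (σ _).isLt h _

/-- The subgroup in the statement of the normal form is generated by the flipped roots. -/
theorem flipClosure_eq {n : GL D.Idx F} {σ : Equiv.Perm (Fin D.nroots)} (hσ : PermAct n σ) :
    Subgroup.closure {x : GL D.Idx F | ∃ (r : ℕ) (t : F), D.IsPosRoot r ∧
        (D.rootSubgroup F r).map (MulAut.conj n).toMonoidHom ≤ D.negUnipotent F ∧
        (x : Matrix D.Idx D.Idx F) = D.x F r t} = rootClosure D F (PosFlip σ) := by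
  refine congrArg Subgroup.closure (Set.ext fun g => ?_)
  constructor
  · rintro ⟨r, t, hp, hm, hx⟩
    exact ⟨r, t, hp.1, ⟨hp.1, (hF.isPos_iff r hp.1).1 hp, (hF.map_le_neg_iff hσ hp.1).1 hm⟩,
      (hF.eq_xU_iff hp.1).1 hx⟩
  · rintro ⟨r, t, hr, ⟨hr', hp, hm⟩, hx⟩
    exact ⟨r, t, (hF.isPos_iff r hr).2 hp, (hF.map_le_neg_iff hσ hr).2 hm,
      (hF.eq_xU_iff hr).2 hx⟩

/-- Some element of `N` conjugates `U` onto `V`. -/
theorem exists_opposite : ∃ n ∈ D.monomialSubgroup F,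
    (D.posUnipotent F).map (MulAut.conj n).toMonoidHom = D.negUnipotent F := by
  obtain ⟨l, hl⟩ := hF.exists_longest
  have hσ := hF.permAct_nW (F := F) l
  refine ⟨nW D F l, hF.nW_mem l, le_antisymm ?_ ?_⟩
  · rintro x ⟨y, hy, rfl⟩
    rw [hF.negUnipotent_eq]
    rw [hF.posUnipotent_eq] at hy
    exact hF.conj_rootClosure hσ (fun s hs => hl s hs) hy
  · intro x hx
    rw [hF.negUnipotent_eq] at hx
    refine ⟨(nW D F l)⁻¹ * x * nW D F l, ?_, by simp [mul_assoc]⟩
    rw [hF.posUnipotent_eq]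
    have h := hF.conj_rootClosure (hF.permAct_inv (hF.nW_mem l) hσ)
      (Q := (D.nroots / 2 ≤ ·)) ?_ hx
    · rwa [inv_inv] at h
    intro s hs
    by_contra hc
    have hneg := hl (hF.negFin ((sW D l)⁻¹ s))
      ((hF.negFin_pos _).2 (by omega))
    rw [hF.sW_neg, Equiv.Perm.coe_inv, Equiv.apply_symm_apply] at hneg
    have := hF.negFin_pos s
    omega

theorem center_free_key {h : GL D.Idx F} (hh : h ∈ D.diagonalSubgroup F)
    (hcomm : ∀ r < D.nroots, h * xU D r 1 * h⁻¹ = xU D r 1) : h = 1 := by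
  obtain ⟨c, rfl⟩ := hF.mem_diagonal_iff.1 hh
  rw [hT, ← dU_one]
  refine dU_congr fun r hr => ?_
  have e := hcomm r hr
  rw [hF.hT_conj_xU c hr, mul_one] at e
  have e2 : xU D r (((∏ i ∈ Finset.range D.rank, c i ^ D.cartan i r : Fˣ) : F) - 1) = 1 := by
    rw [sub_eq_add_neg, ← hF.xU_add hr, e, hF.xU_add hr, add_neg_cancel, hF.xU_zero hr]
  exact Units.ext (sub_eq_zero.1 (hF.xU_eq_one hr e2))

/-- The core of `B` in the group is trivial. -/
theorem normalCore_eq_bot :
    ((D.borelSubgroup F).subgroupOf (D.group F)).normalCore = ⊥ := by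
  rw [eq_bot_iff]
  intro x hx
  set C := ((D.borelSubgroup F).subgroupOf (D.group F)).normalCore with hC
  have hBC : ∀ y ∈ C, (y : GL D.Idx F) ∈ D.borelSubgroup F := fun y hy =>
    (Subgroup.normalCore_le ((D.borelSubgroup F).subgroupOf (D.group F)) hy :)
  obtain ⟨n, hn, hUV⟩ := hF.exists_opposite (F := F)
  have hnG := hF.monomial_le_group hn
  have hH : ∀ y ∈ C, (y : GL D.Idx F) ∈ D.diagonalSubgroup F := by
    intro y hy
    have h1 : n⁻¹ * (y : GL D.Idx F) * n ∈ D.borelSubgroup F := by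
      have := hBC _ ((Subgroup.normalCore_normal _).conj_mem y hy ⟨n⁻¹, Subgroup.inv_mem _ hnG⟩)
      simpa using this
    obtain ⟨u, hu, h, hh, e⟩ := hF.mem_borel_iff.1 h1
    have e' : (y : GL D.Idx F) = (n * u * n⁻¹) * (n * h * n⁻¹) := by
      rw [show (y : GL D.Idx F) = n * (n⁻¹ * (y : GL D.Idx F) * n) * n⁻¹ by group, e]; group
    have hv : n * u * n⁻¹ ∈ D.negUnipotent F := by
      rw [← hUV]
      exact ⟨u, by rw [hF.posUnipotent_eq]; exact hu, rfl⟩
    have hh' : n * h * n⁻¹ ∈ D.diagonalSubgroup F := by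
      obtain ⟨σ, hσ⟩ := hF.exists_permAct hn
      refine hF.mem_diagonal_of_permAct (Subgroup.mul_mem _ (Subgroup.mul_mem _ hn
        (Subgroup.mem_sup_left hh)) (Subgroup.inv_mem _ hn)) ?_
      simpa using hF.permAct_mul (hF.permAct_mul hσ (hF.permAct_diagonal hh))
        (hF.permAct_inv hn hσ)
    have hv0 : n * u * n⁻¹ ∈ D.borelSubgroup F ⊓ D.negUnipotent F := by
      refine ⟨?_, hv⟩
      have := Subgroup.mul_mem _ (hBC y hy) (Subgroup.inv_mem _ (hF.diagonal_le_borel hh'))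
      rwa [e', mul_inv_cancel_right] at this
    rw [hF.borel_inf_neg, Subgroup.mem_bot] at hv0
    rw [e', hv0, one_mul]
    exact hh'
  rw [Subgroup.mem_bot]
  apply Subtype.ext
  refine hF.center_free_key (hH x hx) fun r hr => ?_
  have hxr : xU D r (1 : F) ∈ D.group F := by
    rw [hF.group_eq]; exact xU_mem_rootClosure hr trivial 1
  have hc := hH _ (Subgroup.mul_mem _ hx ((Subgroup.normalCore_normal _).conj_mem _
    (Subgroup.inv_mem _ hx) ⟨_, hxr⟩))
  have e : (x : GL D.Idx F) * xU D r 1 * (x : GL D.Idx F)⁻¹ * (xU D r 1)⁻¹ ∈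
      D.diagonalSubgroup F := by simpa [mul_assoc] using hc
  obtain ⟨c, hxc⟩ := hF.mem_diagonal_iff.1 (hH x hx)
  rw [hxc] at e ⊢
  rw [hF.hT_conj_xU c hr] at e ⊢
  rw [hF.xU_inv hr, hF.xU_add hr] at e
  have hd := hF.permAct_diagonal e
  -- a root element in `H` is trivial
  set d : F := ((∏ i ∈ Finset.range D.rank, c i ^ D.cartan i r : Fˣ) : F) * 1 + -1 with hd'
  suffices d = 0 by rw [add_neg_eq_zero.1 this]
  by_contra hd0
  obtain ⟨i, hi, hne⟩ := hF.exists_cor_ne (F := F) hr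
  obtain ⟨a, -, -, hcol⟩ := hd ⟨D.neg r, hF.neg_lt hr⟩
  have := hcol (Sum.inl ⟨i, hi⟩)
  rw [if_neg (by simp), hF.xU_val' hr] at this
  have hz : ∀ k : ℕ, divPow D r (k + 2) (Sum.inl (⟨i, hi⟩ : Fin D.rank))
      (Sum.inr ⟨D.neg r, hF.neg_lt hr⟩) = 0 := fun k => divPow_ge_two_inl_row _ _ _ _
  simp [xR, Finset.sum_range_succ, hz 0, hz 1, divPow, adRoot_inl_inr, Matrix.one_apply, hd0,
    hne] at this

end Facts

end

section

universe v

variable {K : Type v} [Field K] (hF : Facts D co) (hC : CommF.{v} D)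
include hF hC

theorem Facts.above_normal {k : ℕ} (hk : D.nroots / 2 ≤ k) :
    ((rootClosure D K (k ≤ ·)).subgroupOf (rootClosure D K (D.nroots / 2 ≤ ·))).Normal :=
  (Subgroup.normal_subgroupOf_iff_le_normalizer (rootClosure_mono fun _ _ h => le_trans hk h)).2
    (hF.pos_le_normalizer_above hC hk)

/-- `U` is nilpotent. -/
theorem Facts.pos_nilpotent : Group.IsNilpotent ↥(rootClosure D K (D.nroots / 2 ≤ ·)) := by
  set U := rootClosure D K (D.nroots / 2 ≤ ·) with hU
  let H : ℕ → Subgroup ↥U := fun m => (rootClosure D K (D.nroots / 2 + m ≤ ·)).subgroupOf U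
  rw [Subgroup.nilpotent_iff_finite_descending_central_series]
  refine ⟨D.nroots, H, ⟨?_, ?_⟩, ?_⟩
  · show (rootClosure D K (D.nroots / 2 + 0 ≤ ·)).subgroupOf U = ⊤
    simp only [Nat.add_zero, ← hU, Subgroup.subgroupOf_self]
  · intro x m hx g
    haveI hN := hF.above_normal hC (K := K) (k := D.nroots / 2 + (m + 1)) (by omega)
    show ((x * g * x⁻¹ * g⁻¹ : ↥U) : GL D.Idx K) ∈ rootClosure D K (D.nroots / 2 + (m + 1) ≤ ·)
    set N := rootClosure D K (D.nroots / 2 + (m + 1) ≤ ·) with hNdef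
    have hNn : ∀ a ∈ U, ∀ b ∈ N, a * b * a⁻¹ ∈ N := fun a ha b hb =>
      (Subgroup.mem_normalizer_iff.1 (hF.pos_le_normalizer_above hC (by omega) ha) b).1 hb
    have gens : ∀ i < D.nroots, D.nroots / 2 ≤ i → ∀ j < D.nroots, D.nroots / 2 + m ≤ j →
        ∀ u t : K, xU D j t * xU D i u * (xU D j t)⁻¹ * (xU D i u)⁻¹ ∈ N := by
      intro i hi hip j hj hjm u t
      rw [hF.xU_inv hj, hF.xU_inv hi]
      by_cases hij : i = j
      · subst hij
        rw [hF.xU_add hi, hF.xU_add hi, hF.xU_add hi,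
          show t + u + -t + -u = 0 by ring, hF.xU_zero hi]
        exact N.one_mem
      have hneg : j ≠ D.neg i := fun e => by
        have := (hF.neg_lt_half hi).1 (e ▸ (by omega : D.nroots / 2 ≤ j))
        omega
      have hjU : xU D j t ∈ U := xU_mem_rootClosure (P := (D.nroots / 2 ≤ ·)) hj (by omega) t
      have hiU : xU D i u ∈ U := xU_mem_rootClosure (P := (D.nroots / 2 ≤ ·)) hi hip u
      have hW : wU D (cwR D i j u t) ∈ N := wU_mem fun p hp => by
        obtain ⟨c, hc, rfl⟩ := List.mem_map.1 hp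
        obtain ⟨hc1, -, hc3⟩ := hF.commTerms_lt hi hj hip (by omega) hc
        exact xU_mem_rootClosure (P := (D.nroots / 2 + (m + 1) ≤ ·)) hc1
          (by show _ ≤ c.1; omega) _
      rw [hF.xU_comm hC hi hj (Ne.symm hij) hneg]
      have := hNn _ (U.mul_mem hiU hjU) _ hW
      rw [mul_inv_rev, hF.xU_inv hi, hF.xU_inv hj] at this
      rw [show xU D i u * xU D j t * wU D (cwR D i j u t) * xU D j (-t) * xU D i (-u) =
        xU D i u * xU D j t * wU D (cwR D i j u t) * (xU D j (-t) * xU D i (-u)) by group]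
      exact this
    -- fix the generator of the upper term, vary the other
    have step1 : ∀ j < D.nroots, D.nroots / 2 + m ≤ j → ∀ t : K, ∀ b ∈ U,
        xU D j t * b * (xU D j t)⁻¹ * b⁻¹ ∈ N := by
      intro j hj hjm t b hb
      rw [hU] at hb
      induction hb using Subgroup.closure_induction with
      | mem b hb => obtain ⟨i, u, hi, hip, rfl⟩ := hb; exact gens i hi hip j hj hjm u t
      | one => simp
      | mul a b ha hb iha ihb =>
        rw [show xU D j t * (a * b) * (xU D j t)⁻¹ * (a * b)⁻¹ =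
          (xU D j t * a * (xU D j t)⁻¹ * a⁻¹) *
            (a * (xU D j t * b * (xU D j t)⁻¹ * b⁻¹) * a⁻¹) by group]
        exact N.mul_mem iha (hNn a ha _ ihb)
      | inv a ha iha =>
        rw [show xU D j t * a⁻¹ * (xU D j t)⁻¹ * a⁻¹⁻¹ =
          a⁻¹ * (xU D j t * a * (xU D j t)⁻¹ * a⁻¹)⁻¹ * a⁻¹⁻¹ by group]
        exact hNn _ (U.inv_mem ha) _ (N.inv_mem iha)
    have key : ∀ a ∈ rootClosure D K (D.nroots / 2 + m ≤ ·), ∀ b ∈ U,
        a * b * a⁻¹ * b⁻¹ ∈ N := by
      intro a ha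
      induction ha using Subgroup.closure_induction with
      | mem a ha => obtain ⟨j, t, hj, hjm, rfl⟩ := ha; exact step1 j hj hjm t
      | one => intro b _; simp
      | mul a c ha hc iha ihc =>
        intro b hb
        rw [show a * c * b * (a * c)⁻¹ * b⁻¹ =
          a * (c * b * c⁻¹ * b⁻¹) * a⁻¹ * (a * b * a⁻¹ * b⁻¹) by group]
        exact N.mul_mem (hNn a (rootClosure_mono (fun r _ h => by omega) ha) _ (ihc b hb)) (iha b hb)
      | inv a ha iha =>
        intro b hb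
        rw [show a⁻¹ * b * a⁻¹⁻¹ * b⁻¹ = a⁻¹ * (a * b * a⁻¹ * b⁻¹)⁻¹ * a⁻¹⁻¹ by group]
        exact hNn _ (U.inv_mem (rootClosure_mono (fun r _ h => by omega) ha)) _
          (N.inv_mem (iha b hb))
    exact key _ hx _ g.2
  · rw [eq_bot_iff]
    intro x hx
    have : rootClosure D K (D.nroots / 2 + D.nroots ≤ ·) = ⊥ := by
      rw [eq_bot_iff]
      refine (Subgroup.closure_le _).2 ?_
      rintro y ⟨r, t, hr, hp, -⟩
      omega
    have hx' : (x : GL D.Idx K) ∈ rootClosure D K (D.nroots / 2 + D.nroots ≤ ·) := hx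
    rw [this, Subgroup.mem_bot] at hx'
    exact Subgroup.mem_bot.2 (Subtype.ext hx')

/-- `B` is solvable. -/
theorem Facts.borel_solvable : Group.IsSolvable ↥(D.borelSubgroup K) := by
  set U := rootClosure D K (D.nroots / 2 ≤ ·) with hU
  set B := D.borelSubgroup K with hB
  have hUB : U ≤ B := hF.pos_le_borel
  have hnorm : B ≤ Subgroup.normalizer (U : Set (GL D.Idx K)) := by
    rw [hB, hF.borel_eq]
    exact sup_le Subgroup.le_normalizer (hF.diagonal_le_normalizer _)
  haveI : (U.subgroupOf B).Normal := (Subgroup.normal_subgroupOf_iff_le_normalizer hUB).2 hnorm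
  haveI : Group.IsNilpotent ↥U := hF.pos_nilpotent hC
  haveI : Group.IsSolvable ↥(U.subgroupOf B) :=
    Group.isSolvable_of_surjective
      (f := (Subgroup.subgroupOfEquivOfLe hUB).symm.toMonoidHom)
      (Subgroup.subgroupOfEquivOfLe hUB).symm.surjective
  haveI : Group.IsSolvable (↥B ⧸ U.subgroupOf B) := by
    refine Group.isSolvable_of_comm fun a b => ?_
    obtain ⟨⟨x, hx⟩, rfl⟩ := QuotientGroup.mk'_surjective _ a
    obtain ⟨⟨y, hy⟩, rfl⟩ := QuotientGroup.mk'_surjective _ b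
    rw [← map_mul, ← map_mul]
    refine QuotientGroup.eq.2 ?_
    show (x * y)⁻¹ * (y * x) ∈ U
    obtain ⟨u, hu, h, hh, rfl⟩ := hF.mem_borel_iff.1 hx
    obtain ⟨w, hw, k, hk, rfl⟩ := hF.mem_borel_iff.1 hy
    have hc : h * k = k * h := by
      obtain ⟨c, rfl⟩ := hF.mem_diagonal_iff.1 hh
      obtain ⟨d, rfl⟩ := hF.mem_diagonal_iff.1 hk
      exact (dU_commute _ _).eq
    have cj : ∀ g ∈ D.diagonalSubgroup K, ∀ z ∈ U, g * z * g⁻¹ ∈ U := fun g hg z hz =>
      (Subgroup.mem_normalizer_iff.1 (hF.diagonal_le_normalizer _ hg) z).1 hz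
    have e : (u * h * (w * k))⁻¹ * (w * k * (u * h)) =
        (h * k)⁻¹ * ((u * (h * w * h⁻¹))⁻¹ * (w * (k * u * k⁻¹))) * (k * h) := by group
    rw [e, ← hc]
    have := cj _ (Subgroup.inv_mem _ (Subgroup.mul_mem _ hh hk)) _
      (U.mul_mem (U.inv_mem (U.mul_mem hu (cj h hh w hw))) (U.mul_mem hw (cj k hk u hu)))
    rwa [inv_inv] at this
  exact Group.isSolvable_of_ker_le_range (U.subgroupOf B).subtype
    (QuotientGroup.mk' (U.subgroupOf B)) (by simp)

omit hC in
/-- Adjacent fundamental reflections do not commute. -/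
theorem Facts.sP_not_commute {i j : Fin D.rank} (hij : i ≠ j)
    (h : D.cartan i.val (D.simple j.val) ≠ 0) : sP D i * sP D j ≠ sP D j * sP D i := by
  intro e
  have e1 := congrArg (fun σ : Equiv.Perm (Fin D.nroots) => co (σ (hF.simpleFin j)).val i.val) e
  simp only [Equiv.Perm.mul_apply, hF.sP_simple, hF.sP_val] at e1
  have hj := hF.simple_lt' j.isLt
  change co (D.reflectRoot i.val (D.neg (D.simple j.val))) i.val =
    co (D.reflectRoot j.val (D.reflectRoot i.val (D.simple j.val))) i.val at e1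
  rw [hF.refl_neg i.val i.isLt _ hj, hF.co_neg _ (hF.refl_lt _ i.isLt _ hj) _ i.isLt,
    hF.co_refl j.val j.isLt _ (hF.refl_lt _ i.isLt _ hj) _ i.isLt,
    if_neg (fun e => hij (Fin.ext e).symm), sub_zero, hF.co_refl i.val i.isLt _ hj _ i.isLt,
    if_pos rfl, hF.co_simple j.val j.isLt i.val i.isLt, if_neg (fun e => hij (Fin.ext e).symm)] at e1
  omega

/-- The diagram is connected: some height function on the nodes has, at every node but the first,
a neighbour of smaller height. -/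
def Linked (D : ChevalleyDatum) : Prop :=
  ∃ f : ℕ → ℕ, ∀ i < D.rank, 0 < i → ∃ j < D.rank, f j < f i ∧ D.cartan i (D.simple j) ≠ 0

theorem Facts.irreducible (hL : Linked D) : (hF.bnPair hC (K := K)).Irreducible := by
  intro J hJ hJne hcne
  classical
  obtain ⟨el, hel'⟩ : ∃ el : Fin D.rank → ↥(D.group K),
      ∀ i, el i = ⟨nS D K i, hF.monomial_le_group (hF.nS_mem i)⟩ := ⟨_, fun _ => rfl⟩
  have hel : ∀ i, el i ∈ (hF.bnPair hC (K := K)).S :=
    fun i => by rw [hel']; exact ⟨i.val, i.isLt, hF.nU_val (hF.simple_lt' i.isLt) 1⟩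
  have hidx : ∀ x ∈ (hF.bnPair hC (K := K)).S, ∃ i, x = el i := by
    rintro x ⟨i, hi, hx⟩
    rw [← hF.nU_val (hF.simple_lt' hi), Units.val_inj] at hx
    exact ⟨⟨i, hi⟩, by rw [hel']; exact Subtype.ext hx⟩
  -- an adjacent pair across the partition
  have key : ∃ i j : Fin D.rank, ((el i ∈ J) ↔ ¬ el j ∈ J) ∧
      D.cartan i.val (D.simple j.val) ≠ 0 := by
    by_contra hc
    push Not at hc
    obtain ⟨f, hf⟩ := hL
    have all : ∀ (n : ℕ) (hn : n < D.rank), (el ⟨n, hn⟩ ∈ J ↔ el ⟨0, hF.rank_pos⟩ ∈ J) := by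
      intro n
      induction hfn : f n using Nat.strong_induction_on generalizing n with
      | _ m ih =>
        intro hn
        subst hfn
        rcases Nat.eq_zero_or_pos n with rfl | hpos
        · rfl
        obtain ⟨j, hjr, hj, hne⟩ := hf n hn hpos
        have h1 := ih (f j) hj j rfl hjr
        by_contra hiff
        refine hne (hc ⟨n, hn⟩ ⟨j, hjr⟩ ?_)
        by_cases h2 : el ⟨n, hn⟩ ∈ J
        · exact iff_of_true h2 fun h3 => hiff (iff_of_true h2 (h1.1 h3))
        · exact iff_of_false h2 fun h3 => hiff (iff_of_false h2 (mt h1.2 h3))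
    obtain ⟨x, hx⟩ := hJne
    obtain ⟨y, hy, hyJ⟩ := hcne
    obtain ⟨i, rfl⟩ := hidx x (hJ hx)
    obtain ⟨j, rfl⟩ := hidx y hy
    exact hyJ ((all j.val j.isLt).2 ((all i.val i.isLt).1 hx))
  obtain ⟨i, j, hiff, hne⟩ := key
  have hij : i ≠ j := fun e => by subst e; exact iff_not_self hiff
  have hnc : ∀ a b : Fin D.rank, sP D a * sP D b ≠ sP D b * sP D a →
      el a * el b * (el a)⁻¹ * (el b)⁻¹ ∉ (hF.bnPair hC (K := K)).B := by
    intro a b hab hB
    rw [hel', hel'] at hB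
    have ha := hF.permAct_nS (F := K) a
    have hb := hF.permAct_nS (F := K) b
    have := hF.permAct_mul (hF.permAct_mul (hF.permAct_mul ha hb)
      (hF.permAct_inv (hF.nS_mem a) ha)) (hF.permAct_inv (hF.nS_mem b) hb)
    have := hF.permAct_pos this hB
    apply hab
    rwa [mul_inv_eq_one, mul_inv_eq_iff_eq_mul] at this
  by_cases hi : el i ∈ J
  · exact ⟨el i, hi, el j, ⟨hel j, hiff.1 hi⟩, hnc i j (hF.sP_not_commute hij hne)⟩
  · have hj : el j ∈ J := not_not.1 fun h2 => hi (hiff.2 h2)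
    exact ⟨el j, hj, el i, ⟨hel i, hi⟩, hnc j i fun e => hF.sP_not_commute hij hne e.symm⟩

/-! ### Perfectness -/

/-- The root elements of `r` lie in the derived group. -/
def InDerived (D : ChevalleyDatum) (F : Type*) [Field F] (r : ℕ) : Prop :=
  ∀ t : F, ∃ h : xU D r t ∈ D.group F,
    (⟨xU D r t, h⟩ : ↥(D.group F)) ∈ commutator ↥(D.group F)

omit hC in
theorem Facts.xU_mem_group {r : ℕ} (hr : r < D.nroots) (t : K) : xU D r t ∈ D.group K := by
  rw [hF.group_eq]; exact xU_mem_rootClosure (P := fun _ => True) hr trivial t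

omit hC in
theorem Facts.commutator_mem {a b : GL D.Idx K} (ha : a ∈ D.group K) (hb : b ∈ D.group K) :
    (⟨a * b * a⁻¹ * b⁻¹, Subgroup.mul_mem _ (Subgroup.mul_mem _ (Subgroup.mul_mem _ ha hb)
      (Subgroup.inv_mem _ ha)) (Subgroup.inv_mem _ hb)⟩ : ↥(D.group K)) ∈
        commutator ↥(D.group K) := by
  have _ := hF
  have := Subgroup.commutator_mem_commutator (H₁ := (⊤ : Subgroup ↥(D.group K))) (H₂ := ⊤)
    (g₁ := ⟨a, ha⟩) (g₂ := ⟨b, hb⟩) trivial trivial
  rw [← commutator_def] at this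
  exact this

omit hC in
theorem Facts.inDerived_torus {r s : ℕ} (hr : r < D.nroots) (hs : s < D.nroots)
    (hp : prE D s r = 1 ∨ prE D s r = -1) (hq : ∃ a : K, a ≠ 0 ∧ a ≠ 1) : InDerived D K r := by
  obtain ⟨a, ha0, ha1⟩ := hq
  intro t
  set c : Kˣ := Units.mk0 a ha0
  set χ : Kˣ := c ^ prE D s r with hχ
  have hχ1 : (χ : K) ≠ 1 := by
    rcases hp with h | h <;> rw [hχ, h] <;> simp [c, ha1]
  have hne : (χ : K) - 1 ≠ 0 := sub_ne_zero.2 hχ1
  have hh : hU D s (c : K) ∈ D.group K :=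
    hF.diagonal_le_group (hF.hU_mem_diagonal hs (Units.ne_zero c))
  refine ⟨hF.xU_mem_group hr t, ?_⟩
  convert hF.commutator_mem hh (hF.xU_mem_group hr (t / ((χ : K) - 1))) using 2
  rw [hF.hU_eq hs, hF.dU_conj (hF.isWeight_prChar hs c) hr, mul_inv_cancel_right, hF.xU_inv hr,
    hF.xU_add hr]
  congr 1
  rw [prChar, ← hχ]
  field_simp
  ring

theorem Facts.inDerived_single {r s k : ℕ} {C : ℤ} (hr : r < D.nroots) (hs : s < D.nroots)
    (hne : s ≠ r) (hneg : s ≠ D.neg r) (hC1 : C = 1 ∨ C = -1)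
    (hT : D.commTerms r s = [(k, C, 1, 1)]) : InDerived D K k := by
  have hk : k < D.nroots :=
    (hF.commTerms_wt hF.isWeight_omega hr hs (c := (k, C, 1, 1)) (by simp [hT])).1
  intro t
  have h := hF.xU_comm hC hr hs hne hneg (1 : K) (-((C : K) * t))
  have e : wU D (cwR D r s (1 : K) (-((C : K) * t))) = xU D k t := by
    have h2 : (C : K) * (C : K) = 1 := by rcases hC1 with rfl | rfl <;> simp
    simp only [cwR, hT, List.map_cons, List.map_nil, wU, List.prod_cons, List.prod_nil, mul_one,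
      pow_one]
    congr 1
    linear_combination t * h2
  refine ⟨hF.xU_mem_group hk t, ?_⟩
  convert hF.commutator_mem (Subgroup.inv_mem _ (hF.xU_mem_group hs (-((C : K) * t))))
    (Subgroup.inv_mem _ (hF.xU_mem_group hr (1 : K))) using 2
  rw [← e, inv_inv, inv_inv, mul_assoc ((xU D s (-((C : K) * t)))⁻¹ * (xU D r (1 : K))⁻¹), h]
  group

theorem Facts.inDerived_double {r s k k' : ℕ} {C C' : ℤ} {i j : ℕ} (hr : r < D.nroots)
    (hs : s < D.nroots) (hne : s ≠ r) (hneg : s ≠ D.neg r) (hij : i = 1 ∨ j = 1)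
    (hC1 : C' = 1 ∨ C' = -1) (hT : D.commTerms r s = [(k, C, 1, 1), (k', C', i, j)])
    (hk1 : InDerived D K k) : InDerived D K k' := by
  have hk : k' < D.nroots :=
    (hF.commTerms_wt hF.isWeight_omega hr hs (c := (k', C', i, j)) (by simp [hT])).1
  intro t
  refine ⟨hF.xU_mem_group hk t, ?_⟩
  have h2 : (C' : K) * (C' : K) = 1 := by rcases hC1 with rfl | rfl <;> simp
  obtain ⟨a, b, hab⟩ : ∃ a b : K, (C' : K) * (-a) ^ i * b ^ j = t := by
    rcases hij with rfl | rfl
    · refine ⟨-((C' : K) * t), 1, ?_⟩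
      rw [_root_.neg_neg, pow_one, one_pow, mul_one, ← mul_assoc, h2, one_mul]
    · refine ⟨-1, (C' : K) * t, ?_⟩
      rw [_root_.neg_neg, one_pow, mul_one, pow_one, ← mul_assoc, h2, one_mul]
  have h := hF.xU_comm hC hr hs hne hneg a b
  have e : wU D (cwR D r s a b) =
      xU D k ((C : K) * (-a) ^ 1 * b ^ 1) * xU D k' t := by
    simp only [cwR, hT, List.map_cons, List.map_nil, wU, List.prod_cons, List.prod_nil, mul_one,
      hab]
  obtain ⟨hkg, hk2⟩ := hk1 ((C : K) * (-a) ^ 1 * b ^ 1)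
  have h3 := hF.commutator_mem (Subgroup.inv_mem _ (hF.xU_mem_group hs b))
    (Subgroup.inv_mem _ (hF.xU_mem_group hr a))
  have h4 := Subgroup.mul_mem _ (Subgroup.inv_mem _ hk2) h3
  convert h4 using 1
  apply Subtype.ext
  show xU D k' t = (xU D k ((C : K) * (-a) ^ 1 * b ^ 1))⁻¹ *
    ((xU D s b)⁻¹ * (xU D r a)⁻¹ * (xU D s b)⁻¹⁻¹ * (xU D r a)⁻¹⁻¹)
  rw [inv_inv, inv_inv, mul_assoc ((xU D s b)⁻¹ * (xU D r a)⁻¹), h, e]
  group

omit hC in
theorem Facts.inDerived_refl {i r : ℕ} (hi : i < D.rank) (hr : r < D.nroots)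
    (h : InDerived D K r) : InDerived D K (D.reflectRoot i r) := by
  intro t
  refine ⟨hF.xU_mem_group (hF.refl_lt i hi r hr) t, ?_⟩
  obtain ⟨η, h1, -, h3⟩ := hF.exists_eta (F := K) hi
  obtain ⟨hg, hmem⟩ := h ((η r : K) * t)
  have hn : nU D (D.simple i) (1 : K) ∈ D.group K := hF.monomial_le_group (hF.nS_mem ⟨i, hi⟩)
  have := (inferInstance : (commutator ↥(D.group K)).Normal).conj_mem _ hmem ⟨_, hn⟩
  convert this using 1
  apply Subtype.ext
  show xU D (D.reflectRoot i r) t = nU D (D.simple i) 1 * xU D r ((η r : K) * t) *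
    (nU D (D.simple i) 1)⁻¹
  rw [h3 r hr, mul_inv_cancel_right]
  congr 1
  rcases h1 r hr with h | h <;> simp [h]

omit hC in
theorem Facts.perfect_of_simple (h : ∀ i < D.rank, InDerived D K (D.simple i)) :
    commutator ↥(D.group K) = ⊤ := by
  have all : ∀ {r : ℕ}, r < D.nroots → InDerived D K r := fun {r} hr =>
    hF.root_induction (P := InDerived D K) h (fun i hi s hs => hF.inDerived_refl hi hs) hr
  rw [Subgroup.eq_top_iff']
  rintro ⟨g, hg⟩
  have key : ∀ x ∈ rootClosure D K (fun _ => True), ∃ hx : x ∈ D.group K,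
      (⟨x, hx⟩ : ↥(D.group K)) ∈ commutator ↥(D.group K) := by
    intro x hx
    induction hx using Subgroup.closure_induction with
    | mem x hx => obtain ⟨r, t, hr, -, rfl⟩ := hx; exact all hr t
    | one => exact ⟨Subgroup.one_mem _, Subgroup.one_mem _⟩
    | mul x y _ _ ihx ihy =>
      obtain ⟨a, b⟩ := ihx; obtain ⟨c, d⟩ := ihy
      exact ⟨Subgroup.mul_mem _ a c, Subgroup.mul_mem _ b d⟩
    | inv x _ ihx =>
      obtain ⟨a, b⟩ := ihx
      exact ⟨Subgroup.inv_mem _ a, Subgroup.inv_mem _ b⟩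
  obtain ⟨h1, h2⟩ := key g (by rw [← hF.group_eq]; exact hg)
  exact h2

end

end CfsgLib.Chev
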