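/-
Packed tables for Chevalley data: Boolean checks, meant for `decide +kernel`, and their soundness
for the statement `CfsgLib.Chev.Facts`.
-/
import Cfsg.Agent.Lib.Chev.Datum

set_option autoImplicit false

namespace CfsgLib.Chev.Table

open Cfsg.Lie

/-- A binary search tree of natural numbers. -/
inductive Tree : Type where
  | leaf (v : ℕ)
  | node (m : ℕ) (lt ge : Tree)

/-- Look up index `i`. -/
def Tree.get : Tree → ℕ → ℕ
  | .leaf v, _ => v
  | .node m lt ge, i => bif Nat.blt i m then lt.get i else ge.get i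

/-- The `s`-th 16-bit slot of a packed row. -/
def slot (w s : ℕ) : ℕ := Nat.land (Nat.shiftRight w (Nat.mul 16 s)) 65535

/-- `p k` for all `k < n`. -/
def allBelow (n : ℕ) (p : ℕ → Bool) : Bool :=
  Nat.rec true (fun k ih => bif p k then ih else false) n

theorem allBelow_spec {n : ℕ} {p : ℕ → Bool} (h : allBelow n p = true) :
    ∀ k < n, p k = true := by
  induction n with
  | zero => intro k hk; omega
  | succ n ih =>
    intro k hk
    cases hn : p n with
    | false => simp [allBelow, hn] at h
    | true =>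
      simp only [allBelow, hn, cond_true] at h
      rcases Nat.lt_succ_iff_lt_or_eq.1 hk with h' | rfl
      · exact ih h k h'
      · exact hn

theorem allBelow_of {n : ℕ} {p : ℕ → Bool} (h : ∀ k < n, p k = true) : allBelow n p = true := by
  induction n with
  | zero => rfl
  | succ n ih =>
    show (bif p n then allBelow n p else false) = true
    rw [h n (by omega), cond_true]
    exact ih fun k hk => h k (by omega)

/-- `p k` for some `k < n`. -/
def anyBelow (n : ℕ) (p : ℕ → Bool) : Bool :=
  Nat.rec false (fun k ih => bif p k then true else ih) n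

theorem anyBelow_spec {n : ℕ} {p : ℕ → Bool} (h : anyBelow n p = true) :
    ∃ k < n, p k = true := by
  induction n with
  | zero => simp [anyBelow] at h
  | succ n ih =>
    cases hn : p n with
    | true => exact ⟨n, by omega, hn⟩
    | false =>
      simp only [anyBelow, hn, cond_false] at h
      obtain ⟨k, hk, hp⟩ := ih h
      exact ⟨k, by omega, hp⟩

theorem anyBelow_of {n i : ℕ} {p : ℕ → Bool} (hi : i < n) (h : p i = true) :
    anyBelow n p = true := by
  induction n with
  | zero => omega
  | succ n ih =>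
    show (bif p n then true else anyBelow n p) = true
    rcases Nat.lt_succ_iff_lt_or_eq.1 hi with h' | h'
    · rw [ih h']; cases p n <;> rfl
    · rw [← h', h, cond_true]

/-- Packed tables of a datum. -/
structure Tab : Type where
  rank : ℕ
  nroots : ℕ
  simples : ℕ
  rows : Tree
  cart : Tree
  cors : Tree
  cos : Tree
  etas : Tree
  off : ℕ

namespace Tab

variable (T : Tab)

/-- Root index of a fundamental root. -/
def smp (i : ℕ) : ℕ := slot T.simples i
/-- Negation. -/
def neg (r : ℕ) : ℕ := T.nroots - 1 - r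
/-- Packed entry of the pair `(r, s)`. -/
def ent (r s : ℕ) : ℕ := slot (T.rows.get r) s
/-- `r + s`. -/
def tg (r s : ℕ) : Option ℕ := bif T.ent r s == 0 then none else some (T.ent r s / 16)
/-- `N_{r,s}`. -/
def nn (r s : ℕ) : ℤ := bif T.ent r s == 0 then 0 else Int.ofNat (T.ent r s % 16) - 8
/-- Cartan integer. -/
def aa (i s : ℕ) : ℤ := Int.ofNat (slot (T.cart.get i) s) - 8
/-- Coroot coefficient. -/
def cc (r i : ℕ) : ℤ := Int.ofNat (slot (T.cors.get r) i) - 32
/-- Root coefficient. -/
def co (r i : ℕ) : ℤ := Int.ofNat (slot (T.cos.get r) i) - 32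

/-- The chain through `s`, rebuilt from the structure constants. -/
def go (r : ℕ) : ℕ → ℕ → ℕ → ℤ → List (ℕ × ℤ)
  | 0, _, _, _ => []
  | fuel + 1, i, u, m =>
    bif T.ent r u == 0 then []
    else (T.ent r u / 16, m * T.nn r u / (i : ℤ)) ::
      go r fuel (i + 1) (T.ent r u / 16) (m * T.nn r u / (i : ℤ))

/-- The chain entry of `(r, s)`. -/
def gen (r s : ℕ) : List (ℕ × ℤ) := T.go r 3 1 s 1

/-- Consistency along a chain. -/
def stepsOK (r : ℕ) : ℕ → List (ℕ × ℤ) → Bool
  | _, [] => true
  | _, [(u, _)] => T.ent r u == 0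
  | i, (u, m) :: (u', m') :: rest =>
    (T.tg r u == some u') && (((i + 1 : ℕ) : ℤ) * m' == m * T.nn r u) &&
      stepsOK r (i + 1) ((u', m') :: rest)

/-- Reflection in a fundamental root. -/
def refl (i s : ℕ) : ℕ :=
  let p := T.smp i
  let A := T.aa i s
  if s = p then T.neg p
  else if s = T.neg p then p
  else if 0 < A then (((T.gen (T.neg p) s)[A.toNat - 1]?).map Prod.fst).getD s
  else if A < 0 then (((T.gen p s)[(-A).toNat - 1]?).map Prod.fst).getD s
  else s

/-- The bracket of two coordinates. -/
def br (a b : ℕ) : List (ℕ × ℤ) :=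
  bif Nat.blt a T.rank then
    bif Nat.blt b T.rank then [] else [(b, T.aa a (b - T.rank))]
  else
    bif Nat.blt b T.rank then [(a, -T.aa b (a - T.rank))]
    else
      bif Nat.beq (b - T.rank) (T.neg (a - T.rank)) then
        (List.range T.rank).map (fun i => (i, T.cc (a - T.rank) i))
      else
        bif T.ent (a - T.rank) (b - T.rank) == 0 then []
        else [(T.rank + T.ent (a - T.rank) (b - T.rank) / 16, T.nn (a - T.rank) (b - T.rank))]

/-- The column `b` of the `k`-th divided power of `ad e_r`. -/
def dpow (r k b : ℕ) : List (ℕ × ℤ) :=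
  match k with
  | 0 => [(b, 1)]
  | 1 => T.br (T.rank + r) b
  | k + 2 =>
    bif Nat.blt b T.rank then []
    else
      bif Nat.beq (b - T.rank) (T.neg r) then (if k = 0 then [(T.rank + r, -1)] else [])
      else
        match (T.gen r (b - T.rank))[k + 1]? with
        | none => []
        | some (u, m) => [(T.rank + u, m)]

end Tab

/-- Scale a sparse vector. -/
def scale (c : ℤ) (L : List (ℕ × ℤ)) : List (ℕ × ℤ) := L.map fun p => (p.1, c * p.2)

/-- Apply a column function to a sparse vector. -/
def push (f : ℕ → List (ℕ × ℤ)) (L : List (ℕ × ℤ)) : List (ℕ × ℤ) :=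
  L.flatMap fun p => scale p.2 (f p.1)

/-- The sum of the entries at index `u`. -/
def sumAt (L : List (ℕ × ℤ)) (u : ℕ) : ℤ :=
  ((L.filter fun p => Nat.beq p.1 u).map Prod.snd).sum

/-- A sparse vector represents zero. -/
def isZero (L : List (ℕ × ℤ)) : Bool := L.all fun p => sumAt L p.1 == 0

namespace Tab

variable (T : Tab)

/-- The column `b` of `x_r(t)` for an integer `t`. -/
def xcol (r : ℕ) (t : ℤ) (b : ℕ) : List (ℕ × ℤ) :=
  (List.range 4).flatMap fun k => scale (t ^ k) (T.dpow r k b)

/-- The column `b` of `x_p(1) x_{-p}(-1) x_p(1)`. -/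
def ncol (i b : ℕ) : List (ℕ × ℤ) :=
  push (T.xcol (T.smp i) 1) (push (T.xcol (T.neg (T.smp i)) (-1)) (T.xcol (T.smp i) 1 b))

/-- The sign attached to `(i, s)`. -/
def eta (i s : ℕ) : ℤ := Int.ofNat (slot (T.etas.get i) s) - 1

/-- The generating indices. -/
def isGenB (a : ℕ) : Bool :=
  anyBelow T.rank fun i => Nat.beq a (T.smp i) || Nat.beq a (T.neg (T.smp i))

variable (D : ChevalleyDatum)

/-- The arrays of `D` agree with the tables. -/
def chkArrays : Bool :=
  Nat.beq D.rank T.rank && Nat.beq D.nroots T.nroots && Nat.blt 0 T.rank &&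
  Nat.beq T.nroots (2 * (T.nroots / 2)) &&
  (D.negIdx.toList == (List.range T.nroots).map T.neg) &&
  (D.simpleIdx.toList == (List.range T.rank).map T.smp) &&
  (D.cartanSR.toList.map Array.toList ==
    (List.range T.rank).map fun i => (List.range T.nroots).map (T.aa i)) &&
  (D.coroot.toList.map Array.toList ==
    (List.range T.nroots).map fun r => (List.range T.rank).map (T.cc r)) &&
  allBelow T.rank (fun i => Nat.ble (T.nroots / 2) (T.smp i) && Nat.blt (T.smp i) T.nroots)

/-- The chain table of `D` agrees with the rebuilt chains. -/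
def chkChain : Bool :=
  D.chain.toList.map (fun row => row.toList.map fun e => (e.1, e.2.toList)) ==
    (List.range T.nroots).map fun r =>
      (List.range T.nroots).filterMap fun s =>
        bif (T.gen r s).isEmpty then none else some (s, T.gen r s)

/-- The conditions on one pair of roots. -/
def pairOK (r s : ℕ) : Bool :=
  bif T.ent r s == 0 then Nat.beq (T.ent s r) 0 else
    Nat.blt (T.ent r s / 16) T.nroots && !Nat.beq (T.ent r s / 16) r &&
    !Nat.beq (T.ent r s / 16) (T.neg r) && !(T.nn r s == 0) &&
    !Nat.beq s r && !Nat.beq s (T.neg r) &&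
    (T.tg s r == T.tg r s) && (T.nn s r == -T.nn r s) &&
    T.stepsOK r 1 (T.gen r s) &&
    Nat.beq (T.cos.get (T.ent r s / 16) + T.off) (T.cos.get r + T.cos.get s)

/-- All pairs. -/
def chkPairs : Bool := allBelow T.nroots fun r => allBelow T.nroots fun s => T.pairOK r s

/-- `omega` computed on the tables. -/
def omg (r : ℕ) : ℤ := ((List.range T.rank).map fun j => T.co r j * 64 ^ (T.rank - 1 - j)).sum

/-- The conditions on single roots. -/
def chkRoots : Bool :=
  allBelow T.nroots (fun r =>
    ((((List.range T.rank).map fun i => T.cc r i * T.aa i r).sum) == 2) &&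
    allBelow T.rank (fun i => (T.cc (T.neg r) i == -T.cc r i) && (T.aa i (T.neg r) == -T.aa i r) &&
      (T.co (T.neg r) i == -T.co r i) &&
      (bif Nat.ble (T.nroots / 2) r then decide (0 ≤ T.co r i) else true) &&
      (decide (T.cc r i = 0) == decide (T.co r i = 0))) &&
    allBelow T.rank (fun i => Nat.blt (slot (T.cos.get r) i) 32768 &&
      Nat.beq (slot T.off i) 32 &&
      (T.aa i r == ((List.range T.rank).map fun j => T.co r j * T.aa i (T.smp j)).sum)) &&
    (((List.range T.rank).all fun i => decide (0 ≤ T.cc r i)) == Nat.ble (T.nroots / 2) r) &&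
    (((List.range T.rank).all fun i => decide (T.cc r i ≤ 0)) == Nat.blt r (T.nroots / 2)) &&
    (bif Nat.blt (r + 1) T.nroots then decide (T.omg r < T.omg (r + 1)) else true) &&
    (bif T.isGenB r then true else anyBelow T.rank (fun i =>
      let stepOK := fun a =>
        match T.tg (T.neg a) r with
        | none => false
        | some s => Nat.blt s T.nroots && (T.tg a s == some r) &&
            (bif Nat.ble (T.nroots / 2) r then Nat.ble (T.nroots / 2) s && Nat.blt s r
              else Nat.blt s (T.nroots / 2) && Nat.blt r s)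
      stepOK (T.smp i) || stepOK (T.neg (T.smp i))))) &&
  allBelow T.rank (fun i => allBelow T.rank (fun j =>
    T.co (T.smp i) j == if i = j then 1 else 0))

/-- The conditions on the reflections. -/
def chkRefl : Bool :=
  allBelow T.nroots (fun s =>
    allBelow T.rank (fun i =>
      Nat.blt (T.refl i s) T.nroots && Nat.beq (T.refl i (T.refl i s)) s &&
      (bif Nat.ble (T.nroots / 2) s && !Nat.beq s (T.smp i) then
        Nat.ble (T.nroots / 2) (T.refl i s) else true) &&
      Nat.beq (T.refl i (T.neg s)) (T.neg (T.refl i s)) &&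
      allBelow T.rank (fun j =>
        (T.co (T.refl i s) j == T.co s j - if i = j then T.aa i s else 0) &&
        (T.aa j (T.refl i s) == T.aa j s - T.aa j (T.smp i) * T.aa i s) &&
        (T.cc (T.refl i s) j == T.cc s j - if i = j then
          (((List.range T.rank).map fun m => T.cc s m * T.aa m (T.smp i)).sum) else 0))) &&
    (bif Nat.ble (T.nroots / 2) s then
      anyBelow T.rank (fun i => Nat.beq s (T.smp i)) ||
        anyBelow T.rank (fun i => Nat.ble (T.nroots / 2) (T.refl i s) && Nat.blt (T.refl i s) s)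
     else true))

/-- The derivation identity for one generator and two coordinates. -/
def derivOK (a b c : ℕ) : Bool :=
  let L1 := push (T.br a) (T.br b c)
  let L2 := push (T.br b) (T.br a c)
  let L3 := push (fun u => T.br u c) (T.br a b)
  bif L1.isEmpty && L2.isEmpty && L3.isEmpty then true
  else isZero (L1 ++ scale (-1) L2 ++ scale (-1) L3)

/-- The derivation identity for all pairs of coordinates and one root. -/
def chkDerivAt (r : ℕ) : Bool :=
  allBelow (T.rank + T.nroots) fun b => allBelow (T.rank + T.nroots) fun c =>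
    T.derivOK (T.rank + r) b c

/-- The derivation identity for all generators. -/
def chkDeriv : Bool :=
  allBelow T.rank fun i => T.chkDerivAt (T.smp i) && T.chkDerivAt (T.neg (T.smp i))

/-- The derivation list for one generator and two coordinates. -/
def triList (a b c : ℕ) : List (ℕ × ℤ) :=
  push (T.br a) (T.br b c) ++ scale (-1) (push (T.br b) (T.br a c)) ++
    scale (-1) (push (fun u => T.br u c) (T.br a b))

/-- The derivation identity at a root `r` for all coordinates. -/
def DerivZeroAt (r : ℕ) : Prop :=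
  ∀ b < T.rank + T.nroots, ∀ c < T.rank + T.nroots, ∀ u,
    sumAt (T.triList (T.rank + r) b c) u = 0

/-- The derivation identity at all generators. -/
def DerivZero : Prop :=
  ∀ i < T.rank, T.DerivZeroAt (T.smp i) ∧ T.DerivZeroAt (T.neg (T.smp i))

/-- The claimed column of `n_p`. -/
def ncolForm (i b : ℕ) : List (ℕ × ℤ) :=
  bif Nat.blt b T.rank then [(b, 1), (i, -T.aa b (T.smp i))]
  else [(T.rank + T.refl i (b - T.rank), T.eta i (b - T.rank))]

/-- The monomial form of `n_p` and the sign relations, for one fundamental root. -/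
def chkNMatAt (i : ℕ) : Bool :=
    (T.eta i (T.smp i) == -1) && (T.eta i (T.neg (T.smp i)) == -1) &&
    allBelow T.nroots (fun s =>
      let e := T.eta i s
      ((e == 1) || (e == -1)) && (e * T.eta i (T.neg s) == 1) &&
      (e * T.eta i (T.refl i s) == (-1) ^ (T.aa i s).natAbs)) &&
    allBelow (T.rank + T.nroots) (fun b => isZero (T.ncol i b ++ scale (-1) (T.ncolForm i b)))

/-- The monomial form of `n_p` and the sign relations. -/
def chkNMat : Bool := allBelow T.rank T.chkNMatAt

/-- Short chains on one pair. -/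
def shortOK (r s : ℕ) : Bool :=
  bif T.ent r s == 0 then true else
    let L := T.gen r s
    Nat.ble L.length 2 &&
    (bif Nat.beq L.length 2 then Nat.ble (T.gen s r).length 1 else true) &&
    (bif Nat.ble (T.gen s r).length 1 then
      let M := s :: L.map Prod.fst
      M.all fun a => M.all fun b => Nat.beq (T.ent a b) 0 && !Nat.beq b (T.neg a)
     else true)

/-- Short chains. -/
def chkShort : Bool := allBelow T.nroots fun r => allBelow T.nroots fun s => T.shortOK r s

end Tab

/-! ### Soundness -/

theorem blt_iff {a b : ℕ} : Nat.blt a b = true ↔ a < b := by rw [Nat.blt_eq]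

theorem ble_iff {a b : ℕ} : Nat.ble a b = true ↔ a ≤ b := by rw [Nat.ble_eq]

section Sound

variable {D : ChevalleyDatum} {T : Tab}

theorem getD_toList {α : Type*} (a : Array α) (i : ℕ) (d : α) :
    a.getD i d = a.toList.getD i d := by
  simp [Array.getD_eq_getD_getElem?, List.getD_eq_getElem?_getD, Array.getElem?_toList]

variable (hA : T.chkArrays D = true)
include hA

theorem rank_eq : D.rank = T.rank := by
  simp only [Tab.chkArrays, Bool.and_eq_true] at hA
  exact Nat.eq_of_beq_eq_true hA.1.1.1.1.1.1.1.1

theorem nroots_eq : D.nroots = T.nroots := by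
  simp only [Tab.chkArrays, Bool.and_eq_true] at hA
  exact Nat.eq_of_beq_eq_true hA.1.1.1.1.1.1.1.2

theorem neg_eq {r : ℕ} (hr : r < D.nroots) : D.neg r = T.neg r := by
  have hn := nroots_eq hA
  simp only [Tab.chkArrays, Bool.and_eq_true, beq_iff_eq] at hA
  rw [ChevalleyDatum.neg, getD_toList, hA.1.1.1.1.2]
  simp [List.getD_eq_getElem?_getD, ← hn, hr]

theorem simple_eq {i : ℕ} (hi : i < D.rank) : D.simple i = T.smp i := by
  have hn := rank_eq hA
  simp only [Tab.chkArrays, Bool.and_eq_true, beq_iff_eq] at hA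
  rw [ChevalleyDatum.simple, getD_toList, hA.1.1.1.2]
  simp [List.getD_eq_getElem?_getD, ← hn, hi]

theorem simple_bounds {i : ℕ} (hi : i < D.rank) :
    D.nroots / 2 ≤ D.simple i ∧ D.simple i < D.nroots := by
  rw [simple_eq hA hi, nroots_eq hA]
  rw [rank_eq hA] at hi
  simp only [Tab.chkArrays, Bool.and_eq_true] at hA
  have := allBelow_spec hA.2 i hi
  simpa [Nat.ble_eq, Nat.blt_eq] using this

theorem cartan_eq {i s : ℕ} (hi : i < D.rank) (hs : s < D.nroots) : D.cartan i s = T.aa i s := by
  have hl := rank_eq hA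
  have hn := nroots_eq hA
  simp only [Tab.chkArrays, Bool.and_eq_true, beq_iff_eq] at hA
  have h := congrArg (fun L => (List.getD L i []).getD s 0) hA.1.1.2
  have e : ((D.cartanSR.getD i #[]).toList) = (D.cartanSR.toList.map Array.toList).getD i [] := by
    rw [getD_toList, List.getD_eq_getElem?_getD, List.getD_eq_getElem?_getD, List.getElem?_map]
    cases D.cartanSR.toList[i]? <;> simp
  rw [ChevalleyDatum.cartan, getD_toList, e]
  rw [h]
  simp [List.getD_eq_getElem?_getD, ← hl, ← hn, hi, hs]

theorem cor_eq {r i : ℕ} (hr : r < D.nroots) (hi : i < D.rank) : cor D r i = T.cc r i := by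
  have hl := rank_eq hA
  have hn := nroots_eq hA
  simp only [Tab.chkArrays, Bool.and_eq_true, beq_iff_eq] at hA
  have h := congrArg (fun L => (List.getD L r []).getD i 0) hA.1.2
  have e : ((D.coroot.getD r #[]).toList) = (D.coroot.toList.map Array.toList).getD r [] := by
    rw [getD_toList, List.getD_eq_getElem?_getD, List.getD_eq_getElem?_getD, List.getElem?_map]
    cases D.coroot.toList[r]? <;> simp
  rw [cor, getD_toList, e]
  rw [h]
  simp [List.getD_eq_getElem?_getD, ← hl, ← hn, hi, hr]

theorem coroot_row {r : ℕ} (hr : r < D.nroots) :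
    (D.coroot.getD r #[]).toList = (List.range T.rank).map (T.cc r) := by
  have hn := nroots_eq hA
  simp only [Tab.chkArrays, Bool.and_eq_true, beq_iff_eq] at hA
  have h := congrArg (fun L => List.getD L r []) hA.1.2
  simp only [List.getD_eq_getElem?_getD, List.getElem?_map, ← hn, List.getElem?_range hr,
    Option.map_some, Option.getD_some] at h
  rw [← h, getD_toList, List.getD_eq_getElem?_getD]
  cases D.coroot.toList[r]? <;> simp

section Chains

variable (hC : T.chkChain D = true)
include hC

theorem chain_row {r : ℕ} (hr : r < D.nroots) :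
    ((D.chain.getD r #[]).toList.map fun e => (e.1, e.2.toList)) =
      (List.range T.nroots).filterMap fun s =>
        bif (T.gen r s).isEmpty then none else some (s, T.gen r s) := by
  have hn := nroots_eq hA
  simp only [Tab.chkChain, beq_iff_eq] at hC
  have h := congrArg (fun L => List.getD L r []) hC
  simp only [List.getD_eq_getElem?_getD, List.getElem?_map, ← hn, List.getElem?_range hr,
    Option.map_some, Option.getD_some] at h
  rw [← hn, ← h, getD_toList, List.getD_eq_getElem?_getD]
  cases D.chain.toList[r]? <;> simp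

omit hA hC in
theorem find_range (n : ℕ) (f : ℕ → List (ℕ × ℤ)) (s : ℕ) (hs : s < n) :
    ((List.range n).filterMap fun x => bif (f x).isEmpty then none else some (x, f x)).find?
      (fun e => e.1 = s) = bif (f s).isEmpty then none else some (s, f s) := by
  rw [List.find?_filterMap]
  cases hf : (f s).isEmpty with
  | false =>
    have h : (List.range n).find? (fun a => (bif (f a).isEmpty then none else some (a, f a)).any
        fun e => decide (e.1 = s)) = some s := by
      rw [List.find?_eq_some_iff_append]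
      refine ⟨by simp [hf], List.range s, (List.range (n - s - 1)).map (fun k => s + (k + 1)), ?_, ?_⟩
      · conv_lhs => rw [show n = s + ((n - s - 1) + 1) by omega, List.range_add]
        rw [List.range_succ_eq_map]
        simp [List.map_map, Function.comp_def]
      · intro a ha
        rw [List.mem_range] at ha
        cases (f a).isEmpty <;> simp [ne_of_lt ha]
    rw [h]; simp [hf]
  | true =>
    have h : (List.range n).find? (fun a => (bif (f a).isEmpty then none else some (a, f a)).any
        fun e => decide (e.1 = s)) = none := by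
      rw [List.find?_eq_none]
      intro a _
      by_cases has : a = s
      · simp [has, hf]
      · cases (f a).isEmpty <;> simp [has]
    rw [h]; simp

theorem chainEntry_eq {r s : ℕ} (hr : r < D.nroots) (hs : s < D.nroots) :
    D.chainEntry r s = T.gen r s := by
  have h := chain_row hA hC hr
  have h2 := congrArg (fun L => List.find? (fun e => decide (e.1 = s)) L) h
  simp only [List.find?_map, Function.comp_def] at h2
  rw [find_range _ _ _ (nroots_eq hA ▸ hs)] at h2
  unfold ChevalleyDatum.chainEntry
  cases hf : ((D.chain.getD r #[]).toList.find? fun e => decide (e.1 = s)) with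
  | none =>
    rw [hf] at h2
    cases he : (T.gen r s).isEmpty with
    | true => simpa using he
    | false => simp [he] at h2
  | some e =>
    rw [hf] at h2
    cases he : (T.gen r s).isEmpty with
    | true => simp [he] at h2
    | false =>
      simp only [he, cond_false, Option.map_some, Option.some.injEq, Prod.mk.injEq] at h2
      exact h2.2

theorem keys_nodup {r : ℕ} (hr : r < D.nroots) :
    ((D.chain.getD r #[]).toList.map Prod.fst).Nodup := by
  have h := congrArg (List.map Prod.fst) (chain_row hA hC hr)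
  simp only [List.map_map, Function.comp_def] at h
  rw [show ((D.chain.getD r #[]).toList.map Prod.fst) =
    ((D.chain.getD r #[]).toList.map fun e => e.1) from rfl, h, List.map_filterMap]
  refine List.Nodup.filterMap ?_ List.nodup_range
  intro a a' b hb hb'
  rcases ha : (T.gen r a).isEmpty <;> rcases ha' : (T.gen r a').isEmpty <;>
    simp [ha, ha'] at hb hb'
  omega

theorem tgt_eq {r s : ℕ} (hr : r < D.nroots) (hs : s < D.nroots) :
    tgt D r s = T.tg r s := by
  rw [tgt, ChevalleyDatum.chainRoot, chainEntry_eq hA hC hr hs]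
  simp only [Tab.gen, Tab.go, Tab.tg]
  cases T.ent r s == 0 <;> simp

theorem str_eq {r s : ℕ} (hr : r < D.nroots) (hs : s < D.nroots) :
    str D r s = T.nn r s := by
  rw [str, ChevalleyDatum.chainM, chainEntry_eq hA hC hr hs]
  simp only [Tab.gen, Tab.go, Tab.nn]
  cases T.ent r s == 0 <;> simp

theorem reflect_eq {i s : ℕ} (hi : i < D.rank) (hs : s < D.nroots) :
    D.reflectRoot i s = T.refl i s := by
  have hp := (simple_bounds hA hi).2
  have hnp : D.neg (D.simple i) < D.nroots := by
    rw [neg_eq hA hp, nroots_eq hA, Tab.neg]; rw [nroots_eq hA] at hp; omega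
  have e1 := chainEntry_eq hA hC hnp hs
  have e2 := chainEntry_eq hA hC hp hs
  have e3 := neg_eq hA hp
  rw [e3] at e1
  rw [simple_eq hA hi] at e1 e2 e3
  simp only [ChevalleyDatum.reflectRoot, Tab.refl, ChevalleyDatum.chainRoot,
    simple_eq hA hi, e3, e1, e2, cartan_eq hA hi hs]

end Chains

omit hA

theorem tg_of_ne {r s : ℕ} (h : T.ent r s ≠ 0) : T.tg r s = some (T.ent r s / 16) := by
  rw [Tab.tg, beq_eq_false_iff_ne.2 h, cond_false]

theorem tg_of_eq {r s : ℕ} (h : T.ent r s = 0) : T.tg r s = none := by
  simp [Tab.tg, h]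

theorem nn_of_eq {r s : ℕ} (h : T.ent r s = 0) : T.nn r s = 0 := by
  simp [Tab.nn, h]

theorem gen_of_eq {r s : ℕ} (h : T.ent r s = 0) : T.gen r s = [] := by
  simp [Tab.gen, Tab.go, h]

theorem enc_inl (D : ChevalleyDatum) (i : Fin D.rank) : enc D (Sum.inl i) = i.val := rfl

theorem enc_inr (D : ChevalleyDatum) (s : Fin D.nroots) : enc D (Sum.inr s) = D.rank + s.val := rfl

theorem go_length (r fuel : ℕ) : ∀ i u m, (T.go r fuel i u m).length ≤ fuel := by
  induction fuel with
  | zero => intro i u m; simp [Tab.go]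
  | succ f ih =>
    intro i u m
    simp only [Tab.go]
    cases T.ent r u == 0
    · simp [ih]
    · simp

theorem steps_spec {r : ℕ} : ∀ (L : List (ℕ × ℤ)) (i : ℕ), T.stepsOK r i L = true → ∀ k u m,
    L[k]? = some (u, m) → (L[k + 1]?).map Prod.fst = T.tg r u ∧
      ((i + k + 1 : ℕ) : ℤ) * ((L[k + 1]?).map Prod.snd).getD 0 = m * T.nn r u
  | [], _, _, k, u, m, hk => by simp at hk
  | [(u₀, m₀)], i, h, k, u, m, hk => by
    simp only [Tab.stepsOK, beq_iff_eq] at h
    rcases k with - | k
    · simp only [List.getElem?_cons_zero, Option.some.injEq, Prod.mk.injEq] at hk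
      obtain ⟨rfl, rfl⟩ := hk
      simp [Tab.tg, Tab.nn, h]
    · simp at hk
  | (u₀, m₀) :: (u₁, m₁) :: rest, i, h, k, u, m, hk => by
    simp only [Tab.stepsOK, Bool.and_eq_true, beq_iff_eq] at h
    rcases k with - | k
    · simp only [List.getElem?_cons_zero, Option.some.injEq, Prod.mk.injEq] at hk
      obtain ⟨rfl, rfl⟩ := hk
      refine ⟨by simp [h.1.1], ?_⟩
      have h2 := h.1.2
      simpa using h2
    · rw [List.getElem?_cons_succ] at hk
      have := steps_spec _ (i + 1) h.2 k u m hk
      rw [show i + 1 + k + 1 = i + (k + 1) + 1 by omega] at this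
      simpa using this

/-- Sparse vector semantics. -/
def vec (D : ChevalleyDatum) (L : List (ℕ × ℤ)) : D.Idx → ℤ := fun x => sumAt L (enc D x)

theorem sumAt_nil (u : ℕ) : sumAt [] u = 0 := rfl

theorem sumAt_cons (p : ℕ × ℤ) (L : List (ℕ × ℤ)) (u : ℕ) :
    sumAt (p :: L) u = (if p.1 = u then p.2 else 0) + sumAt L u := by
  by_cases h : p.1 = u
  · simp [sumAt, h]
  · simp [sumAt, h]

theorem sumAt_append (L M : List (ℕ × ℤ)) (u : ℕ) :
    sumAt (L ++ M) u = sumAt L u + sumAt M u := by
  simp [sumAt]

theorem sumAt_scale (c : ℤ) (L : List (ℕ × ℤ)) (u : ℕ) :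
    sumAt (scale c L) u = c * sumAt L u := by
  induction L with
  | nil => simp [scale, sumAt]
  | cons p L ih =>
    rw [show scale c (p :: L) = (p.1, c * p.2) :: scale c L from rfl, sumAt_cons, sumAt_cons, ih]
    split <;> ring

theorem sumAt_flatMap {α : Type*} (L : List α) (f : α → List (ℕ × ℤ)) (u : ℕ) :
    sumAt (L.flatMap f) u = (L.map fun a => sumAt (f a) u).sum := by
  induction L with
  | nil => simp [sumAt]
  | cons a L ih => simp [List.flatMap_cons, sumAt_append, ih]

theorem isZero_spec {L : List (ℕ × ℤ)} (h : isZero L = true) (u : ℕ) : sumAt L u = 0 := by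
  by_cases hu : ∃ p ∈ L, p.1 = u
  · obtain ⟨p, hp, rfl⟩ := hu
    simpa using List.all_eq_true.1 h p hp
  · have : L.filter (fun p => Nat.beq p.1 u) = [] := by
      rw [List.filter_eq_nil_iff]
      intro p hp hpu
      exact hu ⟨p, hp, Nat.eq_of_beq_eq_true hpu⟩
    simp [sumAt, this]

theorem enc_lt (x : D.Idx) : enc D x < D.rank + D.nroots := by
  rcases x with i | s <;> simp [enc] <;> omega

theorem enc_injective : Function.Injective (enc D) := by
  rintro (i | s) (j | u) h <;> simp only [enc, Sum.elim_inl, Sum.elim_inr] at h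
  · rw [Fin.ext h]
  · omega
  · omega
  · rw [Fin.ext (by omega : s.val = u.val)]

theorem exists_enc {u : ℕ} (hu : u < D.rank + D.nroots) : ∃ x, enc D x = u := by
  by_cases h : u < D.rank
  · exact ⟨Sum.inl ⟨u, h⟩, rfl⟩
  · exact ⟨Sum.inr ⟨u - D.rank, by omega⟩, by simp [enc]; omega⟩

/-- All indices of a sparse vector are in range. -/
def Bounded (D : ChevalleyDatum) (L : List (ℕ × ℤ)) : Prop := ∀ p ∈ L, p.1 < D.rank + D.nroots

theorem sum_vec_mul {L : List (ℕ × ℤ)} (hL : Bounded D L) (g : ℕ → ℤ) :
    ∑ x : D.Idx, vec D L x * g (enc D x) = (L.map fun p => p.2 * g p.1).sum := by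
  induction L with
  | nil => simp [vec, sumAt]
  | cons p L ih =>
    obtain ⟨y, hy⟩ := exists_enc (hL p (by simp))
    simp only [vec, sumAt_cons, add_mul, Finset.sum_add_distrib, List.map_cons, List.sum_cons]
    have h2 := ih (fun q hq => hL q (List.mem_cons_of_mem _ hq))
    simp only [vec] at h2
    rw [h2, Finset.sum_eq_single y]
    · rw [if_pos hy.symm, hy]
    · intro x _ hx
      rw [if_neg (fun h => hx (enc_injective (h.symm.trans hy.symm))), zero_mul]
    · simp

theorem sum_vec_mul_push {L : List (ℕ × ℤ)} (hL : Bounded D L) (f : ℕ → List (ℕ × ℤ)) (u : ℕ) :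
    ∑ x : D.Idx, vec D L x * sumAt (f (enc D x)) u = sumAt (push f L) u := by
  rw [sum_vec_mul hL (fun v => sumAt (f v) u), push, sumAt_flatMap]
  simp [sumAt_scale]

theorem mul_apply_push {L : List (ℕ × ℤ)} (hL : Bounded D L) (M N : Matrix D.Idx D.Idx ℤ)
    (f : ℕ → List (ℕ × ℤ)) (row col : D.Idx)
    (hM : ∀ x, M row x = sumAt (f (enc D x)) (enc D row)) (hN : ∀ x, N x col = vec D L x) :
    (M * N) row col = sumAt (push f L) (enc D row) := by
  rw [Matrix.mul_apply, ← sum_vec_mul_push hL]
  exact Finset.sum_congr rfl fun x _ => by rw [hM, hN, mul_comm]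

theorem bounded_scale {L : List (ℕ × ℤ)} (hL : Bounded D L) (c : ℤ) :
    Bounded D (scale c L) := by
  intro p hp
  obtain ⟨q, hq, rfl⟩ := List.mem_map.1 hp
  exact hL q hq

theorem bounded_push {f : ℕ → List (ℕ × ℤ)} {L : List (ℕ × ℤ)}
    (hf : ∀ q ∈ L, Bounded D (f q.1)) : Bounded D (push f L) := by
  intro p hp
  obtain ⟨q, hq, hp⟩ := List.mem_flatMap.1 hp
  exact bounded_scale (hf q hq) _ p hp

theorem derivOK_spec {a b c : ℕ} (h : T.derivOK a b c = true) (u : ℕ) :
    sumAt (T.triList a b c) u = 0 := by
  refine isZero_spec ?_ u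
  unfold Tab.derivOK at h
  unfold Tab.triList
  simp only at h
  generalize push (T.br a) (T.br b c) = L1 at h ⊢
  generalize push (T.br b) (T.br a c) = L2 at h ⊢
  generalize push (fun u => T.br u c) (T.br a b) = L3 at h ⊢
  cases hemp : L1.isEmpty && L2.isEmpty && L3.isEmpty with
  | true =>
    simp only [Bool.and_eq_true, List.isEmpty_iff] at hemp
    rw [hemp.1.1, hemp.1.2, hemp.2]
    rfl
  | false => simpa [hemp] using h

theorem derivZero_of_chk (h : T.chkDeriv = true) : T.DerivZero := by
  intro i hi
  have := allBelow_spec h i hi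
  simp only [Bool.and_eq_true] at this
  exact ⟨fun b hb c hc u => derivOK_spec (allBelow_spec (allBelow_spec this.1 b hb) c hc) u,
    fun b hb c hc u => derivOK_spec (allBelow_spec (allBelow_spec this.2 b hb) c hc) u⟩

theorem slot_eq (w i : ℕ) : slot w i = w / 2 ^ (16 * i) % 2 ^ 16 := by
  show (w >>> (16 * i)) &&& (2 ^ 16 - 1) = _
  rw [Nat.and_two_pow_sub_one_eq_mod, Nat.shiftRight_eq_div_pow]

theorem low_bound {x i : ℕ} (h : ∀ j < i, slot x j < 32768) :
    2 * (x % 2 ^ (16 * i)) < 2 * 2 ^ (16 * i) ∧ (0 < i → 2 * (x % 2 ^ (16 * i)) < 2 ^ (16 * i)) := by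
  refine ⟨by have := Nat.mod_lt x (Nat.two_pow_pos (16 * i)); omega, fun hi => ?_⟩
  obtain ⟨k, rfl⟩ : ∃ k, i = k + 1 := ⟨i - 1, by omega⟩
  have hk := h k (by omega)
  rw [slot_eq] at hk
  rw [show 16 * (k + 1) = 16 * k + 16 by ring, pow_add, Nat.mod_mul]
  have h1 := Nat.mod_lt x (Nat.two_pow_pos (16 * k))
  generalize 2 ^ (16 * k) = M at h1 hk ⊢
  generalize x / M % 2 ^ 16 = d at hk ⊢
  have h2 : M * d + M ≤ M * 32768 := by
    have := Nat.mul_le_mul_left M (Nat.succ_le_of_lt hk)
    rwa [Nat.mul_succ] at this
  norm_num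
  omega

theorem slot_add {x y i : ℕ} (hx : ∀ j ≤ i, slot x j < 32768) (hy : ∀ j ≤ i, slot y j < 32768) :
    slot (x + y) i = slot x i + slot y i := by
  have hx' := hx i le_rfl
  have hy' := hy i le_rfl
  rw [slot_eq] at hx' hy' ⊢
  rw [slot_eq, slot_eq]
  have hcarry : x % 2 ^ (16 * i) + y % 2 ^ (16 * i) < 2 ^ (16 * i) := by
    rcases Nat.eq_zero_or_pos i with rfl | hi
    · simp [Nat.mod_one]
    · have h1 := (low_bound (x := x) (i := i) fun j hj => hx j hj.le).2 hi
      have h2 := (low_bound (x := y) (i := i) fun j hj => hy j hj.le).2 hi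
      omega
  rw [Nat.add_div_eq_of_add_mod_lt hcarry, Nat.add_mod, Nat.mod_eq_of_lt]
  omega

include hA

variable (hC : T.chkChain D = true) (hP : T.chkPairs = true)
include hC hP

omit hC in
theorem pair_ok {r s : ℕ} (hr : r < D.nroots) (hs : s < D.nroots) : T.pairOK r s = true := by
  rw [nroots_eq hA] at hr hs
  exact allBelow_spec (allBelow_spec hP r hr) s hs

omit hC in
theorem ent_spec {r s : ℕ} (hr : r < D.nroots) (hs : s < D.nroots) (h : T.ent r s ≠ 0) :
    T.ent r s / 16 < D.nroots ∧ T.ent r s / 16 ≠ r ∧ T.ent r s / 16 ≠ T.neg r ∧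
    T.nn r s ≠ 0 ∧ s ≠ r ∧ s ≠ T.neg r ∧ T.tg s r = T.tg r s ∧ T.nn s r = -T.nn r s ∧
    T.stepsOK r 1 (T.gen r s) = true ∧
    T.cos.get (T.ent r s / 16) + T.off = T.cos.get r + T.cos.get s := by
  have := pair_ok hA hP hr hs
  simp only [Tab.pairOK, beq_eq_false_iff_ne.2 h, cond_false, Bool.and_eq_true,
    Bool.not_eq_true', beq_eq_false_iff_ne, beq_iff_eq, Nat.blt_eq] at this
  obtain ⟨⟨⟨⟨⟨⟨⟨⟨⟨h1, h2⟩, h3⟩, h4⟩, h5⟩, h6⟩, h7⟩, h8⟩, h9⟩, h10⟩ := this
  refine ⟨by rw [nroots_eq hA]; exact h1, fun e => ?_, fun e => ?_, h4, fun e => ?_, fun e => ?_,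
    h7, h8, h9, Nat.eq_of_beq_eq_true h10⟩
  · simp [e] at h2
  · simp [e] at h3
  · simp [e] at h5
  · simp [e] at h6

omit hC in
theorem tg_lt {r s u : ℕ} (hr : r < D.nroots) (hs : s < D.nroots) (h : T.tg r s = some u) :
    u < D.nroots := by
  by_cases h0 : T.ent r s = 0
  · simp [Tab.tg, h0] at h
  · rw [tg_of_ne h0, Option.some.injEq] at h
    exact h ▸ (ent_spec hA hP hr hs h0).1

omit hC in
theorem go_lt {r : ℕ} (hr : r < D.nroots) : ∀ fuel i u (c : ℤ), u < D.nroots →
    ∀ q ∈ T.go r fuel i u c, q.1 < D.nroots := by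
  intro fuel
  induction fuel with
  | zero => intro i u c _ q hq; simp [Tab.go] at hq
  | succ f ih =>
    intro i u c hu q hq
    by_cases h0 : T.ent r u = 0
    · simp [Tab.go, h0] at hq
    · rw [Tab.go, beq_eq_false_iff_ne.2 h0, cond_false, List.mem_cons] at hq
      rcases hq with rfl | hq
      · exact (ent_spec hA hP hr hu h0).1
      · exact ih _ _ _ (ent_spec hA hP hr hu h0).1 q hq

omit hC in
theorem bounded_br {a b : ℕ} (ha : a < D.rank + D.nroots) (hb : b < D.rank + D.nroots) :
    Bounded D (T.br a b) := by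
  have hl := rank_eq hA
  intro p hp
  unfold Tab.br at hp
  by_cases h1 : a < T.rank
  · by_cases h2 : b < T.rank
    · simp [blt_iff.2 h1, blt_iff.2 h2] at hp
    · rw [blt_iff.2 h1, Bool.eq_false_iff.2 (mt blt_iff.1 h2)] at hp
      simp at hp; subst hp; exact hb
  · rw [Bool.eq_false_iff.2 (mt blt_iff.1 h1)] at hp
    by_cases h2 : b < T.rank
    · rw [blt_iff.2 h2] at hp
      simp at hp; subst hp; exact ha
    · rw [Bool.eq_false_iff.2 (mt blt_iff.1 h2)] at hp
      simp only [cond_false] at hp
      by_cases h3 : b - T.rank = T.neg (a - T.rank)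
      · simp [h3] at hp
        obtain ⟨i, hi, rfl⟩ := hp
        show i < _
        omega
      · rw [Bool.eq_false_iff.2 (mt Nat.eq_of_beq_eq_true h3)] at hp
        simp only [cond_false] at hp
        by_cases h4 : T.ent (a - T.rank) (b - T.rank) = 0
        · simp [h4] at hp
        · rw [beq_eq_false_iff_ne.2 h4] at hp; simp at hp
          subst hp
          have := (ent_spec hA hP (r := a - T.rank) (s := b - T.rank) (by omega) (by omega) h4).1
          show T.rank + _ < _
          omega

theorem adB_apply (a row col : D.Idx) :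
    adB D a row col = sumAt (T.br (enc D a) (enc D col)) (enc D row) := by
  have hl := rank_eq hA
  rcases a with i | r
  · have h1 : Nat.blt i.val T.rank = true := blt_iff.2 (hl ▸ i.isLt)
    simp only [adB, Sum.elim_inl, adCoroot, Matrix.diagonal_apply, Tab.br, h1, enc_inl, enc_inr, cond_true]
    rcases col with j | s
    · have h2 : Nat.blt j.val T.rank = true := blt_iff.2 (hl ▸ j.isLt)
      simp only [enc_inl, Sum.elim_inl, h2, cond_true, sumAt_nil]
      rcases row with j' | u <;> simp
    · have h2 : Nat.blt (D.rank + s.val) T.rank = false :=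
        Bool.eq_false_iff.2 (mt blt_iff.1 (by omega))
      simp only [enc_inr, Sum.elim_inr, h2, cond_false, sumAt_cons, sumAt_nil, add_zero]
      rcases row with j' | u
      · simp only [enc_inl, reduceCtorEq, if_false, Sum.elim_inl]
        exact (if_neg (by omega)).symm
      · simp only [enc_inr, Sum.inr.injEq, Fin.ext_iff, Sum.elim_inr, add_right_inj,
          cartan_eq hA i.isLt u.isLt]
        by_cases h : u.val = s.val
        · rw [if_pos h, if_pos h.symm, h, ← hl, Nat.add_sub_cancel_left]
        · rw [if_neg h, if_neg (Ne.symm h)]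
  · have h1 : Nat.blt (D.rank + r.val) T.rank = false :=
      Bool.eq_false_iff.2 (mt blt_iff.1 (by omega))
    simp only [adB, Sum.elim_inr, adRoot, Matrix.of_apply, Tab.br, h1, enc_inl, enc_inr, cond_false]
    rcases col with j | s
    · have h2 : Nat.blt j.val T.rank = true := blt_iff.2 (hl ▸ j.isLt)
      simp only [enc_inl, Sum.elim_inl, h2, cond_true, sumAt_cons, sumAt_nil, add_zero]
      rcases row with j' | u
      · simp only [enc_inl, Sum.elim_inl]; exact (if_neg (by omega)).symm
      · simp only [enc_inr, Sum.elim_inr, add_right_inj, ← hl, Nat.add_sub_cancel_left,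
          cartan_eq hA j.isLt r.isLt]
        by_cases h : u.val = r.val
        · rw [if_pos h, if_pos h.symm]
        · rw [if_neg h, if_neg (Ne.symm h)]
    · have h2 : Nat.blt (D.rank + s.val) T.rank = false :=
        Bool.eq_false_iff.2 (mt blt_iff.1 (by omega))
      have hr' : D.rank + r.val - T.rank = r.val := by omega
      have hs' : D.rank + s.val - T.rank = s.val := by omega
      simp only [enc_inr, Sum.elim_inr, h2, cond_false, hr', hs', neg_eq hA r.isLt,
        tgt_eq hA hC r.isLt s.isLt, str_eq hA hC r.isLt s.isLt]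
      by_cases hsn : s.val = T.neg r.val
      · have h0 : T.ent r.val s.val = 0 := by
          by_contra h0
          exact (ent_spec hA hP r.isLt s.isLt h0).2.2.2.2.2.1 hsn
        simp only [hsn, Nat.beq_refl, cond_true, if_true]
        rw [← hsn]
        rcases row with i | u
        · simp only [enc_inl, Sum.elim_inl]
          rw [cor_eq hA r.isLt i.isLt, ← hl]
          have key : ∀ n : ℕ, sumAt ((List.range n).map fun k => (k, T.cc r.val k)) i.val =
              if i.val < n then T.cc r.val i.val else 0 := by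
            intro n
            induction n with
            | zero => simp [sumAt]
            | succ n ih =>
              rw [List.range_succ, List.map_append, sumAt_append, ih, List.map_singleton,
                sumAt_cons, sumAt_nil, add_zero]
              split_ifs <;> (try omega) <;> simp_all
          simp [key, hsn]
        · simp only [enc_inr, tg_of_eq h0, reduceCtorEq, if_false]
          symm
          have : ((List.range T.rank).map fun k => (k, T.cc r.val k)).filter
              (fun p => Nat.beq p.1 (D.rank + u.val)) = [] := by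
            rw [List.filter_eq_nil_iff]
            intro p hp hpu
            obtain ⟨k, hk, rfl⟩ := List.mem_map.1 hp
            rw [List.mem_range] at hk
            have := Nat.eq_of_beq_eq_true hpu
            omega
          simp [tgt_eq hA hC r.isLt s.isLt, str_eq hA hC r.isLt s.isLt, tg_of_eq h0, nn_of_eq h0, sumAt, this]
      · rw [Bool.eq_false_iff.2 (mt Nat.eq_of_beq_eq_true hsn)]
        simp only [cond_false]
        by_cases h0 : T.ent r.val s.val = 0
        · rcases row with i | u <;> simp [tgt_eq hA hC r.isLt s.isLt, str_eq hA hC r.isLt s.isLt, h0, tg_of_eq h0, nn_of_eq h0, sumAt_nil, hsn]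
        · rcases row with i | u
          · simp [h0, beq_eq_false_iff_ne.2 h0, enc_inl, sumAt_cons, sumAt_nil, hsn]; omega
          · simp [h0, beq_eq_false_iff_ne.2 h0, tgt_eq hA hC r.isLt s.isLt, str_eq hA hC r.isLt s.isLt, enc_inr, sumAt_cons, sumAt_nil, tg_of_ne h0, hl]

theorem adRoot_apply {r : ℕ} (hr : r < D.nroots) (row col : D.Idx) :
    adRoot D r row col = sumAt (T.br (T.rank + r) (enc D col)) (enc D row) := by
  rw [← rank_eq hA]
  exact adB_apply hA hC hP (Sum.inr ⟨r, hr⟩) row col

theorem deriv_of_zero {r : ℕ} (hr : r < D.nroots) (h : T.DerivZeroAt r) (b : D.Idx) :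
    adRoot D r * adB D b - adB D b * adRoot D r = adV D (fun x => adRoot D r x b) := by
  have hl := rank_eq hA
  have hn := nroots_eq hA
  ext row col
  have e := h (enc D b) (by rw [← hl, ← hn]; exact enc_lt b)
    (enc D col) (by rw [← hl, ← hn]; exact enc_lt col) (enc D row)
  rw [Tab.triList] at e
  rw [sumAt_append, sumAt_append, sumAt_scale, sumAt_scale] at e
  have hra : T.rank + r < D.rank + D.nroots := by omega
  rw [Matrix.sub_apply,
    mul_apply_push (bounded_br hA hP (enc_lt b) (enc_lt col)) _ _ (T.br (T.rank + r)) row col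
      (fun x => adRoot_apply hA hC hP hr row x) (fun x => adB_apply hA hC hP b x col),
    mul_apply_push (bounded_br hA hP hra (enc_lt col)) _ _ (T.br (enc D b)) row col
      (fun x => adB_apply hA hC hP b row x) (fun x => adRoot_apply hA hC hP hr x col)]
  have e3 : adV D (fun x => adRoot D r x b) row col =
      sumAt (push (fun u => T.br u (enc D col)) (T.br (T.rank + r) (enc D b))) (enc D row) := by
    rw [← sum_vec_mul_push (bounded_br hA hP hra (enc_lt b)), adV]
    simp only [Matrix.sum_apply, Matrix.smul_apply, smul_eq_mul, vec,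
      adRoot_apply hA hC hP hr, adB_apply hA hC hP]
  rw [e3]; omega

theorem divPow_apply {r : ℕ} (hr : r < D.nroots) (k : ℕ) (row col : D.Idx) :
    divPow D r k row col = sumAt (T.dpow r k (enc D col)) (enc D row) := by
  have hl := rank_eq hA
  match k with
  | 0 =>
    simp only [divPow, Tab.dpow, sumAt_cons, sumAt_nil, add_zero, Matrix.one_apply]
    by_cases h : row = col
    · subst h; simp
    · rw [if_neg h, if_neg fun e => h (enc_injective e).symm]
  | 1 => exact adRoot_apply hA hC hP hr row col
  | k + 2 =>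
    simp only [divPow, Tab.dpow, Matrix.of_apply]
    rcases col with j | s
    · have h2 : Nat.blt j.val T.rank = true := blt_iff.2 (hl ▸ j.isLt)
      rcases row with i | u <;> simp [enc_inl, h2, sumAt_nil]
    · have h2 : Nat.blt (D.rank + s.val) T.rank = false :=
        Bool.eq_false_iff.2 (mt blt_iff.1 (by omega))
      have hs' : D.rank + s.val - T.rank = s.val := by omega
      simp only [enc_inr, Sum.elim_inr, h2, cond_false, hs', neg_eq hA hr]
      by_cases hsn : s.val = T.neg r
      · simp only [hsn, Nat.beq_refl, cond_true, if_true]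
        rcases row with i | u
        · by_cases hk : k = 0
          · simp [hk, enc_inl, sumAt_cons, sumAt_nil]; omega
          · simp [hk, sumAt_nil]
        · by_cases hk : k = 0
          · simp [hk, hsn, enc_inr, sumAt_cons, sumAt_nil, hl, eq_comm]
          · simp [hk, hsn, sumAt_nil]
      · rw [Bool.eq_false_iff.2 (mt Nat.eq_of_beq_eq_true hsn)]
        simp only [cond_false, hsn, if_false]
        simp only [ChevalleyDatum.chainRoot, ChevalleyDatum.chainM,
          chainEntry_eq hA hC hr s.isLt, show k + 2 - 1 = k + 1 from rfl]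
        rcases hg : (T.gen r s.val)[k + 1]? with - | ⟨v, m⟩
        · rcases row with i | u <;> simp [chainEntry_eq hA hC hr s.isLt, hg, hsn, sumAt_nil]
        · rcases row with i | u
          · simp [enc_inl, sumAt_cons, sumAt_nil]; omega
          · simp [chainEntry_eq hA hC hr s.isLt, hg, hsn, enc_inr, sumAt_cons, sumAt_nil, hl]

omit hC in
theorem bounded_dpow {r b : ℕ} (hr : r < D.nroots) (hb : b < D.rank + D.nroots) (k : ℕ) :
    Bounded D (T.dpow r k b) := by
  have hl := rank_eq hA
  match k with
  | 0 => intro p hp; simp [Tab.dpow] at hp; subst hp; exact hb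
  | 1 => exact bounded_br hA hP (by omega) hb
  | k + 2 =>
    intro p hp
    simp only [Tab.dpow] at hp
    by_cases h1 : b < T.rank
    · simp [blt_iff.2 h1] at hp
    · rw [Bool.eq_false_iff.2 (mt blt_iff.1 h1)] at hp
      simp only [cond_false] at hp
      by_cases h3 : b - T.rank = T.neg r
      · simp only [h3, Nat.beq_refl, cond_true] at hp
        split_ifs at hp
        · simp at hp; subst hp; show _ + _ < _; omega
        · simp at hp
      · rw [Bool.eq_false_iff.2 (mt Nat.eq_of_beq_eq_true h3)] at hp
        simp only [cond_false] at hp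
        rcases hg : (T.gen r (b - T.rank))[k + 1]? with - | ⟨v, m⟩
        · rw [hg] at hp; simp at hp
        · rw [hg] at hp; simp at hp; subst hp
          have key := go_lt hA hP hr
          have := key 3 1 (b - T.rank) 1 (by omega) (v, m) (List.mem_of_getElem? hg)
          show T.rank + v < _
          simp only at this
          omega

theorem xcol_apply {r : ℕ} (hr : r < D.nroots) (t : ℤ) (row col : D.Idx) :
    (∑ k ∈ Finset.range 4, t ^ k • divPow D r k) row col =
      sumAt (T.xcol r t (enc D col)) (enc D row) := by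
  rw [Tab.xcol, sumAt_flatMap, Matrix.sum_apply, ← List.toFinset_range,
    List.sum_toFinset _ List.nodup_range]
  simp [sumAt_scale, Matrix.smul_apply, divPow_apply hA hC hP hr]

omit hC in
theorem bounded_xcol {r b : ℕ} (hr : r < D.nroots) (hb : b < D.rank + D.nroots) (t : ℤ) :
    Bounded D (T.xcol r t b) := by
  intro p hp
  obtain ⟨k, -, hp⟩ := List.mem_flatMap.1 hp
  exact bounded_scale (bounded_dpow hA hP hr hb k) _ p hp

theorem nProd_apply {i : ℕ} (hi : i < D.rank) (row col : D.Idx) :
    nProd D i row col = sumAt (T.ncol i (enc D col)) (enc D row) := by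
  have hp := (simple_bounds hA hi).2
  have hnp : T.neg (D.simple i) < D.nroots := by rw [Tab.neg, ← nroots_eq hA]; omega
  have hb1 := bounded_xcol hA hP hp (enc_lt col) (1 : ℤ)
  rw [nProd, Tab.ncol, neg_eq hA hp, ← simple_eq hA hi]
  have e1 : ∀ a b, (∑ k ∈ Finset.range 4, divPow D (D.simple i) k) a b =
      sumAt (T.xcol (D.simple i) 1 (enc D b)) (enc D a) := fun a b => by
    rw [← xcol_apply hA hC hP hp]; simp
  rw [Matrix.mul_assoc]
  exact mul_apply_push (bounded_push fun q hq => bounded_xcol hA hP hnp (hb1 q hq) _) _ _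
    (T.xcol (D.simple i) 1) row col (fun x => e1 row x)
    (fun x => mul_apply_push hb1 _ _ (T.xcol (T.neg (D.simple i)) (-1)) x col
      (fun y => xcol_apply hA hC hP hnp (-1) x y) (fun y => e1 y col))

omit hP in
theorem nForm_apply {i : ℕ} (hi : i < D.rank) (row col : D.Idx) :
    nForm D (T.eta i) i row col = sumAt (T.ncolForm i (enc D col)) (enc D row) := by
  have hl := rank_eq hA
  simp only [nForm, Tab.ncolForm, Matrix.of_apply]
  rcases col with j | s
  · have h2 : Nat.blt j.val T.rank = true := blt_iff.2 (hl ▸ j.isLt)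
    simp only [enc_inl, Sum.elim_inl, h2, cond_true, sumAt_cons, sumAt_nil, add_zero]
    rcases row with j' | u
    · have e := cartan_eq hA j.isLt (simple_bounds hA hi).2
      rw [simple_eq hA hi] at e ⊢
      simp only [enc_inl, Sum.elim_inl, e, Fin.ext_iff]
      split_ifs <;> omega
    · simp only [enc_inr, Sum.elim_inr]; split_ifs <;> omega
  · have h2 : Nat.blt (D.rank + s.val) T.rank = false :=
      Bool.eq_false_iff.2 (mt blt_iff.1 (by omega))
    have hs' : D.rank + s.val - T.rank = s.val := by omega
    simp only [enc_inr, Sum.elim_inr, h2, cond_false, sumAt_cons, sumAt_nil, add_zero, hs',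
      reflect_eq hA hC hi s.isLt]
    rcases row with j' | u
    · simp only [enc_inl, Sum.elim_inl]; exact (if_neg (by omega)).symm
    · simp only [enc_inr, Sum.elim_inr, ← hl, add_right_inj, reflect_eq hA hC hi s.isLt]
      by_cases h : u.val = T.refl i s.val
      · rw [if_pos h, if_pos h.symm]
      · rw [if_neg h, if_neg (Ne.symm h)]

omit hP in
theorem isGen_iff {a : ℕ} : IsGen D a ↔ T.isGenB a = true := by
  have hl := rank_eq hA
  constructor
  · rintro ⟨i, hi, h⟩
    refine anyBelow_of (i := i) (hl ▸ hi) ?_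
    have hs := (simple_bounds hA hi).2
    rw [neg_eq hA hs, simple_eq hA hi] at h
    rcases h with h | h <;> simp [h]
  · intro h
    obtain ⟨i, hi, h⟩ := anyBelow_spec h
    refine ⟨i, by omega, ?_⟩
    rw [simple_eq hA (by omega), neg_eq hA (by
      rw [← simple_eq hA (by omega)]; exact (simple_bounds hA (by omega)).2)]
    simp only [Bool.or_eq_true] at h
    rcases h with h | h
    · exact Or.inl (Nat.eq_of_beq_eq_true h)
    · exact Or.inr (Nat.eq_of_beq_eq_true h)

theorem short_of_chk (hS : T.chkShort = true) : ShortChains D := by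
  have hn := nroots_eq hA
  have key : ∀ r < D.nroots, ∀ s < D.nroots, T.ent r s ≠ 0 →
      (T.gen r s).length ≤ 2 ∧ ((T.gen r s).length = 2 → (T.gen s r).length ≤ 1) ∧
      ((T.gen s r).length ≤ 1 → ∀ a ∈ s :: (T.gen r s).map Prod.fst,
        ∀ b ∈ s :: (T.gen r s).map Prod.fst, T.ent a b = 0 ∧ b ≠ T.neg a) := by
    intro r hr s hs h0
    have := allBelow_spec (allBelow_spec hS r (hn ▸ hr)) s (hn ▸ hs)
    simp only [Tab.shortOK, beq_eq_false_iff_ne.2 h0, cond_false, Bool.and_eq_true,
      Nat.ble_eq] at this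
    refine ⟨this.1.1, fun h2 => ?_, fun h1 a ha b hb => ?_⟩
    · have h3 := this.1.2; simpa [h2] using h3
    · have h3 := this.2
      rw [ble_iff.2 h1] at h3
      simp only [cond_true, List.all_eq_true] at h3
      have := h3 a ha b hb
      simp only [Bool.and_eq_true, Bool.not_eq_true'] at this
      exact ⟨Nat.eq_of_beq_eq_true this.1, fun e => by simp [e] at this⟩
  have gen0 : ∀ r s, T.ent r s = 0 → T.gen r s = [] := fun r s h => by simp [Tab.gen, Tab.go, h]
  have bnd : ∀ r < D.nroots, ∀ s < D.nroots, ∀ a ∈ s :: (T.gen r s).map Prod.fst, a < D.nroots := by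
    intro r hr s hs a ha
    rcases List.mem_cons.1 ha with rfl | ha
    · exact hs
    · obtain ⟨q, hq, rfl⟩ := List.mem_map.1 ha
      have key := go_lt hA hP hr
      exact key 3 1 s 1 hs q hq
  refine ⟨fun r hr s hs => ?_, fun r hr s hs h => ?_, fun r hr s hs h a ha b hb => ?_⟩
  · rw [chainEntry_eq hA hC hr hs]
    by_cases h0 : T.ent r s = 0
    · simp [gen0 r s h0]
    · exact (key r hr s hs h0).1
  · rw [chainEntry_eq hA hC hr hs] at h
    rw [chainEntry_eq hA hC hs hr]
    by_cases h0 : T.ent r s = 0
    · simp [gen0 r s h0] at h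
    · exact (key r hr s hs h0).2.1 h
  · rw [chainEntry_eq hA hC hs hr] at h
    rw [chainEntry_eq hA hC hr hs] at ha hb
    by_cases h0 : T.ent r s = 0
    · simp [gen0 r s h0] at ha hb
      subst ha hb
      rw [tgt_eq hA hC hs hs, neg_eq hA hs]
      refine ⟨?_, ?_⟩
      · have : T.ent b b = 0 := by
          by_contra h1
          exact (ent_spec hA hP hs hs h1).2.2.2.2.1 rfl
        simp [Tab.tg, this]
      · rw [Tab.neg, ← hn]
        intro e
        have he := hA
        simp only [Tab.chkArrays, Bool.and_eq_true] at he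
        have := Nat.eq_of_beq_eq_true he.1.1.1.1.1.2
        omega
    · have := (key r hr s hs h0).2.2 h a ha b hb
      have ha' := bnd r hr s hs a ha
      have hb' := bnd r hr s hs b hb
      rw [tgt_eq hA hC ha' hb', neg_eq hA ha']
      exact ⟨by simp [Tab.tg, this.1], this.2⟩

theorem facts_of_chk (hR : T.chkRoots = true) (hW : T.chkRefl = true)
    (hDe : T.DerivZero) (hN : T.chkNMat = true) : Facts D T.co := by
  have hl := rank_eq hA
  have hn := nroots_eq hA
  have negb : ∀ r < D.nroots, T.neg r < D.nroots := fun r hr => by rw [Tab.neg, ← hn]; omega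
  have hA' := hA
  simp only [Tab.chkArrays, Bool.and_eq_true] at hA'
  have hR0 := hR
  simp only [Tab.chkRoots, Bool.and_eq_true] at hR0
  have hR' : ∀ r < D.nroots, _ := fun r hr => allBelow_spec hR0.1 r (hn ▸ hr)
  simp only [Bool.and_eq_true] at hR'
  have hW' : ∀ s < D.nroots, _ := fun s hs => allBelow_spec hW s (hn ▸ hs)
  simp only [Bool.and_eq_true] at hW'
  have hRi : ∀ r < D.nroots, ∀ i < D.rank, _ :=
    fun r hr i hi => allBelow_spec (hR' r hr).1.1.1.1.1.2 i (hl ▸ hi)
  simp only [Bool.and_eq_true, beq_iff_eq] at hRi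
  have hWi : ∀ s < D.nroots, ∀ i < D.rank, _ :=
    fun s hs i hi => allBelow_spec (hW' s hs).1 i (hl ▸ hi)
  simp only [Bool.and_eq_true, Nat.blt_eq] at hWi
  have hRc : ∀ r < D.nroots, ∀ i < D.rank, _ :=
    fun r hr i hi => allBelow_spec (hR' r hr).1.1.1.1.2 i (hl ▸ hi)
  simp only [Bool.and_eq_true, beq_iff_eq, blt_iff] at hRc
  have hcoadd : ∀ r < D.nroots, ∀ s < D.nroots, T.ent r s ≠ 0 → ∀ i < D.rank,
      T.co (T.ent r s / 16) i = T.co r i + T.co s i := by
    intro r hr s hs h i hi
    obtain ⟨h1, -, -, -, -, -, -, -, -, h10⟩ := ent_spec hA hP hr hs h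
    have hb : ∀ v < D.nroots, ∀ j ≤ i, slot (T.cos.get v) j < 32768 :=
      fun v hv j hj => (hRc v hv j (by omega)).1.1
    have ho : ∀ j ≤ i, slot T.off j = 32 :=
      fun j hj => Nat.eq_of_beq_eq_true (hRc r hr j (by omega)).1.2
    have e1 := slot_add (hb _ h1) (fun j hj => by rw [ho j hj]; omega)
    have e2 := slot_add (hb r hr) (hb s hs)
    rw [h10, e2, ho i le_rfl] at e1
    simp only [Tab.co, Int.ofNat_eq_natCast]
    omega
  have hlsum : ∀ f : ℕ → ℤ, ∑ i ∈ Finset.range D.rank, f i =
      ((List.range T.rank).map f).sum := fun f => by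
    rw [← hl, ← List.toFinset_range, List.sum_toFinset _ List.nodup_range]
  refine
    { rank_pos := by rw [hl]; exact blt_iff.1 hA'.1.1.1.1.1.1.2
      nroots_even := by rw [hn]; exact Nat.eq_of_beq_eq_true hA'.1.1.1.1.1.2
      neg_eq := fun r hr => by rw [neg_eq hA hr, Tab.neg, hn]
      simple_lt := fun i hi => simple_bounds hA hi
      keys_nodup := fun r hr => keys_nodup hA hC hr
      chain_len := fun r hr s hs => by rw [chainEntry_eq hA hC hr hs]; exact go_length r 3 _ _ _
      tgt_self := ?_, tgt_spec := ?_, chain_succ := ?_, chain_mul := ?_, tgt_symm := ?_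
      cor_pair := ?_, cor_neg := ?_, cartan_neg := ?_, cartan_add := ?_
      co_neg := ?_, co_add := ?_, co_simple := ?_, co_nonneg := ?_
      isPos_iff := ?_, isNeg_iff := ?_, cor_supp := ?_, omega_lt := ?_
      deriv := ?_, gen_step := ?_, refl_lt := ?_, refl_invol := ?_, refl_pos := ?_
      refl_neg := ?_, co_refl := ?_, cartan_refl := ?_, cor_refl := ?_, refl_step := ?_
      nProd_eq := ?_ }
  · -- tgt_self
    intro r hr
    rw [neg_eq hA hr, tgt_eq hA hC hr hr, tgt_eq hA hC hr (negb r hr)]
    constructor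
    · have : T.ent r r = 0 := by
        by_contra h; exact (ent_spec hA hP hr hr h).2.2.2.2.1 rfl
      simp [Tab.tg, this]
    · have : T.ent r (T.neg r) = 0 := by
        by_contra h; exact (ent_spec hA hP hr (negb r hr) h).2.2.2.2.2.1 rfl
      simp [Tab.tg, this]
  · -- tgt_spec
    intro r hr s hs k hk
    rw [tgt_eq hA hC hr hs] at hk
    rw [str_eq hA hC hr hs, neg_eq hA hr]
    by_cases h : T.ent r s = 0
    · simp [tg_of_eq h] at hk
    · rw [tg_of_ne h, Option.some.injEq] at hk
      obtain ⟨h1, h2, h3, h4, -⟩ := ent_spec hA hP hr hs h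
      subst hk
      exact ⟨h1, h2, h3, h4⟩
  · -- chain_succ
    intro r hr s hs k hk
    obtain ⟨k, rfl⟩ : ∃ k', k = k' + 1 := ⟨k - 1, by omega⟩
    simp only [ChevalleyDatum.chainRoot, chainEntry_eq hA hC hr hs, Nat.add_sub_cancel]
    by_cases h : T.ent r s = 0
    · simp [Tab.gen, Tab.go, h]
    · have hst := (ent_spec hA hP hr hs h).2.2.2.2.2.2.2.2.1
      rcases hk' : (T.gen r s)[k]? with - | ⟨u, m⟩
      · rw [List.getElem?_eq_none_iff] at hk'
        simp [List.getElem?_eq_none (show (T.gen r s).length ≤ k + 1 by omega)]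
      · simp only [Option.map_some, Option.bind_some]
        rw [(steps_spec _ 1 hst k u m hk').1, tgt_eq hA hC hr]
        have key := go_lt hA hP hr
        exact key 3 1 s 1 hs (u, m) (List.mem_of_getElem? hk')
  · -- chain_mul
    intro r hr s hs k hk u hu
    obtain ⟨k, rfl⟩ : ∃ k', k = k' + 1 := ⟨k - 1, by omega⟩
    simp only [ChevalleyDatum.chainRoot, ChevalleyDatum.chainM, chainEntry_eq hA hC hr hs,
      Nat.add_sub_cancel] at hu ⊢
    rcases hk' : (T.gen r s)[k]? with - | ⟨u', m⟩
    · simp [hk'] at hu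
    · simp [hk'] at hu
      subst hu
      by_cases h : T.ent r s = 0
      · simp [Tab.gen, Tab.go, h] at hk'
      · have hst := (ent_spec hA hP hr hs h).2.2.2.2.2.2.2.2.1
        have := (steps_spec _ 1 hst k u' m hk').2
        rw [show 1 + k + 1 = k + 1 + 1 by omega] at this
        rw [Option.map_some, Option.getD_some, this]
        congr 1
        have key := go_lt hA hP hr
        exact (str_eq hA hC hr (key 3 1 s 1 hs (u', m) (List.mem_of_getElem? hk'))).symm
  · -- tgt_symm
    intro r hr s hs
    rw [tgt_eq hA hC hr hs, tgt_eq hA hC hs hr, str_eq hA hC hr hs, str_eq hA hC hs hr]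
    by_cases h : T.ent r s = 0
    · have := pair_ok hA hP hr hs
      simp [Tab.pairOK, h] at this
      simp [Tab.tg, Tab.nn, h, this]
    · obtain ⟨-, -, -, -, -, -, h7, h8, -⟩ := ent_spec hA hP hr hs h
      exact ⟨h7, h8⟩
  · -- cor_pair
    intro r hr
    rw [hlsum]
    have := beq_iff_eq.1 (hR' r hr).1.1.1.1.1.1
    rw [← this]
    refine congrArg List.sum (List.map_congr_left fun i hi => ?_)
    rw [List.mem_range, ← hl] at hi
    rw [cor_eq hA hr hi, cartan_eq hA hi hr]
  · intro r hr i hi
    rw [neg_eq hA hr, cor_eq hA (negb r hr) hi, cor_eq hA hr hi]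
    exact (hRi r hr i hi).1.1.1.1
  · intro r hr i hi
    rw [neg_eq hA hr, cartan_eq hA hi (negb r hr), cartan_eq hA hi hr]
    exact (hRi r hr i hi).1.1.1.2
  · intro r hr s hs k hk i hi
    rw [tgt_eq hA hC hr hs] at hk
    by_cases h : T.ent r s = 0
    · simp [tg_of_eq h] at hk
    · rw [tg_of_ne h, Option.some.injEq] at hk
      have h1 := (ent_spec hA hP hr hs h).1
      subst hk
      rw [cartan_eq hA hi h1, cartan_eq hA hi hr, cartan_eq hA hi hs, (hRc _ h1 i hi).2,
        (hRc r hr i hi).2, (hRc s hs i hi).2, ← List.sum_map_add]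
      refine congrArg List.sum (List.map_congr_left fun j hj => ?_)
      rw [List.mem_range, ← hl] at hj
      rw [hcoadd r hr s hs h j hj, add_mul]
  · intro r hr i hi
    rw [neg_eq hA hr]
    exact (hRi r hr i hi).1.1.2
  · intro r hr s hs k hk i hi
    rw [tgt_eq hA hC hr hs] at hk
    by_cases h : T.ent r s = 0
    · simp [tg_of_eq h] at hk
    · rw [tg_of_ne h, Option.some.injEq] at hk
      subst hk
      exact hcoadd r hr s hs h i hi
  · intro i hi j hj
    have := allBelow_spec (allBelow_spec hR0.2 i (hl ▸ hi)) j (hl ▸ hj)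
    rw [simple_eq hA hi]; simpa using this
  · intro r hr hpos i hi
    have h := (hRi r hr i hi).1.2
    rw [ble_iff.2 (hn ▸ hpos)] at h
    simpa using h
  · intro r hr
    have := beq_iff_eq.1 (hR' r hr).1.1.1.2
    rw [hn, ← Nat.ble_eq, ← this, ChevalleyDatum.IsPosRoot, coroot_row hA hr]
    simp [hr]
  · intro r hr
    have := beq_iff_eq.1 (hR' r hr).1.1.2
    rw [hn, ← Nat.blt_eq, ← this, ChevalleyDatum.IsNegRoot, coroot_row hA hr]
    simp [hr]
  · intro r hr j hj
    have := (hRi r hr j hj).2
    rw [cor_eq hA hr hj]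
    simpa using this
  · intro r hr
    have := (hR' r (by omega)).1.2
    rw [blt_iff.2 (hn ▸ hr)] at this
    simpa [omega, Tab.omg, hl] using of_decide_eq_true this
  · intro a ha b
    obtain ⟨i, hi, h⟩ := ha
    have hs := (simple_bounds hA hi).2
    rw [neg_eq hA hs] at h
    have hz := hDe i (hl ▸ hi)
    rcases h with rfl | rfl
    · exact deriv_of_zero hA hC hP hs (by rw [simple_eq hA hi]; exact hz.1) b
    · exact deriv_of_zero hA hC hP (negb _ hs) (by rw [simple_eq hA hi]; exact hz.2) b
  · intro r hr hgen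
    have hg : T.isGenB r = false := Bool.eq_false_iff.2 (fun h => hgen ((isGen_iff hA hC).2 h))
    have := (hR' r hr).2
    rw [hg, cond_false] at this
    obtain ⟨i, hi, h⟩ := anyBelow_spec this
    rw [← hl] at hi
    have hs := (simple_bounds hA hi).2
    have hsi := simple_eq hA hi
    have fin : ∀ a, IsGen D a → a < D.nroots → (match T.tg (T.neg a) r with
        | none => false
        | some s => Nat.blt s T.nroots && (T.tg a s == some r) &&
            (bif Nat.ble (T.nroots / 2) r then Nat.ble (T.nroots / 2) s && Nat.blt s r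
              else Nat.blt s (T.nroots / 2) && Nat.blt r s)) = true →
        ∃ a s, IsGen D a ∧ s < D.nroots ∧ tgt D a s = some r ∧
          ((D.nroots / 2 ≤ r → D.nroots / 2 ≤ s ∧ s < r) ∧
            (r < D.nroots / 2 → s < D.nroots / 2 ∧ r < s)) := by
      intro a hga ha hm
      rcases ht : T.tg (T.neg a) r with - | s
      · simp [ht] at hm
      · simp only [ht, Bool.and_eq_true, Nat.blt_eq, beq_iff_eq] at hm
        refine ⟨a, s, hga, hn ▸ hm.1.1, by rw [tgt_eq hA hC ha (hn ▸ hm.1.1)]; exact hm.1.2,
          fun hp => ?_, fun hp => ?_⟩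
        · have h2 := hm.2
          rw [ble_iff.2 (hn ▸ hp)] at h2
          simpa [hn] using h2
        · have h2 := hm.2
          rw [Bool.eq_false_iff.2 (mt ble_iff.1 (by omega))] at h2
          simpa [hn] using h2
    simp only [Bool.or_eq_true] at h
    rcases h with h | h
    · exact fin _ ⟨i, hi, Or.inl hsi.symm⟩ (hsi ▸ hs) h
    · exact fin _ ⟨i, hi, Or.inr (by rw [neg_eq hA hs, hsi])⟩ (negb _ (hsi ▸ hs)) h
  · intro i hi s hs
    rw [reflect_eq hA hC hi hs, hn]; exact (hWi s hs i hi).1.1.1.1
  · intro i hi s hs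
    have hlt : T.refl i s < D.nroots := hn ▸ (hWi s hs i hi).1.1.1.1
    rw [reflect_eq hA hC hi hs, reflect_eq hA hC hi hlt]
    exact Nat.eq_of_beq_eq_true (hWi s hs i hi).1.1.1.2
  · intro i hi s hs hp hne
    rw [reflect_eq hA hC hi hs]
    have h := (hWi s hs i hi).1.1.2
    rw [simple_eq hA hi] at hne
    rw [ble_iff.2 (hn ▸ hp), Bool.eq_false_iff.2 (mt Nat.eq_of_beq_eq_true hne)] at h
    simpa [hn] using h
  · intro i hi s hs
    have hlt : T.refl i s < D.nroots := hn ▸ (hWi s hs i hi).1.1.1.1
    rw [neg_eq hA hs, reflect_eq hA hC hi (negb s hs), reflect_eq hA hC hi hs, neg_eq hA hlt]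
    exact Nat.eq_of_beq_eq_true (hWi s hs i hi).1.2
  · intro i hi s hs j hj
    rw [reflect_eq hA hC hi hs, cartan_eq hA hi hs]
    have := allBelow_spec (hWi s hs i hi).2 j (hl ▸ hj)
    simp only [Bool.and_eq_true, beq_iff_eq] at this
    exact this.1.1
  · intro i hi s hs j hj
    have hlt : T.refl i s < D.nroots := hn ▸ (hWi s hs i hi).1.1.1.1
    rw [reflect_eq hA hC hi hs, cartan_eq hA hi hs, cartan_eq hA hj hlt, cartan_eq hA hj hs,
      cartan_eq hA hj (simple_bounds hA hi).2, simple_eq hA hi]
    have := allBelow_spec (hWi s hs i hi).2 j (hl ▸ hj)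
    simp only [Bool.and_eq_true, beq_iff_eq] at this
    exact this.1.2
  · intro i hi r hr j hj
    have hlt : T.refl i r < D.nroots := hn ▸ (hWi r hr i hi).1.1.1.1
    rw [reflect_eq hA hC hi hr, cor_eq hA hlt hj, cor_eq hA hr hj, hlsum]
    have := allBelow_spec (hWi r hr i hi).2 j (hl ▸ hj)
    simp only [Bool.and_eq_true, beq_iff_eq] at this
    rw [this.2]
    congr 1
    split_ifs with hij
    · refine congrArg List.sum (List.map_congr_left fun m hm => ?_)
      rw [List.mem_range, ← hl] at hm
      rw [cor_eq hA hr hm, cartan_eq hA hm (simple_bounds hA hi).2, simple_eq hA hi]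
    · rfl
  · intro r hr hp hns
    have h := (hW' r hr).2
    rw [ble_iff.2 (hn ▸ hp)] at h
    simp only [cond_true, Bool.or_eq_true] at h
    rcases h with h | h
    · obtain ⟨i, hi, h⟩ := anyBelow_spec h
      exact absurd (by rw [simple_eq hA (hl ▸ hi)]; exact Nat.eq_of_beq_eq_true h) (hns i (hl ▸ hi))
    · obtain ⟨i, hi, h⟩ := anyBelow_spec h
      refine ⟨i, hl ▸ hi, ?_⟩
      rw [reflect_eq hA hC (hl ▸ hi) hr, hn]
      simpa using h
  · intro i hi
    have := allBelow_spec hN i (hl ▸ hi)
    simp only [Tab.chkNMatAt, Bool.and_eq_true, beq_iff_eq] at this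
    obtain ⟨⟨⟨h1, h2⟩, h3⟩, h4⟩ := this
    have hs := (simple_bounds hA hi).2
    refine ⟨T.eta i, fun s hss => ?_, ?_, ?_, fun s hss => ?_, ?_⟩
    · have := allBelow_spec h3 s (hn ▸ hss)
      simp only [Bool.and_eq_true, Bool.or_eq_true, beq_iff_eq] at this
      exact this.1.1
    · rw [simple_eq hA hi]; exact h1
    · rw [neg_eq hA hs, simple_eq hA hi]; exact h2
    · have := allBelow_spec h3 s (hn ▸ hss)
      simp only [Bool.and_eq_true, Bool.or_eq_true, beq_iff_eq] at this
      rw [reflect_eq hA hC hi hss, cartan_eq hA hi hss, neg_eq hA hss]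
      exact ⟨this.2, this.1.2⟩
    · ext row col
      rw [nProd_apply hA hC hP hi, nForm_apply hA hC hi]
      have := isZero_spec (allBelow_spec h4 (enc D col) (by rw [← hl, ← hn]; exact enc_lt col))
        (enc D row)
      rw [sumAt_append, sumAt_scale] at this
      omega

end Sound

end CfsgLib.Chev.Table
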