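/-
The commutator formula for type G₂, by comparing polynomial coefficients.
-/
import Cfsg.Agent.Lib.Chev.Table
import Cfsg.Agent.Lib.Chev.Comm
import Cfsg.Agent.Lib.Chev.Data.G2

set_option autoImplicit false
set_option Elab.async false

namespace CfsgLib.Chev

open Cfsg.Lie
open Cfsg.Lie CfsgLib.Chev.Table
open scoped Matrix

namespace PolyCheck

/-- A monomial at a coordinate: the coordinate, the two exponents and the coefficient. -/
abbrev Mon : Type := (ℕ × ℕ × ℕ) × ℤ

/-- A letter `x_r(C t^a u^b)`. -/
abbrev Letter : Type := ℕ × ℤ × ℕ × ℕ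

/-- Equality of keys. -/
def keyEq (p q : ℕ × ℕ × ℕ) : Bool :=
  Nat.beq p.1 q.1 && Nat.beq p.2.1 q.2.1 && Nat.beq p.2.2 q.2.2

theorem keyEq_iff {p q : ℕ × ℕ × ℕ} : keyEq p q = true ↔ p = q := by
  constructor
  · intro h
    simp only [keyEq, Bool.and_eq_true] at h
    exact Prod.ext (Nat.eq_of_beq_eq_true h.1.1)
      (Prod.ext (Nat.eq_of_beq_eq_true h.1.2) (Nat.eq_of_beq_eq_true h.2))
  · rintro rfl; simp [keyEq]

/-- The total coefficient at a key. -/
def keySum (L : List Mon) (k : ℕ × ℕ × ℕ) : ℤ :=
  ((L.filter fun p => keyEq p.1 k).map Prod.snd).sum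

/-- All coefficients vanish. -/
def allZero (L : List Mon) : Bool := L.all fun p => keySum L p.1 == 0

/-- The action of one letter. -/
def act (T : Tab) (w : Letter) (L : List Mon) : List Mon :=
  L.flatMap fun p => (List.range 4).flatMap fun k =>
    (T.dpow w.1 k p.1.1).map fun q =>
      ((q.1, p.1.2.1 + k * w.2.2.1, p.1.2.2 + k * w.2.2.2), p.2 * w.2.1 ^ k * q.2)

/-- The action of a word on a coordinate vector. -/
def colW (T : Tab) (W : List Letter) (b : ℕ) : List Mon :=
  W.foldr (act T) [((b, 0, 0), 1)]

/-- Negate. -/
def negL (L : List Mon) : List Mon := L.map fun p => (p.1, -p.2)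

/-- The two sides of the commutator formula. -/
def lhsW (r s : ℕ) : List Letter := [(s, 1, 0, 1), (r, 1, 1, 0)]

/-- The right-hand side. -/
def rhsW (D : ChevalleyDatum) (r s : ℕ) : List Letter :=
  [(r, 1, 1, 0), (s, 1, 0, 1)] ++
    (D.commTerms r s).map fun c => (c.1, c.2.1 * (-1) ^ c.2.2.1, c.2.2.1, c.2.2.2)

/-- The check for one pair. -/
def commOK (D : ChevalleyDatum) (T : Tab) (r s : ℕ) : Bool :=
  Nat.beq s r || Nat.beq s (T.neg r) ||
    (((rhsW D r s).all fun w => Nat.blt w.1 T.nroots) &&
      allBelow (T.rank + T.nroots) fun b =>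
        allZero (colW T (lhsW r s) b ++ negL (colW T (rhsW D r s) b)))

/-- All pairs. -/
def chkComm (D : ChevalleyDatum) (T : Tab) : Bool :=
  allBelow T.nroots fun r => allBelow T.nroots fun s => commOK D T r s

section

variable {D : ChevalleyDatum} {T : Tab} {R : Type*} [CommRing R]

/-- The value of a list of monomials. -/
def evalM (D : ChevalleyDatum) {R : Type*} [CommRing R] (t u : R) (L : List Mon) : D.Idx → R :=
  fun x => (L.map fun p => if p.1.1 = enc D x then (p.2 : R) * t ^ p.1.2.1 * u ^ p.1.2.2 else 0).sum

/-- The parameter of a letter. -/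
def par {R : Type*} [CommRing R] (t u : R) (w : Letter) : R :=
  (w.2.1 : R) * t ^ w.2.2.1 * u ^ w.2.2.2

theorem evalM_cons (t u : R) (p : Mon) (L : List Mon) :
    evalM D t u (p :: L) = evalM D t u [p] + evalM D t u L := by
  funext x; simp [evalM]

theorem evalM_append (t u : R) (L M : List Mon) :
    evalM D t u (L ++ M) = evalM D t u L + evalM D t u M := by
  funext x; simp [evalM]

theorem evalM_negL (t u : R) (L : List Mon) : evalM D t u (negL L) = -evalM D t u L := by
  induction L with
  | nil => funext x; simp [evalM, negL]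
  | cons p L ih =>
    rw [show negL (p :: L) = (p.1, -p.2) :: negL L from rfl, evalM_cons, evalM_cons (p := p), ih,
      neg_add]
    congr 1
    funext x
    simp only [evalM, List.map_cons, List.map_nil, List.sum_cons, List.sum_nil, add_zero,
      Pi.neg_apply]
    split_ifs <;> simp

theorem evalM_eq_zero (t u : R) :
    ∀ (m : ℕ) (L : List Mon), L.length ≤ m → (∀ k, keySum L k = 0) → evalM D t u L = 0 := by
  intro m
  induction m with
  | zero =>
    intro L hL _
    rw [List.eq_nil_of_length_eq_zero (Nat.le_zero.1 hL)]
    funext x; simp [evalM]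
  | succ m ih =>
    intro L hL h
    match L, hL with
    | [], _ => funext x; simp [evalM]
    | p :: L, hL =>
      have hrest := ih ((p :: L).filter fun q => !keyEq q.1 p.1) (by
          have : keyEq p.1 p.1 = true := keyEq_iff.2 rfl
          simp only [List.filter_cons, this, Bool.not_true, Bool.false_eq_true, if_false]
          have := List.length_filter_le (fun q : Mon => !keyEq q.1 p.1) L
          simp only [List.length_cons] at hL
          omega) (by
        intro k
        by_cases hk : k = p.1
        · simp only [keySum]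
          rw [List.filter_filter, List.filter_eq_nil_iff.2]
          · simp
          · intro a _
            subst hk
            cases keyEq a.1 p.1 <;> simp
        · rw [← h k]
          simp only [keySum, List.filter_filter]
          congr 2
          refine List.filter_congr fun a _ => ?_
          by_cases ha : a.1 = k
          · have : keyEq a.1 p.1 = false :=
              Bool.eq_false_iff.2 fun e => hk (ha ▸ keyEq_iff.1 e)
            simp [this]
          · simp [Bool.eq_false_iff.2 fun e => ha (keyEq_iff.1 e)])
      funext x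
      have hsplit := (List.sum_map_filter_add_sum_map_filter_not (fun q : Mon => keyEq q.1 p.1 = true)
        (fun q : Mon => if q.1.1 = enc D x then (q.2 : R) * t ^ q.1.2.1 * u ^ q.1.2.2 else 0) (p :: L))
      have e0 : (((p :: L).filter fun q => !keyEq q.1 p.1).map fun q : Mon =>
          if q.1.1 = enc D x then (q.2 : R) * t ^ q.1.2.1 * u ^ q.1.2.2 else 0).sum = 0 :=
        congrFun hrest x
      have e1 : (((p :: L).filter fun q => keyEq q.1 p.1).map fun q : Mon =>
          if q.1.1 = enc D x then (q.2 : R) * t ^ q.1.2.1 * u ^ q.1.2.2 else 0).sum = 0 := by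
        have hk := congrArg (fun z : ℤ => (z : R)) (h p.1)
        simp only [keySum, Int.cast_zero] at hk
        rw [Int.cast_list_sum, List.map_map] at hk
        rw [List.map_congr_left (g := fun q : Mon =>
          (if p.1.1 = enc D x then t ^ p.1.2.1 * u ^ p.1.2.2 else 0) * (q.2 : R)) fun q hq => by
            rw [keyEq_iff.1 (List.mem_filter.1 hq).2]
            split_ifs <;> ring, List.sum_map_mul_left]
        simp only [Function.comp_def] at hk
        rw [hk, mul_zero]
      simp only [evalM, Pi.zero_apply]
      simp only [Bool.decide_eq_true, decide_not] at hsplit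
      rw [e1, e0, add_zero] at hsplit
      exact hsplit.symm

theorem evalM_of_allZero (t u : R) {L : List Mon} (h : allZero L = true) :
    evalM D t u L = 0 := by
  refine evalM_eq_zero t u L.length L le_rfl fun k => ?_
  by_cases hk : ∃ p ∈ L, p.1 = k
  · obtain ⟨p, hp, rfl⟩ := hk
    simpa [allZero] using List.all_eq_true.1 h p hp
  · simp only [keySum]
    rw [List.filter_eq_nil_iff.2]
    · simp
    · exact fun p hp e => hk ⟨p, hp, keyEq_iff.1 e⟩

variable (hA : T.chkArrays D = true) (hC : T.chkChain D = true) (hP : T.chkPairs = true)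
include hA hC hP

theorem evalM_act (t u : R) (w : Letter) (hw : w.1 < D.nroots) :
    ∀ L : List Mon, (∀ p ∈ L, p.1.1 < D.rank + D.nroots) →
      evalM D t u (act T w L) = xR D w.1 (par t u w) *ᵥ evalM D t u L ∧
        ∀ p ∈ act T w L, p.1.1 < D.rank + D.nroots := by
  intro L hL
  constructor
  swap
  · intro p hp
    simp only [act, List.mem_flatMap, List.mem_map] at hp
    obtain ⟨a, ha, k, -, q, hq, rfl⟩ := hp
    exact bounded_dpow hA hP hw (hL a ha) k q hq
  induction L with
  | nil =>
    funext x
    simp [act, evalM, Matrix.mulVec, dotProduct]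
  | cons p L ih =>
    rw [show act T w (p :: L) = act T w [p] ++ act T w L by simp [act], evalM_append,
      ih (fun q hq => hL q (List.mem_cons_of_mem _ hq)), evalM_cons (p := p), Matrix.mulVec_add]
    congr 1
    obtain ⟨y, hy⟩ := exists_enc (D := D) (hL p (by simp))
    funext x
    rw [Matrix.mulVec, dotProduct, Finset.sum_eq_single y]
    · simp only [evalM, act, List.flatMap_cons, List.flatMap_nil, List.append_nil, List.map_cons,
        List.map_nil, List.sum_cons, List.sum_nil, add_zero, if_pos hy.symm, List.map_flatMap,
        List.map_map, Function.comp_def]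
      rw [xR, Matrix.sum_apply, Finset.sum_mul, List.flatMap_def, List.sum_flatten, List.map_map,
        ← List.toFinset_range, List.sum_toFinset _ List.nodup_range]
      refine congrArg List.sum (List.map_congr_left fun k _ => ?_)
      simp only [Function.comp_apply, Matrix.smul_apply, smul_eq_mul, RingHom.mapMatrix_apply,
        Matrix.map_apply, Int.coe_castRingHom]
      rw [divPow_apply hA hC hP hw k x y, hy]
      generalize T.dpow w.1 k p.1.1 = Q
      induction Q with
      | nil => simp [sumAt]
      | cons q Q ihQ =>
        rw [List.map_cons, List.sum_cons, ihQ, sumAt_cons]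
        push_cast
        split_ifs <;> simp only [par, mul_pow, ← pow_mul, pow_add] <;> ring_nf
    · intro b _ hb
      simp only [evalM, List.map_cons, List.map_nil, List.sum_cons, List.sum_nil, add_zero]
      rw [if_neg (fun e => hb (enc_injective (e.symm.trans hy.symm))), mul_zero]
    · simp

theorem evalM_colW (t u : R) (W : List Letter) (hW : ∀ w ∈ W, w.1 < D.nroots) (y : D.Idx) :
    evalM D t u (colW T W (enc D y)) =
        wR D (W.map fun w => (w.1, par t u w)) *ᵥ Pi.single y 1 ∧
      ∀ p ∈ colW T W (enc D y), p.1.1 < D.rank + D.nroots := by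
  induction W with
  | nil =>
    refine ⟨?_, fun p hp => ?_⟩
    · funext x
      simp only [colW, List.foldr_nil, evalM, List.map_cons, List.map_nil, List.sum_cons,
        List.sum_nil, add_zero, wR_nil, Matrix.one_mulVec, Pi.single_apply]
      by_cases h : x = y
      · subst h; simp
      · rw [if_neg h, if_neg (fun e => h (enc_injective e).symm)]
    · simp only [colW, List.foldr_nil, List.mem_singleton] at hp
      subst hp
      exact enc_lt y
  | cons w W ih =>
    obtain ⟨h1, h2⟩ := ih fun v hv => hW v (List.mem_cons_of_mem _ hv)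
    obtain ⟨h3, h4⟩ := evalM_act hA hC hP t u w (hW w (by simp)) _ h2
    refine ⟨?_, h4⟩
    rw [show colW T (w :: W) (enc D y) = act T w (colW T W (enc D y)) from rfl, h3, h1,
      List.map_cons, wR_cons, Matrix.mulVec_mulVec]

theorem commF_of_chk.{w} (h : chkComm D T = true) : CommF.{w} D := by
  intro R _ r hr s hs hne hneg t u
  have hn := nroots_eq hA
  have hl := rank_eq hA
  have hrs := allBelow_spec (allBelow_spec h r (hn ▸ hr)) s (hn ▸ hs)
  have hne' : s ≠ T.neg r := by rw [← neg_eq hA hr]; exact hneg
  simp only [commOK, Bool.or_eq_true, Bool.and_eq_true] at hrs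
  rcases hrs with (h1 | h1) | ⟨h1, h2⟩
  · exact absurd (Nat.eq_of_beq_eq_true h1) hne
  · exact absurd (Nat.eq_of_beq_eq_true h1) hne'
  have hW : ∀ w ∈ rhsW D r s, w.1 < D.nroots := fun w hw => by
    have := List.all_eq_true.1 h1 w hw
    rw [Nat.blt_eq] at this
    omega
  have hV : ∀ w ∈ lhsW r s, w.1 < D.nroots := by
    intro w hw
    simp only [lhsW, List.mem_cons, List.not_mem_nil, or_false] at hw
    rcases hw with rfl | rfl <;> assumption
  have e : wR D ((lhsW r s).map fun w => (w.1, par t u w)) =
      wR D ((rhsW D r s).map fun w => (w.1, par t u w)) := by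
    refine Matrix.ext_of_mulVec_single fun y => ?_
    have hz := evalM_of_allZero (D := D) t u
      (allBelow_spec h2 (enc D y) (by rw [← hl, ← hn]; exact enc_lt y))
    rw [evalM_append, evalM_negL, (evalM_colW hA hC hP t u _ hV y).1,
      (evalM_colW hA hC hP t u _ hW y).1, ← sub_eq_add_neg, sub_eq_zero] at hz
    exact hz
  have eL : (lhsW r s).map (fun w => (w.1, par t u w)) = [(s, u), (r, t)] := by
    simp [lhsW, par]
  have eR : (rhsW D r s).map (fun w => (w.1, par t u w)) = [(r, t), (s, u)] ++ cwR D r s t u := by
    simp [rhsW, par, cwR, List.map_map, Function.comp_def]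
    intro a b c d _
    rw [mul_assoc (a := (b : R)), ← mul_pow, neg_one_mul]
  rw [eL, eR, wR_append] at e
  simpa [wR_cons, wR_nil, mul_assoc] using e

end

end PolyCheck

namespace DataG2

open CfsgLib.Chev.PolyCheck

theorem chk_comm0 : (allBelow tab.nroots fun s => commOK chevG2 tab 0 s) = true := by
  decide +kernel

theorem chk_comm1 : (allBelow tab.nroots fun s => commOK chevG2 tab 1 s) = true := by
  decide +kernel

theorem chk_comm2 : (allBelow tab.nroots fun s => commOK chevG2 tab 2 s) = true := by
  decide +kernel

theorem chk_comm3 : (allBelow tab.nroots fun s => commOK chevG2 tab 3 s) = true := by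
  decide +kernel

theorem chk_comm4 : (allBelow tab.nroots fun s => commOK chevG2 tab 4 s) = true := by
  decide +kernel

theorem chk_comm5 : (allBelow tab.nroots fun s => commOK chevG2 tab 5 s) = true := by
  decide +kernel

theorem chk_comm6 : (allBelow tab.nroots fun s => commOK chevG2 tab 6 s) = true := by
  decide +kernel

theorem chk_comm7 : (allBelow tab.nroots fun s => commOK chevG2 tab 7 s) = true := by
  decide +kernel

theorem chk_comm8 : (allBelow tab.nroots fun s => commOK chevG2 tab 8 s) = true := by
  decide +kernel

theorem chk_comm9 : (allBelow tab.nroots fun s => commOK chevG2 tab 9 s) = true := by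
  decide +kernel

theorem chk_comm10 : (allBelow tab.nroots fun s => commOK chevG2 tab 10 s) = true := by
  decide +kernel

theorem chk_comm11 : (allBelow tab.nroots fun s => commOK chevG2 tab 11 s) = true := by
  decide +kernel

theorem chk_comm : chkComm chevG2 tab = true := allBelow_of fun r (hr : r < 12) =>
  match r, hr with
  | 0, _ => chk_comm0
  | 1, _ => chk_comm1
  | 2, _ => chk_comm2
  | 3, _ => chk_comm3
  | 4, _ => chk_comm4
  | 5, _ => chk_comm5
  | 6, _ => chk_comm6
  | 7, _ => chk_comm7
  | 8, _ => chk_comm8
  | 9, _ => chk_comm9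
  | 10, _ => chk_comm10
  | 11, _ => chk_comm11

/-- The commutator formula for G₂. -/
theorem commF.{w} : CommF.{w} chevG2 :=
  commF_of_chk chk_arrays chk_chain chk_pairs chk_comm

end DataG2

end CfsgLib.Chev
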