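/-
The seven tabulated Chevalley data satisfy the table facts and the commutator formula.
-/
import Cfsg.Agent.Lib.Chev.Bruhat
import Cfsg.Agent.Lib.Chev.CommG2
import Cfsg.Agent.Lib.Chev.Data.B2
import Cfsg.Agent.Lib.Chev.Data.D4
import Cfsg.Agent.Lib.Chev.Data.F4
import Cfsg.Agent.Lib.Chev.Data.E6
import Cfsg.Agent.Lib.Chev.Data.E7
import Cfsg.Agent.Lib.Chev.Data.E8

set_option autoImplicit false

namespace CfsgLib.Chev

open Cfsg.Lie

/-- A datum with certified tables. -/
structure Good.{w} (D : ChevalleyDatum) : Prop where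
  facts : ∃ co, Facts D co
  comm : CommF.{w} D

theorem good_G2.{w} : Good.{w} chevG2 := ⟨⟨_, DataG2.facts⟩, DataG2.commF⟩
theorem good_B2.{w} : Good.{w} chevB2 :=
  ⟨⟨_, DataB2.facts⟩, DataB2.facts.commF_of_short DataB2.short⟩
theorem good_D4.{w} : Good.{w} chevD4 :=
  ⟨⟨_, DataD4.facts⟩, DataD4.facts.commF_of_short DataD4.short⟩
theorem good_F4.{w} : Good.{w} chevF4 :=
  ⟨⟨_, DataF4.facts⟩, DataF4.facts.commF_of_short DataF4.short⟩
theorem good_E6.{w} : Good.{w} chevE6 :=
  ⟨⟨_, DataE6.facts⟩, DataE6.facts.commF_of_short DataE6.short⟩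
theorem good_E7.{w} : Good.{w} chevE7 :=
  ⟨⟨_, DataE7.facts⟩, DataE7.facts.commF_of_short DataE7.short⟩
theorem good_E8.{w} : Good.{w} chevE8 :=
  ⟨⟨_, DataE8.facts⟩, DataE8.facts.commF_of_short DataE8.short⟩

theorem good_of_mem.{w} {D : ChevalleyDatum}
    (hD : D ∈ [chevG2, chevB2, chevD4, chevF4, chevE6, chevE7, chevE8]) : Good.{w} D := by
  simp only [List.mem_cons, List.not_mem_nil, or_false] at hD
  rcases hD with rfl | rfl | rfl | rfl | rfl | rfl | rfl
  · exact good_G2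
  · exact good_B2
  · exact good_D4
  · exact good_F4
  · exact good_E6
  · exact good_E7
  · exact good_E8

end CfsgLib.Chev
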