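/-
The Poincaré polynomial of the Weyl group of a Chevalley datum: the chain of parabolic subgroups
generated by the first `k` fundamental reflections, with tabulated distinguished coset
representatives.
-/
import Mathlib
import Cfsg.Agent.Lib.Chev.Bruhat
import Cfsg.Agent.Lib.Chev.Table

set_option autoImplicit false

namespace CfsgLib.Chev

open Cfsg.Lie

variable {D : ChevalleyDatum} {co : ℕ → ℕ → ℤ}

/-- The number of positive roots made negative. -/
noncomputable def flipNum (σ : Equiv.Perm (Fin D.nroots)) : ℕ :=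
  (Finset.univ.filter fun r : Fin D.nroots =>
    D.nroots / 2 ≤ r.val ∧ (σ r).val < D.nroots / 2).card

open Classical in
/-- The group generated by the first `k` fundamental reflections, as a finset. -/
noncomputable def wFin (D : ChevalleyDatum) (k : ℕ) : Finset (Equiv.Perm (Fin D.nroots)) :=
  Finset.univ.filter fun σ => ∃ l : List (Fin D.rank), (∀ i ∈ l, i.val < k) ∧ σ = sW D l

open Classical in
theorem mem_wFin {k : ℕ} {σ : Equiv.Perm (Fin D.nroots)} :
    σ ∈ wFin D k ↔ ∃ l : List (Fin D.rank), (∀ i ∈ l, i.val < k) ∧ σ = sW D l := by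
  simp [wFin]

namespace Facts

variable (hF : Facts D co)
include hF

theorem pos_of_co_nonneg {r : ℕ} (hr : r < D.nroots) (h : ∀ j < D.rank, 0 ≤ co r j) :
    D.nroots / 2 ≤ r := by
  by_contra hc
  have h1 := hF.omega_pos (hF.neg_lt hr) ((hF.neg_lt_half hr).2 (by omega))
  rw [hF.omega_neg hr] at h1
  have h2 : (0 : ℤ) ≤ omega D co r := by
    refine List.sum_nonneg fun x hx => ?_
    obtain ⟨j, hj, rfl⟩ := List.mem_map.1 hx
    exact mul_nonneg (h j (List.mem_range.1 hj)) (pow_nonneg (by norm_num) _)
  omega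

theorem weight_expand {w : ℕ → ℤ} (hw : IsWeight D w) :
    ∀ r < D.nroots, D.nroots / 2 ≤ r →
      w r = ∑ q ∈ Finset.range D.rank, co r q * w (D.simple q) := by
  intro n
  induction n using Nat.strong_induction_on with
  | _ n ih =>
    intro hn hp
    by_cases hsimp : ∃ i < D.rank, n = D.simple i
    · obtain ⟨i, hi, rfl⟩ := hsimp
      rw [Finset.sum_eq_single i]
      · rw [hF.co_simple i hi i hi, if_pos rfl, one_mul]
      · intro q hq hne
        rw [hF.co_simple i hi q (Finset.mem_range.1 hq), if_neg (Ne.symm hne), zero_mul]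
      · intro h; exact absurd (Finset.mem_range.2 hi) h
    · have hg : ¬ IsGen D n := by
        rintro ⟨i, hi, h | h⟩
        · exact hsimp ⟨i, hi, h⟩
        · have := (hF.neg_lt_half (hF.simple_lt' hi)).1 (h ▸ hp)
          have := (hF.simple_lt i hi).1
          omega
      obtain ⟨a, s, ha, hs, ht, hpos, -⟩ := hF.gen_step n hn hg
      obtain ⟨hsp, hsn⟩ := hpos hp
      have ha' := hF.gen_lt ha
      have hap : D.nroots / 2 ≤ a := by
        by_contra hc
        have h1 := hF.isWeight_omega.add a ha' s hs n ht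
        have h2 := hF.omega_mono hsn hn
        have h3 := (hF.omega_nonpos_iff ha').2 (by omega)
        omega
      have han : a < n := by
        have h1 := hF.isWeight_omega.add a ha' s hs n ht
        exact hF.lt_of_omega_lt ha' (by have := hF.omega_pos hs hsp; omega)
      rw [hw.add a ha' s hs n ht, ih a han ha' hap, ih s hsn hs hsp, ← Finset.sum_add_distrib]
      exact Finset.sum_congr rfl fun q hq => by
        rw [hF.co_add a ha' s hs n ht q (Finset.mem_range.1 hq), add_mul]

theorem co_sW_expand (l : List (Fin D.rank)) {r : Fin D.nroots} (hp : D.nroots / 2 ≤ r.val)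
    {j : ℕ} (hj : j < D.rank) :
    co (sW D l r).val j = ∑ q : Fin D.rank, co r.val q.val * co (sW D l (hF.simpleFin q)).val j := by
  have h := hF.weight_expand (hF.weight_sW l hj) r.val r.isLt hp
  rw [dif_pos r.isLt] at h
  rw [h, ← Fin.sum_univ_eq_sum_range]
  refine Finset.sum_congr rfl fun q _ => ?_
  rw [dif_pos (hF.simple_lt' q.isLt)]
  rfl

theorem sW_ext {l m : List (Fin D.rank)}
    (h : ∀ i, sW D l (hF.simpleFin i) = sW D m (hF.simpleFin i)) : sW D l = sW D m := by
  refine Equiv.ext fun r => ?_
  have key : ∀ s : Fin D.nroots, D.nroots / 2 ≤ s.val → sW D l s = sW D m s := fun s hs =>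
    Fin.ext (hF.root_ext (sW D l s).isLt (sW D m s).isLt fun j hj => by
      rw [hF.co_sW_expand l hs hj, hF.co_sW_expand m hs hj]
      simp only [h])
  by_cases hp : D.nroots / 2 ≤ r.val
  · exact key r hp
  · have := key (hF.negFin r) ((hF.negFin_pos r).2 (by omega))
    rw [hF.sW_neg, hF.sW_neg] at this
    have e := congrArg hF.negFin this
    refine Fin.ext ?_
    have e' := congrArg Fin.val e
    simpa [negFin, hF.neg_neg] using e'

theorem co_sW_fix {k : ℕ} : ∀ {l : List (Fin D.rank)}, (∀ i ∈ l, i.val < k) →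
    ∀ (r : Fin D.nroots) {j : ℕ}, k ≤ j → j < D.rank → co (sW D l r).val j = co r.val j := by
  intro l
  induction l with
  | nil => intro _ r j _ _; rw [sW_nil, Equiv.Perm.one_apply]
  | cons a l ih =>
    intro h r j hkj hj
    rw [sW_cons, Equiv.Perm.mul_apply, hF.sP_val,
      hF.co_refl a.val a.isLt _ (sW D l r).isLt j hj,
      if_neg (by have := h a (by simp); omega), sub_zero,
      ih (fun i hi => h i (by simp [hi])) r hkj hj]

theorem co_nonpos {r : ℕ} (hr : r < D.nroots) (hn : r < D.nroots / 2) {j : ℕ} (hj : j < D.rank) :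
    co r j ≤ 0 := by
  have := hF.co_nonneg _ (hF.neg_lt hr) ((hF.neg_lt_half hr).2 hn) j hj
  rw [hF.co_neg r hr j hj] at this
  omega

/-- A root outside the subsystem keeps its sign. -/
theorem pos_of_fix {k : ℕ} {l : List (Fin D.rank)} (hl : ∀ i ∈ l, i.val < k) {r : Fin D.nroots}
    (hp : D.nroots / 2 ≤ r.val) (hout : ¬ ∀ j, k ≤ j → j < D.rank → co r.val j = 0) :
    D.nroots / 2 ≤ (sW D l r).val := by
  by_contra hc
  refine hout fun j hkj hj => ?_
  have h1 := hF.co_nonneg _ r.isLt hp j hj
  have h2 := hF.co_nonpos (sW D l r).isLt (by omega) hj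
  rw [hF.co_sW_fix hl r hkj hj] at h2
  omega

/-- If `σ p_i = p_j` then `σ` conjugates the `i`-th reflection to the `j`-th one. -/
theorem sW_mul_sP (l : List (Fin D.rank)) {i j : Fin D.rank}
    (h : sW D l (hF.simpleFin i) = hF.simpleFin j) : sP D j * sW D l = sW D l * sP D i := by
  obtain ⟨e, he, hc⟩ := hF.nW_conj_nU (F := ℚ) l (hF.simpleFin i)
  have h1 := hc 1
  rw [h, mul_one] at h1
  have hA : PermAct (nW D ℚ l * nS D ℚ i * (nW D ℚ l)⁻¹) (sW D l * sP D i * (sW D l)⁻¹) :=
    hF.permAct_mul (hF.permAct_mul (hF.permAct_nW l) (hF.permAct_nS i))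
      (hF.permAct_inv (hF.nW_mem l) (hF.permAct_nW l))
  have hB : PermAct (nW D ℚ l * nS D ℚ i * (nW D ℚ l)⁻¹) (sP D j) := by
    show PermAct (nW D ℚ l * nU D (hF.simpleFin i).val 1 * (nW D ℚ l)⁻¹) (sP D j)
    rw [h1]
    rcases he with rfl | rfl
    · simpa [nS, Facts.simpleFin] using hF.permAct_nS (F := ℚ) j
    · have := hF.permAct_inv (hF.nS_mem j) (hF.permAct_nS (F := ℚ) j)
      rw [inv_eq_of_mul_eq_one_right (hF.sP_sq j), nS, hF.nU_inv (hF.simple_lt' j.isLt)] at this
      simpa [Facts.simpleFin] using this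
  rw [← hF.permAct_unique hA hB, inv_mul_cancel_right]

theorem flipNum_one : flipNum (1 : Equiv.Perm (Fin D.nroots)) = 0 := by
  have _ := hF
  rw [flipNum, Finset.card_eq_zero, Finset.filter_eq_empty_iff]
  intro r _ h
  rw [Equiv.Perm.one_apply] at h
  omega

/-- A distinguished representative for the subsystem of the first `k` roots. -/
theorem pos_of_dist {k : ℕ} {u : List (Fin D.rank)}
    (hu : ∀ i : Fin D.rank, i.val < k → D.nroots / 2 ≤ (sW D u (hF.simpleFin i)).val)
    {r : Fin D.nroots} (hp : D.nroots / 2 ≤ r.val)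
    (hin : ∀ j, k ≤ j → j < D.rank → co r.val j = 0) : D.nroots / 2 ≤ (sW D u r).val := by
  refine hF.pos_of_co_nonneg (sW D u r).isLt fun j hj => ?_
  rw [hF.co_sW_expand u hp hj]
  refine Finset.sum_nonneg fun q _ => ?_
  by_cases hq : q.val < k
  · exact mul_nonneg (hF.co_nonneg _ r.isLt hp q q.isLt)
      (hF.co_nonneg _ (sW D u _).isLt (hu q hq) j hj)
  · rw [hin q (by omega) q.isLt, zero_mul]

theorem flipNum_mul {k : ℕ} {u w : List (Fin D.rank)}
    (hu : ∀ i : Fin D.rank, i.val < k → D.nroots / 2 ≤ (sW D u (hF.simpleFin i)).val)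
    (hw : ∀ i ∈ w, i.val < k) :
    flipNum (sW D u * sW D w) = flipNum (sW D u) + flipNum (sW D w) := by
  classical
  have hneg : ∀ r : Fin D.nroots, D.nroots / 2 ≤ r.val → (sW D w r).val < D.nroots / 2 →
      (sW D u (sW D w r)).val < D.nroots / 2 := by
    intro r hr hn
    have hin : ∀ j, k ≤ j → j < D.rank → co r.val j = 0 := by
      by_contra hc
      have := hF.pos_of_fix hw hr hc
      omega
    have h1 := hF.pos_of_dist hu (r := hF.negFin (sW D w r)) ((hF.negFin_pos _).2 hn)
      (fun j hkj hj => by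
        show co (D.neg (sW D w r).val) j = 0
        rw [hF.co_neg _ (sW D w r).isLt j hj, hF.co_sW_fix hw r hkj hj, hin j hkj hj, neg_zero])
    rw [hF.sW_neg, hF.negFin_pos] at h1
    exact h1
  have e1 : (Finset.univ.filter fun r : Fin D.nroots =>
      D.nroots / 2 ≤ r.val ∧ ((sW D u * sW D w) r).val < D.nroots / 2) =
      (Finset.univ.filter fun r : Fin D.nroots =>
        D.nroots / 2 ≤ r.val ∧ (sW D w r).val < D.nroots / 2) ∪
      (Finset.univ.filter fun r : Fin D.nroots =>
        D.nroots / 2 ≤ r.val ∧ D.nroots / 2 ≤ (sW D w r).val ∧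
          (sW D u (sW D w r)).val < D.nroots / 2) := by
    ext r
    rw [Finset.mem_filter, Finset.mem_union, Finset.mem_filter, Finset.mem_filter]
    simp only [Finset.mem_univ, true_and, Equiv.Perm.mul_apply]
    constructor
    · rintro ⟨h1, h2⟩
      by_cases h3 : (sW D w r).val < D.nroots / 2
      · exact Or.inl ⟨h1, h3⟩
      · exact Or.inr ⟨h1, by omega, h2⟩
    · rintro (⟨h1, h2⟩ | ⟨h1, -, h2⟩)
      · exact ⟨h1, hneg r h1 h2⟩
      · exact ⟨h1, h2⟩
  rw [flipNum, e1, Finset.card_union_of_disjoint, ← flipNum, add_comm]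
  · congr 1
    refine Finset.card_bij (fun r _ => sW D w r) (fun r hr => ?_)
      (fun a _ b _ h => (sW D w).injective h) (fun y hy => ?_)
    · simp only [Finset.mem_filter, Finset.mem_univ, true_and] at hr ⊢
      exact ⟨hr.2.1, hr.2.2⟩
    · simp only [Finset.mem_filter, Finset.mem_univ, true_and] at hy ⊢
      refine ⟨(sW D w)⁻¹ y, ⟨?_, ?_⟩, by simp⟩
      · rw [← hF.sW_reverse]
        refine hF.pos_of_fix (k := k) (fun i hi => hw i (List.mem_reverse.1 hi)) hy.1 ?_
        intro hc
        have := hF.pos_of_dist hu hy.1 hc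
        omega
      · simpa using hy
  · rw [Finset.disjoint_filter]
    intro r _ h1 h2
    have := h1.2
    have := h2.2.1
    omega

theorem wFin_zero : wFin D 0 = {1} := by
  have _ := hF
  ext σ
  rw [mem_wFin, Finset.mem_singleton]
  constructor
  · rintro ⟨l, hl, rfl⟩
    rcases l with _ | ⟨a, l⟩
    · rfl
    · exact absurd (hl a (by simp)) (Nat.not_lt_zero _)
  · rintro rfl
    exact ⟨[], by simp, rfl⟩

end Facts

/-- Distinguished representatives of the cosets of the first `k` reflections in the group of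
the first `k + 1`. -/
structure Reps (hF : Facts D co) (k : ℕ) (u : ℕ → List (Fin D.rank)) (m : ℕ) : Prop where
  pos : 0 < m
  one : sW D (u 0) = 1
  low : ∀ a < m, ∀ i ∈ u a, i.val < k + 1
  dist : ∀ a < m, ∀ i : Fin D.rank, i.val < k → D.nroots / 2 ≤ (sW D (u a) (hF.simpleFin i)).val
  inj : ∀ a < m, ∀ b < m, sW D (u a) = sW D (u b) → a = b
  closed : ∀ a < m, ∀ j : Fin D.rank, j.val < k + 1 →
    (∃ b < m, sP D j * sW D (u a) = sW D (u b)) ∨
      ∃ i : Fin D.rank, i.val < k ∧ sW D (u a) (hF.simpleFin i) = hF.simpleFin j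

namespace Facts

variable (hF : Facts D co)
include hF

theorem reps_prod {k : ℕ} {u : ℕ → List (Fin D.rank)} {m : ℕ} (hR : Reps hF k u m) :
    ∃ f : ℕ × Equiv.Perm (Fin D.nroots) → Equiv.Perm (Fin D.nroots),
      Set.InjOn f ↑(Finset.range m ×ˢ wFin D k) ∧
        wFin D (k + 1) = (Finset.range m ×ˢ wFin D k).image f ∧
        ∀ p ∈ Finset.range m ×ˢ wFin D k,
          flipNum (f p) = flipNum (sW D (u p.1)) + flipNum p.2 := by
  classical
  refine ⟨fun p => sW D (u p.1) * p.2, ?_, ?_, ?_⟩
  · rintro ⟨a, σ⟩ ha ⟨b, τ⟩ hb h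
    simp only [Finset.coe_product, Set.mem_prod, Finset.mem_coe, Finset.mem_range, mem_wFin] at ha hb
    obtain ⟨ha, l, hl, rfl⟩ := ha
    obtain ⟨hb, l', hl', rfl⟩ := hb
    simp only at h
    have hv : sW D (u b) = sW D (u a) * sW D (l ++ l'.reverse) := by
      rw [sW_append, hF.sW_reverse, ← mul_assoc, h, mul_inv_cancel_right]
    have hll : ∀ i ∈ l ++ l'.reverse, i.val < k := by
      intro i hi
      rcases List.mem_append.1 hi with hi | hi
      · exact hl i hi
      · exact hl' i (List.mem_reverse.1 hi)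
    have h1 : sW D (l ++ l'.reverse) = 1 := by
      refine hF.eq_one_of_pos _ fun r hr => ?_
      by_cases hin : ∀ j, k ≤ j → j < D.rank → co r.val j = 0
      · by_contra hc
        have hb' := hF.pos_of_dist (hR.dist b hb) hr hin
        rw [hv, Equiv.Perm.mul_apply] at hb'
        have h2 := hF.pos_of_dist (hR.dist a ha)
          (r := hF.negFin (sW D (l ++ l'.reverse) r)) ((hF.negFin_pos _).2 (by omega))
          (fun j hkj hj => by
            show co (D.neg (sW D (l ++ l'.reverse) r).val) j = 0
            rw [hF.co_neg _ (sW D _ r).isLt j hj, hF.co_sW_fix hll r hkj hj, hin j hkj hj,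
              neg_zero])
        rw [hF.sW_neg, hF.negFin_pos] at h2
        omega
      · exact hF.pos_of_fix hll hr hin
    rw [h1, mul_one] at hv
    obtain rfl := hR.inj b hb a ha hv
    exact Prod.ext rfl (mul_left_cancel h)
  · ext σ
    simp only [Finset.mem_image, Finset.mem_product, Finset.mem_range, Prod.exists, mem_wFin]
    constructor
    · rintro ⟨l, hl, rfl⟩
      induction l with
      | nil => exact ⟨0, 1, ⟨hR.pos, [], by simp, rfl⟩, by simp [hR.one, sW_nil]⟩
      | cons j l ih =>
        obtain ⟨a, τ, ⟨ha, w, hw, rfl⟩, he⟩ := ih fun i hi => hl i (by simp [hi])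
        rcases hR.closed a ha j (hl j (by simp)) with ⟨b, hb, hj⟩ | ⟨i, hi, hj⟩
        · exact ⟨b, _, ⟨hb, w, hw, rfl⟩, by rw [← hj, sW_cons, ← he, mul_assoc]⟩
        · refine ⟨a, sW D (i :: w), ⟨ha, i :: w, ?_, rfl⟩, ?_⟩
          · rintro x hx
            rcases List.mem_cons.1 hx with rfl | hx
            · exact hi
            · exact hw x hx
          · rw [sW_cons, sW_cons, ← he, ← mul_assoc, ← mul_assoc, hF.sW_mul_sP (u a) hj]
    · rintro ⟨a, τ, ⟨ha, w, hw, rfl⟩, rfl⟩
      refine ⟨u a ++ w, fun i hi => ?_, by rw [sW_append]⟩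
      rcases List.mem_append.1 hi with hi | hi
      · exact hR.low a ha i hi
      · exact (hw i hi).trans (Nat.lt_succ_self k)
  · rintro ⟨a, σ⟩ hp
    simp only [Finset.mem_product, Finset.mem_range, mem_wFin] at hp
    obtain ⟨ha, w, hw, rfl⟩ := hp
    exact hF.flipNum_mul (hR.dist a ha) hw

theorem reps_sum {k : ℕ} {u : ℕ → List (Fin D.rank)} {m : ℕ} (hR : Reps hF k u m)
    {R : Type*} [CommSemiring R] (x : R) :
    ∑ σ ∈ wFin D (k + 1), x ^ flipNum σ =
      (∑ a ∈ Finset.range m, x ^ flipNum (sW D (u a))) * ∑ σ ∈ wFin D k, x ^ flipNum σ := by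
  classical
  obtain ⟨f, hf, he, hN⟩ := hF.reps_prod hR
  rw [he, Finset.sum_image hf, Finset.sum_mul_sum, ← Finset.sum_product']
  exact Finset.sum_congr rfl fun p hp => by rw [hN p hp, pow_add]

end Facts

/-! ### Polynomials as coefficient lists -/

namespace Table

/-- Addition of coefficient lists. -/
def padd : List ℤ → List ℤ → List ℤ
  | [], q => q
  | p, [] => p
  | a :: p, b :: q => (a + b) :: padd p q

/-- Multiplication of coefficient lists. -/
def pmul : List ℤ → List ℤ → List ℤ
  | [], _ => []
  | a :: p, q => padd (q.map fun b => a * b) (0 :: pmul p q)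

/-- The monomial of degree `d`. -/
def mono : ℕ → List ℤ
  | 0 => [1]
  | d + 1 => 0 :: mono d

/-- Evaluation of a coefficient list. -/
def pev (x : ℤ) : List ℤ → ℤ
  | [] => 0
  | a :: p => a + x * pev x p

/-- The coefficient list of `X ^ d - 1`. -/
def powSub (d : ℕ) : List ℤ := padd [-1] (mono d)

theorem pev_padd (x : ℤ) : ∀ p q, pev x (padd p q) = pev x p + pev x q
  | [], q => by simp [padd, pev]
  | a :: p, [] => by simp [padd, pev]
  | a :: p, b :: q => by simp [padd, pev, pev_padd x p q]; ring

theorem pev_map (x a : ℤ) : ∀ q, pev x (q.map fun b => a * b) = a * pev x q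
  | [] => by simp [pev]
  | b :: q => by simp [pev, pev_map x a q]; ring

theorem pev_pmul (x : ℤ) : ∀ p q, pev x (pmul p q) = pev x p * pev x q
  | [], q => by simp [pmul, pev]
  | a :: p, q => by simp [pmul, pev_padd, pev_map, pev, pev_pmul x p q]; ring

theorem pev_mono (x : ℤ) : ∀ d, pev x (mono d) = x ^ d
  | 0 => by simp [mono, pev]
  | d + 1 => by simp [mono, pev, pev_mono x d, pow_succ]; ring

theorem pev_powSub (x : ℤ) (d : ℕ) : pev x (powSub d) = x ^ d - 1 := by
  simp [powSub, pev_padd, pev_mono, pev]; ring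

theorem pev_prod (x : ℤ) : ∀ L : List (List ℤ),
    pev x (L.foldr pmul [1]) = (L.map (pev x)).prod
  | [] => by simp [pev]
  | p :: L => by simp [pev_pmul, pev_prod x L]

/-- `p k` counted for `k < n`. -/
def countBelow (n : ℕ) (p : ℕ → Bool) : ℕ :=
  Nat.rec 0 (fun k ih => bif p k then ih + 1 else ih) n

theorem countBelow_eq (n : ℕ) (p : ℕ → Bool) :
    countBelow n p = ((Finset.range n).filter fun k => p k = true).card := by
  induction n with
  | zero => simp [countBelow]
  | succ n ih =>
    rw [Finset.range_add_one, Finset.filter_insert]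
    show (bif p n then countBelow n p + 1 else countBelow n p) = _
    cases h : p n <;> simp [ih]

/-- The tabulated representatives of one step of the chain. -/
structure Level : Type where
  size : ℕ
  rows : Tree
  par : Tree
  nb : Tree
  key : Tree
  len : Tree

variable (T : Tab)

/-- The image of a positive root. -/
def Level.img (L : Level) (a s : ℕ) : ℕ := slot (L.rows.get a) (s - T.nroots / 2)

/-- The packed images of the fundamental roots. -/
def Level.keyOf (L : Level) (a : ℕ) : ℕ :=
  Nat.rec 0 (fun i acc => Nat.add (Nat.mul acc 65536) (L.img T a (T.smp i))) T.rank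

/-- The check of one step. -/
def Level.check (L : Level) (k : ℕ) : Bool :=
  Nat.blt 0 L.size && Nat.blt k T.rank &&
  allBelow (T.nroots / 2) (fun t => slot (L.rows.get 0) t == T.nroots / 2 + t) &&
  allBelow L.size (fun a => bif a == 0 then true else
    (Nat.blt (L.par.get a / 16) a && Nat.ble (L.par.get a % 16) k &&
      allBelow (T.nroots / 2) (fun t =>
        slot (L.rows.get a) t == T.refl (L.par.get a % 16) (slot (L.rows.get (L.par.get a / 16)) t)))) &&
  allBelow L.size (fun a => allBelow (k + 1) fun j =>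
    bif slot (L.nb.get a) j % 2 == 0 then
      (Nat.blt (slot (L.nb.get a) j / 2) L.size && allBelow T.rank (fun i =>
        L.img T (slot (L.nb.get a) j / 2) (T.smp i) == T.refl j (L.img T a (T.smp i))))
    else
      (Nat.blt (slot (L.nb.get a) j / 2) k &&
        L.img T a (T.smp (slot (L.nb.get a) j / 2)) == T.smp j)) &&
  allBelow L.size (fun a => allBelow k fun i => Nat.ble (T.nroots / 2) (L.img T a (T.smp i))) &&
  allBelow L.size (fun a => L.key.get a == L.keyOf T a &&
    allBelow a (fun b => !(L.key.get b == L.key.get a))) &&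
  allBelow L.size (fun a => L.len.get a ==
    countBelow (T.nroots / 2) (fun t => Nat.blt (slot (L.rows.get a) t) (T.nroots / 2)))

/-- The coefficient list of the generating function of one step. -/
def Level.poly (L : Level) : List ℤ :=
  Nat.rec [] (fun a acc => padd (mono (L.len.get a)) acc) L.size

theorem pev_poly (x : ℤ) (L : Level) :
    pev x L.poly = ∑ a ∈ Finset.range L.size, x ^ L.len.get a := by
  have key : ∀ n, pev x (Nat.rec [] (fun a acc => padd (mono (L.len.get a)) acc) n) =
      ∑ a ∈ Finset.range n, x ^ L.len.get a := by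
    intro n
    induction n with
    | zero => simp [pev]
    | succ n ih =>
      rw [Finset.sum_range_succ, ← ih]
      show pev x (padd (mono (L.len.get n)) _) = _
      rw [pev_padd, pev_mono]; ring
  exact key L.size

variable {T}
variable {D : ChevalleyDatum} (hA : T.chkArrays D = true) (hC : T.chkChain D = true)
  (hF : Facts D co)
include hA hC hF

theorem reps_of_check {L : Level} {k : ℕ} (h : L.check T k = true) :
    ∃ u, Reps hF k u L.size ∧ ∀ a < L.size, flipNum (sW D (u a)) = L.len.get a := by
  have hn := nroots_eq hA (D := D)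
  have hr := rank_eq hA (D := D)
  have heven := hF.nroots_even
  have hhalf : D.nroots / 2 = T.nroots / 2 := by rw [hn]
  simp only [Level.check, Bool.and_eq_true] at h
  obtain ⟨⟨⟨⟨⟨⟨⟨hpos, hk⟩, h0⟩, hpar⟩, hnb⟩, hdist⟩, hkey⟩, hlen⟩ := h
  rw [blt_iff] at hpos hk
  have hrefl : ∀ j < T.rank, ∀ s < T.nroots, T.refl j s = D.reflectRoot j s :=
    fun j hj s hs => (reflect_eq hA hC (by omega) (by omega)).symm
  have himg : ∀ a < L.size, ∃ l : List (Fin D.rank), (∀ i ∈ l, i.val < k + 1) ∧
      (a = 0 → sW D l = 1) ∧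
      ∀ s : Fin D.nroots, D.nroots / 2 ≤ s.val → (sW D l s).val = L.img T a s.val := by
    intro a
    induction a using Nat.strong_induction_on with
    | _ a ih =>
      intro ha
      by_cases h00 : a = 0
      · subst h00
        refine ⟨[], by simp, fun _ => sW_nil, fun s hs => ?_⟩
        have := allBelow_spec h0 (s.val - T.nroots / 2) (by have := s.isLt; omega)
        rw [beq_iff_eq] at this
        rw [sW_nil, Equiv.Perm.one_apply, Level.img, this]
        omega
      · have hp := allBelow_spec hpar a ha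
        simp only [beq_eq_false_iff_ne.2 h00, cond_false, Bool.and_eq_true, blt_iff, ble_iff] at hp
        obtain ⟨⟨hb, hj⟩, ht⟩ := hp
        obtain ⟨l, hl, -, hls⟩ := ih _ hb (by omega)
        refine ⟨⟨L.par.get a % 16, by omega⟩ :: l, fun i hi => ?_, fun e => absurd e h00,
          fun s hs => ?_⟩
        · rcases List.mem_cons.1 hi with rfl | hi
          · show L.par.get a % 16 < k + 1
            omega
          · exact hl i hi
        · have := allBelow_spec ht (s.val - T.nroots / 2) (by have := s.isLt; omega)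
          rw [beq_iff_eq] at this
          rw [sW_cons, Equiv.Perm.mul_apply, hF.sP_val, hls s hs]
          show D.reflectRoot (L.par.get a % 16) _ = L.img T a s.val
          rw [← hrefl _ (by omega)]
          · exact this.symm
          · rw [← hn, ← hls s hs]; exact (sW D l s).isLt
  choose! u hu1 hu0 hu2 using himg
  have hsi : ∀ a < L.size, ∀ i : Fin D.rank,
      (sW D (u a) (hF.simpleFin i)).val = L.img T a (T.smp i.val) := fun a ha i => by
    rw [hu2 a ha (hF.simpleFin i) (hF.simple_lt i.val i.isLt).1]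
    show L.img T a (D.simple i.val) = _
    rw [simple_eq hA i.isLt]
  refine ⟨u, ⟨hpos, hu0 0 hpos rfl, hu1, fun a ha i hi => ?_, fun a ha b hb e => ?_,
    fun a ha j hj => ?_⟩, fun a ha => ?_⟩
  · have := allBelow_spec (allBelow_spec hdist a ha) i.val hi
    rw [ble_iff] at this
    rw [hsi a ha, hn]
    exact this
  · have hkk : ∀ c < L.size, L.key.get c = L.keyOf T c ∧
        ∀ d < c, L.key.get d ≠ L.key.get c := fun c hc => by
      have := allBelow_spec hkey c hc
      rw [Bool.and_eq_true, beq_iff_eq] at this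
      refine ⟨this.1, fun d hd e' => ?_⟩
      have h2 := allBelow_spec this.2 d hd
      simp [e'] at h2
    have hab : L.keyOf T a = L.keyOf T b := by
      have : ∀ i < T.rank, L.img T a (T.smp i) = L.img T b (T.smp i) := fun i hi => by
        rw [← hsi a ha ⟨i, by omega⟩, ← hsi b hb ⟨i, by omega⟩, e]
      have key : ∀ n ≤ T.rank,
          (Nat.rec 0 (fun i acc => Nat.add (Nat.mul acc 65536) (L.img T a (T.smp i))) n : ℕ) =
            Nat.rec 0 (fun i acc => Nat.add (Nat.mul acc 65536) (L.img T b (T.smp i))) n := by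
        intro n
        induction n with
        | zero => intro _; rfl
        | succ n ihn =>
          intro hn'
          show Nat.add (Nat.mul _ 65536) _ = Nat.add (Nat.mul _ 65536) _
          rw [ihn (by omega), this n (by omega)]
      exact key T.rank le_rfl
    rw [← (hkk a ha).1, ← (hkk b hb).1] at hab
    rcases Nat.lt_trichotomy a b with hlt | heq | hgt
    · exact absurd hab ((hkk b hb).2 a hlt)
    · exact heq
    · exact absurd hab.symm ((hkk a ha).2 b hgt)
  · have := allBelow_spec (allBelow_spec hnb a ha) j.val hj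
    by_cases hc : slot (L.nb.get a) j.val % 2 = 0
    · simp only [beq_iff_eq.2 hc, cond_true, Bool.and_eq_true, blt_iff] at this
      refine Or.inl ⟨_, this.1, ?_⟩
      rw [← sW_cons]
      refine hF.sW_ext fun i => Fin.ext ?_
      have h2 := allBelow_spec this.2 i.val (by omega)
      rw [beq_iff_eq] at h2
      rw [sW_cons, Equiv.Perm.mul_apply, hF.sP_val, hsi a ha, hsi _ this.1, h2,
        hrefl _ (by omega)]
      rw [← hn, ← hsi a ha]
      exact (sW D _ _).isLt
    · simp only [beq_eq_false_iff_ne.2 hc, cond_false, Bool.and_eq_true, blt_iff, beq_iff_eq] at this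
      refine Or.inr ⟨⟨slot (L.nb.get a) j.val / 2, by omega⟩, this.1, Fin.ext ?_⟩
      rw [hsi a ha, this.2]
      exact (simple_eq hA j.isLt).symm
  · have := allBelow_spec hlen a ha
    rw [beq_iff_eq, countBelow_eq] at this
    rw [this, flipNum]
    refine Finset.card_bij (fun r _ => r.val - T.nroots / 2) (fun r hr => ?_)
      (fun r hr r' hr' e => ?_) (fun t ht => ?_)
    · simp only [Finset.mem_filter, Finset.mem_univ, true_and, Finset.mem_range, blt_iff] at hr ⊢
      rw [hu2 a ha r hr.1, Level.img, hhalf] at hr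
      exact ⟨by have := r.isLt; omega, hr.2⟩
    · simp only [Finset.mem_filter, Finset.mem_univ, true_and] at hr hr'
      ext; omega
    · simp only [Finset.mem_filter, Finset.mem_range, blt_iff] at ht
      refine ⟨⟨T.nroots / 2 + t, by omega⟩, ?_, by simp⟩
      simp only [Finset.mem_filter, Finset.mem_univ, true_and]
      refine ⟨by omega, ?_⟩
      rw [hu2 a ha ⟨_, _⟩ (by show _ ≤ T.nroots / 2 + t; omega), Level.img, hhalf]
      simpa using ht.2

/-- The product formula along a chain. -/
theorem chain_sum : ∀ {Ls : List Level},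
    (∀ k (h : k < Ls.length), (Ls[k]).check T k = true) →
    (∀ x : ℤ, ∑ σ ∈ wFin D Ls.length, x ^ flipNum σ = pev x ((Ls.map Level.poly).foldr pmul [1])) ∧
      (wFin D Ls.length).card = (Ls.map Level.size).prod := by
  intro Ls
  induction Ls using List.reverseRecOn with
  | nil =>
    intro _
    rw [List.length_nil, hF.wFin_zero]
    exact ⟨fun x => by simp [hF.flipNum_one, pev], by simp⟩
  | append_singleton Ls L ih =>
    intro h
    have hL : ∀ k (h' : k < Ls.length), (Ls[k]).check T k = true := fun k h' => by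
      have := h k (by simp; omega)
      rwa [List.getElem_append_left h'] at this
    have hlast : L.check T Ls.length = true := by
      have := h Ls.length (by simp)
      rwa [List.getElem_concat_length rfl] at this
    obtain ⟨ih1, ih2⟩ := ih hL
    obtain ⟨u, hu, hN⟩ := reps_of_check hA hC hF hlast
    have hlen : (Ls ++ [L]).length = Ls.length + 1 := by simp
    rw [hlen]
    refine ⟨fun x => ?_, ?_⟩
    · rw [hF.reps_sum hu, ih1, pev_prod, pev_prod, List.map_map, List.map_map, List.map_append,
        List.prod_append, List.map_singleton, List.prod_singleton, Function.comp_apply, pev_poly,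
        mul_comm]
      congr 1
      exact Finset.sum_congr rfl fun a ha => by rw [hN a (Finset.mem_range.1 ha)]
    · have := hF.reps_sum hu (1 : ℕ)
      simp only [one_pow, Finset.sum_const, smul_eq_mul, mul_one, Finset.card_range] at this
      rw [this, ih2, List.map_append, List.prod_append, List.map_singleton, List.prod_singleton,
        mul_comm]

/-- The Poincaré polynomial of the Weyl group and its order, from a chain of checked steps. -/
theorem poincare_of_check {Ls : List Level} {degs : List ℕ} (hlen : Ls.length = T.rank)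
    (h : ∀ k (h : k < Ls.length), (Ls[k]).check T k = true)
    (hp : (pmul ((Ls.map Level.poly).foldr pmul [1]) ((List.replicate T.rank (powSub 1)).foldr pmul [1]) ==
      (degs.map powSub).foldr pmul [1]) = true) :
    (∀ x : ℤ, (∑ σ ∈ wFin D D.rank, x ^ flipNum σ) * (x - 1) ^ D.rank =
      (degs.map fun d => x ^ d - 1).prod) ∧
      (wFin D D.rank).card = (Ls.map Level.size).prod := by
  obtain ⟨h1, h2⟩ := chain_sum hA hC hF h
  rw [beq_iff_eq] at hp
  rw [rank_eq hA, ← hlen]
  refine ⟨fun x => ?_, h2⟩
  have e := congrArg (pev x) hp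
  rw [pev_pmul, pev_prod x (List.replicate _ _), pev_prod x (degs.map _), List.map_replicate,
    List.prod_replicate, List.map_map, pev_powSub, pow_one, ← h1 x, ← hlen] at e
  rw [e]
  congr 1
  exact List.map_congr_left fun d _ => pev_powSub x d

end Table

theorem mem_wFin_rank {σ : Equiv.Perm (Fin D.nroots)} :
    σ ∈ wFin D D.rank ↔ ∃ l : List (Fin D.rank), σ = sW D l := by
  rw [mem_wFin]
  exact ⟨fun ⟨l, _, e⟩ => ⟨l, e⟩, fun ⟨l, e⟩ => ⟨l, fun i _ => i.isLt, e⟩⟩

end CfsgLib.Chev
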