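/-
The Weyl group of a Chevalley datum as a Coxeter group, with orders of words checked on the
fundamental roots.
-/
import Mathlib
import Cfsg.Agent.Lib.Chev.Poincare

set_option autoImplicit false

namespace CfsgLib.Chev

open Cfsg.Lie

variable {D : ChevalleyDatum} {co : ℕ → ℕ → ℤ}

/-- The Weyl group as a group of permutations of the roots. -/
noncomputable def weylGroup (D : ChevalleyDatum) : Subgroup (Equiv.Perm (Fin D.nroots)) :=
  Subgroup.closure (Set.range (sP D))

theorem sW_mem_weylGroup (l : List (Fin D.rank)) : sW D l ∈ weylGroup D :=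
  Subgroup.list_prod_mem _ fun g hg => by
    obtain ⟨i, -, rfl⟩ := List.mem_map.1 hg
    exact Subgroup.subset_closure ⟨i, rfl⟩

/-- A fundamental reflection in the Weyl group. -/
noncomputable def wS (D : ChevalleyDatum) (i : Fin D.rank) : weylGroup D :=
  ⟨sP D i, Subgroup.subset_closure ⟨i, rfl⟩⟩

theorem wS_prod (l : List (Fin D.rank)) :
    ((Exch.prodW (wS D) l : weylGroup D) : Equiv.Perm (Fin D.nroots)) = sW D l := by
  induction l with
  | nil => rfl
  | cons a l ih => rw [Exch.prodW_cons, Subgroup.coe_mul, ih, sW_cons]; rfl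

namespace Facts

variable (hF : Facts D co)
include hF

theorem mem_weylGroup {σ : Equiv.Perm (Fin D.nroots)} :
    σ ∈ weylGroup D ↔ ∃ l : List (Fin D.rank), σ = sW D l := by
  refine ⟨fun h => ?_, fun ⟨l, h⟩ => h ▸ sW_mem_weylGroup l⟩
  induction h using Subgroup.closure_induction with
  | mem x hx => obtain ⟨i, rfl⟩ := hx; exact ⟨[i], by rw [sW_cons, sW_nil, mul_one]⟩
  | one => exact ⟨[], sW_nil.symm⟩
  | mul x y _ _ hx hy =>
    obtain ⟨a, rfl⟩ := hx; obtain ⟨b, rfl⟩ := hy
    exact ⟨a ++ b, (sW_append a b).symm⟩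
  | inv x _ hx => obtain ⟨a, rfl⟩ := hx; exact ⟨a.reverse, (hF.sW_reverse a).symm⟩

theorem card_weylGroup : Nat.card (weylGroup D) = (wFin D D.rank).card := by
  rw [← Nat.card_eq_finsetCard]
  exact Nat.card_congr (Equiv.subtypeEquivRight fun σ => by
    rw [hF.mem_weylGroup, mem_wFin_rank])

theorem wS_hasExchange : Exch.HasExchange (wS D) := by
  intro l i hl hn
  have hr : ∀ m : List (Fin D.rank), Exch.RedW (sP D) m ↔ Exch.RedW (wS D) m := fun m => by
    refine forall_congr' fun m' => imp_congr_left ?_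
    show sW D m' = sW D m ↔ _
    rw [← wS_prod, ← wS_prod]
    exact Subtype.ext_iff.symm
  obtain ⟨k, hk, he⟩ := hF.hasExchange l i ((hr l).2 hl) fun h => hn ((hr _).1 h)
  refine ⟨k, hk, Subtype.ext ?_⟩
  rw [Subgroup.coe_mul, wS_prod, wS_prod]
  exact he

theorem exists_coxeter {M : CoxeterMatrix (Fin D.rank)}
    (hM : ∀ i j : Fin D.rank, orderOf (sW D [i, j]) = M.M i j) :
    ∃ cs : CoxeterSystem M (weylGroup D), ∀ i, cs.simple i = wS D i := by
  have hsq : ∀ i, wS D i * wS D i = 1 := fun i => Subtype.ext (hF.sP_sq i)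
  have hinj : Function.Injective (wS D) := fun i j h => hF.sP_injective (congrArg Subtype.val h)
  have hgen : Subgroup.closure (Set.range (wS D)) = ⊤ := by
    rw [eq_top_iff]
    rintro ⟨σ, hσ⟩ -
    obtain ⟨l, rfl⟩ := hF.mem_weylGroup.1 hσ
    rw [show (⟨sW D l, hσ⟩ : weylGroup D) = Exch.prodW (wS D) l from Subtype.ext (wS_prod l).symm]
    refine Subgroup.list_prod_mem _ fun g hg => ?_
    obtain ⟨i, -, rfl⟩ := List.mem_map.1 hg
    exact Subgroup.subset_closure ⟨i, rfl⟩
  have he : Exch.coxMatrix hsq hinj = M := by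
    have : (Exch.coxMatrix hsq hinj).M = M.M := by
      ext i j
      rw [← hM i j, ← wS_prod, Subgroup.orderOf_coe]
      simp [Exch.coxMatrix, Exch.prodW]
    cases M; cases hc : Exch.coxMatrix hsq hinj
    rw [hc] at this
    subst this
    rfl
  subst he
  exact Exch.exists_coxeterSystem hsq hinj hF.wS_hasExchange hgen

end Facts

theorem card_coxeter {n : ℕ} {M : CoxeterMatrix (Fin n)} {W : Type*} [Group W]
    (cs : CoxeterSystem M W) : Nat.card M.Group = Nat.card W :=
  Nat.card_congr cs.mulEquiv.symm.toEquiv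

namespace Table

/-- The image of a root under a word. -/
def actW (T : Tab) (w : List ℕ) (s : ℕ) : ℕ := w.foldr (fun i x => T.refl i x) s

/-- The image under a power of a word. -/
def actPow (T : Tab) (w : List ℕ) (m s : ℕ) : ℕ :=
  Nat.rec s (fun _ x => actW T w x) m

/-- Check that a word has order `h`. -/
def chkOrder (T : Tab) (w : List ℕ) (h : ℕ) : Bool :=
  Nat.blt 0 h && allBelow T.rank (fun i => actPow T w h (T.smp i) == T.smp i) &&
    allBelow h (fun m => m == 0 || anyBelow T.rank (fun i => !(actPow T w m (T.smp i) == T.smp i)))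

variable {T : Tab} (hA : T.chkArrays D = true) (hC : T.chkChain D = true) (hF : Facts D co)
include hA hC hF

theorem actW_eq (l : List (Fin D.rank)) (s : Fin D.nroots) :
    (sW D l s).val = actW T (l.map Fin.val) s.val := by
  induction l with
  | nil => rfl
  | cons a l ih =>
    rw [sW_cons, Equiv.Perm.mul_apply, hF.sP_val, reflect_eq hA hC a.isLt (sW D l s).isLt, ih]
    rfl

theorem actPow_eq (l : List (Fin D.rank)) (m : ℕ) (s : Fin D.nroots) :
    ((sW D l ^ m) s).val = actPow T (l.map Fin.val) m s.val := by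
  induction m with
  | zero => rfl
  | succ m ih =>
    rw [pow_succ', Equiv.Perm.mul_apply, actW_eq hA hC hF, ih]
    rfl

theorem orderOf_sW {l : List (Fin D.rank)} {h : ℕ}
    (hk : chkOrder T (l.map Fin.val) h = true) : orderOf (sW D l) = h := by
  simp only [chkOrder, Bool.and_eq_true, blt_iff] at hk
  obtain ⟨⟨hpos, h1⟩, h2⟩ := hk
  have hr := rank_eq hA (D := D)
  rw [orderOf_eq_iff hpos]
  refine ⟨?_, fun m hm hm0 e => ?_⟩
  · have hw : ∀ m : ℕ, sW D l ^ m = sW D (List.replicate m l).flatten := fun m => by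
      induction m with
      | zero => rfl
      | succ m ih => rw [pow_succ', ih, List.replicate_succ, List.flatten_cons, sW_append]
    rw [hw, ← sW_nil]
    refine hF.sW_ext fun i => Fin.ext ?_
    have := allBelow_spec h1 i.val (by have := i.isLt; omega)
    rw [beq_iff_eq, ← simple_eq hA i.isLt] at this
    rw [← hw, actPow_eq hA hC hF, sW_nil, Equiv.Perm.one_apply]
    exact this
  · have := allBelow_spec h2 m hm
    rw [Bool.or_eq_true, beq_iff_eq] at this
    obtain ⟨i, hi, hne⟩ := anyBelow_spec (this.resolve_left (by omega))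
    have e' := congrArg Fin.val (congrFun (congrArg DFunLike.coe e) (hF.simpleFin ⟨i, by omega⟩))
    rw [actPow_eq hA hC hF, Equiv.Perm.one_apply,
      show (hF.simpleFin ⟨i, by omega⟩).val = D.simple i from rfl,
      simple_eq hA (by omega)] at e'
    rw [e', beq_self_eq_true] at hne
    exact absurd hne (by decide)

end Table

end CfsgLib.Chev
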