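/-
The order of a Chevalley group over a finite field as a sum over the Weyl group.
-/
import Mathlib
import Cfsg.Agent.Lib.Chev.Struct
import Cfsg.Agent.Lib.Chev.Poincare

set_option autoImplicit false

namespace CfsgLib.Chev

open Cfsg.Lie

variable {D : ChevalleyDatum} {co : ℕ → ℕ → ℤ}

section

universe v

variable {K : Type v} [Field K] [Finite K] (hF : Facts D co) (hC : CommF.{v} D)

include hF in
theorem Facts.card_le_rootClosure {P : ℕ → Prop} [DecidablePred P]
    (hP : ∀ r < D.nroots, P r → D.nroots / 2 ≤ r) :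
    Nat.card K ^ (Finset.univ.filter fun r : Fin D.nroots => P r.val).card ≤
      Nat.card ↥(rootClosure D K P) := by
  classical
  have hev := hF.nroots_even
  let ext : ({r : Fin D.nroots // P r.val} → K) → ℕ → K := fun t r =>
    if h : ∃ h' : r < D.nroots, P (⟨r, h'⟩ : Fin D.nroots).val then t ⟨⟨r, h.1⟩, h.2⟩ else 0
  have hmem : ∀ t, wU D ((List.range' (D.nroots / 2) (D.nroots / 2)).map fun r => (r, ext t r)) ∈
      rootClosure D K P := by
    intro t
    refine wU_mem fun p hp => ?_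
    obtain ⟨r, hr, rfl⟩ := List.mem_map.1 hp
    rw [List.mem_range'_1] at hr
    simp only [ext]
    split_ifs with h
    · exact xU_mem_rootClosure (P := P) h.1 h.2 _
    · rw [hF.xU_zero (by omega)]; exact Subgroup.one_mem _
  have hinj : Function.Injective fun t => (⟨_, hmem t⟩ : ↥(rootClosure D K P)) := by
    intro t t' h
    funext ⟨r, hr⟩
    have := hF.ordered_unique (by omega) le_rfl (Subtype.mk.inj h) r.val (hP r.val r.isLt hr) r.isLt
    simpa [ext, hr] using this
  have h1 := Nat.card_le_card_of_injective _ hinj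
  rwa [Nat.card_fun, Nat.card_eq_fintype_card (α := {r : Fin D.nroots // P r.val}),
    Fintype.card_subtype] at h1

include hF hC

omit [Finite K] in
theorem Facts.card_pos_unipotent :
    Nat.card ↥(rootClosure D K (D.nroots / 2 ≤ ·)) = Nat.card K ^ (D.nroots / 2) := by
  have h := Nat.card_eq_of_bijective _ (hF.bijective_ordered hC (K := K))
  rw [← h, Nat.card_fun, Nat.card_fin]

theorem Facts.card_flipClosure (σ : Equiv.Perm (Fin D.nroots)) {n : GL D.Idx K}
    (hn : PermAct n σ) : Nat.card ↥(rootClosure D K (PosFlip σ)) = Nat.card K ^ flipNum σ := by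
  classical
  have hev := hF.nroots_even
  have hfl : (Finset.univ.filter fun r : Fin D.nroots => PosFlip σ r.val).card = flipNum σ := by
    refine congrArg Finset.card (Finset.filter_congr fun r _ => ?_)
    exact ⟨fun ⟨_, h⟩ => h, fun h => ⟨r.isLt, h⟩⟩
  have hks : (Finset.univ.filter fun r : Fin D.nroots => PosKeep σ r.val).card + flipNum σ =
      D.nroots / 2 := by
    have h1 : (Finset.univ.filter fun r : Fin D.nroots => D.nroots / 2 ≤ r.val).card =
        D.nroots / 2 := by
      have := Finset.card_bij (s := Finset.univ.filter fun r : Fin D.nroots => D.nroots / 2 ≤ r.val)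
        (t := Finset.range (D.nroots / 2)) (fun r _ => r.val - D.nroots / 2)
        (fun r hr => by simp only [Finset.mem_range]; have := r.isLt; omega)
        (fun r hr r' hr' e => by
          simp only [Finset.mem_filter] at hr hr'
          ext; omega)
        (fun t ht => ⟨⟨D.nroots / 2 + t, by simp only [Finset.mem_range] at ht; omega⟩,
          by simp, by simp⟩)
      simpa using this
    rw [← hfl, ← Finset.card_union_of_disjoint]
    · refine (congrArg Finset.card ?_).trans h1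
      ext r
      simp only [Finset.mem_union, Finset.mem_filter, Finset.mem_univ, true_and]
      constructor
      · rintro (⟨_, h, _⟩ | ⟨_, h, _⟩) <;> exact h
      · intro h
        by_cases h2 : D.nroots / 2 ≤ (σ r).val
        · exact Or.inl ⟨r.isLt, h, h2⟩
        · exact Or.inr ⟨r.isLt, h, not_le.1 h2⟩
    · rw [Finset.disjoint_filter]
      intro r _ h1 h2
      obtain ⟨_, -, h1⟩ := h1
      obtain ⟨_, -, h2⟩ := h2
      exact absurd h2 (not_lt.2 h1)
  have hpk : rootClosure D K (PosKeep σ) ≤ rootClosure D K (D.nroots / 2 ≤ ·) :=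
    rootClosure_mono fun _ _ h => h.2.1
  have hpf : rootClosure D K (PosFlip σ) ≤ rootClosure D K (D.nroots / 2 ≤ ·) :=
    rootClosure_mono fun _ _ h => h.2.1
  have hbij : Function.Bijective (fun p : ↥(rootClosure D K (PosKeep σ)) ×
      ↥(rootClosure D K (PosFlip σ)) =>
      (⟨(p.1 : GL D.Idx K) * p.2, Subgroup.mul_mem _ (hpk p.1.2) (hpf p.2.2)⟩ :
        ↥(rootClosure D K (D.nroots / 2 ≤ ·)))) := by
    refine ⟨fun p p' e => ?_, fun g => ?_⟩
    · have e' : (p.1 : GL D.Idx K) * p.2 = (p'.1 : GL D.Idx K) * p'.2 := congrArg Subtype.val e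
      have hb : ∀ x : ↥(rootClosure D K (PosKeep σ)), n * (x : GL D.Idx K) * n⁻¹ ∈
          D.borelSubgroup K := fun x =>
        hF.pos_le_borel (hF.conj_rootClosure hn (fun s hs => hs.2.2) x.2)
      have h1 := hF.bruhat_unique (b := n * (p.1 : GL D.Idx K) * n⁻¹)
        (b' := n * (p'.1 : GL D.Idx K) * n⁻¹) (u := p.2) (u' := p'.2) hn (hb p.1) (hb p'.1)
        p.2.2 p'.2.2 (by
          rw [inv_mul_cancel_right, inv_mul_cancel_right, mul_assoc, mul_assoc, e'])
      exact Prod.ext (Subtype.ext (by simpa using h1.1)) (Subtype.ext h1.2)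
    · obtain ⟨a, ha, c, hc, e⟩ := hF.flip_decomp hC (σ := σ) (m := D.nroots / 2)
        (k := D.nroots / 2) (by omega) le_rfl g.2
      exact ⟨(⟨a, ha⟩, ⟨c, hc⟩), Subtype.ext e.symm⟩
  have hcard := Nat.card_eq_of_bijective _ hbij
  rw [Nat.card_prod, hF.card_pos_unipotent hC, ← hks, pow_add] at hcard
  have l1 := hF.card_le_rootClosure (K := K) (P := PosKeep σ) fun _ _ h => h.2.1
  have l2 := hF.card_le_rootClosure (K := K) (P := PosFlip σ) fun _ _ h => h.2.1
  rw [hfl] at l2
  refine le_antisymm ?_ l2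
  by_contra hc
  have := Nat.mul_lt_mul_of_le_of_lt l1 (not_le.1 hc) Nat.card_pos
  omega

omit [Finite K] in
theorem Facts.card_borel :
    Nat.card ↥(D.borelSubgroup K) =
      Nat.card K ^ (D.nroots / 2) * Nat.card ↥(D.diagonalSubgroup K) := by
  rw [← hF.card_pos_unipotent hC, ← Nat.card_prod]
  refine (Nat.card_eq_of_bijective (fun p : ↥(rootClosure D K (D.nroots / 2 ≤ ·)) ×
    ↥(D.diagonalSubgroup K) => (⟨(p.1 : GL D.Idx K) * p.2,
      Subgroup.mul_mem _ (hF.pos_le_borel p.1.2) (hF.diagonal_le_borel p.2.2)⟩ :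
        ↥(D.borelSubgroup K))) ⟨fun p p' e => ?_, fun g => ?_⟩).symm
  · have e' : (p.1 : GL D.Idx K) * p.2 = (p'.1 : GL D.Idx K) * p'.2 := congrArg Subtype.val e
    have h1 : (p'.1 : GL D.Idx K)⁻¹ * p.1 ∈
        rootClosure D K (D.nroots / 2 ≤ ·) ⊓ D.diagonalSubgroup K := by
      refine ⟨Subgroup.mul_mem _ (Subgroup.inv_mem _ p'.1.2) p.1.2, ?_⟩
      rw [show (p'.1 : GL D.Idx K)⁻¹ * p.1 = p'.2 * (p.2 : GL D.Idx K)⁻¹ by
        rw [eq_mul_inv_iff_mul_eq, mul_assoc, e', inv_mul_cancel_left]]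
      exact Subgroup.mul_mem _ p'.2.2 (Subgroup.inv_mem _ p.2.2)
    rw [hF.pos_inf_diagonal, Subgroup.mem_bot, inv_mul_eq_one] at h1
    rw [← h1, mul_right_inj] at e'
    exact Prod.ext (Subtype.ext h1.symm) (Subtype.ext e')
  · obtain ⟨u, hu, h, hh, e⟩ := hF.mem_borel_iff.1 g.2
    exact ⟨(⟨u, hu⟩, ⟨h, hh⟩), Subtype.ext e.symm⟩

/-- The order as a sum over the Weyl group. -/
theorem Facts.card_group :
    Nat.card ↥(D.group K) = Nat.card ↥(D.borelSubgroup K) *
      ∑ σ ∈ wFin D D.rank, Nat.card K ^ flipNum σ := by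
  classical
  have hw : ∀ σ : {σ // σ ∈ wFin D D.rank}, ∃ l : List (Fin D.rank), σ.1 = sW D l :=
    fun σ => mem_wFin_rank.1 σ.2
  choose w hw using hw
  have hact : ∀ σ, PermAct (nW D K (w σ)) σ.1 := fun σ => by
    rw [hw σ]; exact hF.permAct_nW _
  have hmem : ∀ (σ : {σ // σ ∈ wFin D D.rank}) (b : ↥(D.borelSubgroup K))
      (u : ↥(rootClosure D K (PosFlip σ.1))),
      (b : GL D.Idx K) * nW D K (w σ) * u ∈ D.group K := fun σ b u =>
    Subgroup.mul_mem _ (Subgroup.mul_mem _ (hF.borel_le_group b.2)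
      (hF.monomial_le_group (hF.nW_mem _)))
      (hF.pos_le_group (rootClosure_mono (fun _ _ h => h.2.1) u.2))
  have hbij : Function.Bijective (fun p : Σ σ : {σ // σ ∈ wFin D D.rank},
      ↥(D.borelSubgroup K) × ↥(rootClosure D K (PosFlip σ.1)) =>
        (⟨_, hmem p.1 p.2.1 p.2.2⟩ : ↥(D.group K))) := by
    refine ⟨?_, fun g => ?_⟩
    · rintro ⟨σ, b, u⟩ ⟨τ, b', u'⟩ e
      have e' : (b : GL D.Idx K) * nW D K (w σ) * u = (b' : GL D.Idx K) * nW D K (w τ) * u' :=
        congrArg Subtype.val e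
      have hh := hF.bruhat_eqv hC b.2 b'.2 (hF.nW_mem _) (hF.nW_mem _)
        (hF.pos_le_borel (rootClosure_mono (fun _ _ h => h.2.1) u.2))
        (hF.pos_le_borel (rootClosure_mono (fun _ _ h => h.2.1) u'.2)) e'
      have h2 := hF.permAct_unique (hF.permAct_mul (hF.permAct_inv (hF.nW_mem _) (hact σ)) (hact τ))
        (hF.permAct_diagonal hh)
      obtain rfl : σ = τ := Subtype.ext (inv_mul_eq_one.1 h2)
      obtain ⟨h3, h4⟩ := hF.bruhat_unique (hact σ) b.2 b'.2 u.2 u'.2 e'
      obtain rfl : b = b' := Subtype.ext h3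
      obtain rfl : u = u' := Subtype.ext h4
      rfl
    · obtain ⟨b, hb, n, hn, σ, hσ, u, hu, e⟩ := hF.bruhat_exists hC g.2
      obtain ⟨l, k, hk, rfl⟩ := hF.exists_nW hn
      have hσl : σ = sW D l := by
        have := hF.permAct_unique hσ (hF.permAct_mul (hF.permAct_nW l) (hF.permAct_diagonal hk))
        rwa [mul_one] at this
      let s : {σ // σ ∈ wFin D D.rank} := ⟨σ, mem_wFin_rank.2 ⟨l, hσl⟩⟩
      have hd : nW D K l * k * (nW D K (w s))⁻¹ ∈ D.diagonalSubgroup K := by
        refine hF.mem_diagonal_of_permAct (Subgroup.mul_mem _ hn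
          (Subgroup.inv_mem _ (hF.nW_mem _))) ?_
        have := hF.permAct_mul hσ (hF.permAct_inv (hF.nW_mem _) (hact s))
        rwa [mul_inv_cancel] at this
      refine ⟨⟨s, ⟨b * (nW D K l * k * (nW D K (w s))⁻¹),
        Subgroup.mul_mem _ hb (hF.diagonal_le_borel hd)⟩, ⟨u, hu⟩⟩, Subtype.ext ?_⟩
      show b * (nW D K l * k * (nW D K (w s))⁻¹) * nW D K (w s) * u = g
      rw [e, mul_assoc b, inv_mul_cancel_right]
  rw [← Nat.card_eq_of_bijective _ hbij, Nat.card_sigma, Finset.mul_sum,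
    ← Finset.sum_attach (wFin D D.rank), Finset.univ_eq_attach]
  exact Finset.sum_congr rfl fun σ _ => by
    rw [Nat.card_prod, hF.card_flipClosure hC σ.1 (hact σ)]

theorem Facts.card_group_formula {degs : List ℕ}
    (hP : ∀ x : ℤ, (∑ σ ∈ wFin D D.rank, x ^ flipNum σ) * (x - 1) ^ D.rank =
      (degs.map fun d => x ^ d - 1).prod) {m : ℕ}
    (hH : m * Nat.card ↥(D.diagonalSubgroup K) = (Nat.card K - 1) ^ D.rank) :
    m * Nat.card ↥(D.group K) =
      Nat.card K ^ (D.nroots / 2) * (degs.map fun d => Nat.card K ^ d - 1).prod := by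
  set q := Nat.card K with hq
  have hq1 : 1 ≤ q := Nat.card_pos
  have key : (q - 1) ^ D.rank * ∑ σ ∈ wFin D D.rank, q ^ flipNum σ =
      (degs.map fun d => q ^ d - 1).prod := by
    have := hP (q : ℤ)
    rw [mul_comm] at this
    apply Int.natCast_inj.1
    push_cast [Nat.cast_list_prod, List.map_map, Nat.cast_sub hq1]
    rw [this]
    congr 1
    refine List.map_congr_left fun d _ => ?_
    simp [Nat.cast_sub (Nat.one_le_pow d q hq1)]
  rw [hF.card_group hC, hF.card_borel hC, ← key, ← hH]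
  ring

end

end CfsgLib.Chev
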