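/-
Standard parabolic subgroups of a Chevalley group and their Levi decomposition.
-/
import Mathlib
import Cfsg.Agent.Lib.Chev.Struct

set_option autoImplicit false

namespace CfsgLib.Chev

open Cfsg.Lie

variable {D : ChevalleyDatum} {co : ℕ → ℕ → ℤ}

/-- The root lies in the span of the fundamental roots indexed by `J`. -/
def InSub (D : ChevalleyDatum) (co : ℕ → ℕ → ℤ) (J : Set ℕ) (r : ℕ) : Prop :=
  ∀ j < D.rank, j ∉ J → co r j = 0

open Classical in
/-- The degree of a root with respect to `J`. -/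
noncomputable def degJ (D : ChevalleyDatum) (co : ℕ → ℕ → ℤ) (J : Set ℕ) (r : ℕ) : ℤ :=
  ∑ j ∈ (Finset.range D.rank).filter (· ∉ J), co r j

namespace Facts

variable (hF : Facts D co)
include hF

theorem inRootSub_iff {J : Set ℕ} {r : ℕ} (hr : r < D.nroots) :
    D.InRootSub J r ↔ InSub D co J r := by
  refine ⟨fun h j hj hjJ => ?_, fun h => ⟨hr, fun j hj hjJ => ?_⟩⟩
  · rw [← hF.cor_supp r hr j hj]; exact h.2 j hj hjJ
  · exact (hF.cor_supp r hr j hj).2 (h j hj hjJ)

theorem inSub_neg {J : Set ℕ} {r : ℕ} (hr : r < D.nroots) (h : InSub D co J r) :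
    InSub D co J (D.neg r) := fun j hj hjJ => by rw [hF.co_neg r hr j hj, h j hj hjJ, neg_zero]

theorem isWeight_degJ (J : Set ℕ) : IsWeight D (degJ D co J) := by
  classical
  refine ⟨fun r hr => ?_, fun r hr s hs k h => ?_⟩
  · rw [degJ, degJ, ← Finset.sum_neg_distrib]
    exact Finset.sum_congr rfl fun j hj =>
      hF.co_neg r hr j (Finset.mem_range.1 (Finset.mem_filter.1 hj).1)
  · rw [degJ, degJ, degJ, ← Finset.sum_add_distrib]
    exact Finset.sum_congr rfl fun j hj =>
      hF.co_add r hr s hs k h j (Finset.mem_range.1 (Finset.mem_filter.1 hj).1)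

theorem degJ_eq_zero {J : Set ℕ} {r : ℕ} (h : InSub D co J r) : degJ D co J r = 0 := by
  have _ := hF
  classical
  refine Finset.sum_eq_zero fun j hj => ?_
  rw [Finset.mem_filter, Finset.mem_range] at hj
  exact h j hj.1 hj.2

theorem degJ_pos {J : Set ℕ} {r : ℕ} (hr : r < D.nroots) (hp : D.nroots / 2 ≤ r)
    (h : ¬ InSub D co J r) : 0 < degJ D co J r := by
  classical
  obtain ⟨j, hj, hjJ, hne⟩ : ∃ j < D.rank, j ∉ J ∧ co r j ≠ 0 := by
    simpa [InSub] using h
  refine Finset.sum_pos' (fun i hi => ?_) ⟨j, Finset.mem_filter.2 ⟨Finset.mem_range.2 hj, hjJ⟩, ?_⟩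
  · exact hF.co_nonneg r hr hp i (Finset.mem_range.1 (Finset.mem_filter.1 hi).1)
  · exact lt_of_le_of_ne (hF.co_nonneg r hr hp j hj) (Ne.symm hne)

/-- A positive root of the subsystem other than a fundamental one descends inside it. -/
theorem sub_step {J : Set ℕ} {r : ℕ} (hr : r < D.nroots) (hp : D.nroots / 2 ≤ r)
    (hJ : InSub D co J r) (hne : ∀ i < D.rank, r ≠ D.simple i) :
    ∃ i < D.rank, i ∈ J ∧ D.nroots / 2 ≤ D.reflectRoot i r ∧ D.reflectRoot i r < r ∧
      InSub D co J (D.reflectRoot i r) := by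
  obtain ⟨i, hi, h1, h2⟩ := hF.refl_step r hr hp hne
  have hiJ : i ∈ J := by
    by_contra hc
    have hs := hF.refl_lt i hi r hr
    have hlt := hF.omega_mono h2 hr
    have hge : omega D co r ≤ omega D co (D.reflectRoot i r) := by
      refine List.sum_le_sum fun j hj => ?_
      rw [List.mem_range] at hj
      refine mul_le_mul_of_nonneg_right ?_ (pow_nonneg (by norm_num) _)
      rw [hF.co_refl i hi r hr j hj]
      split_ifs with hij
      · subst hij
        have h3 := hF.co_nonneg _ hs h1 i hi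
        rw [hF.co_refl i hi r hr i hi, if_pos rfl, hJ i hi hc, zero_sub] at h3
        rw [hJ i hi hc]
        omega
      · rw [sub_zero]
    omega
  refine ⟨i, hi, hiJ, h1, h2, fun j hj hjJ => ?_⟩
  rw [hF.co_refl i hi r hr j hj, if_neg (fun e => hjJ (by rw [← e]; exact hiJ)), sub_zero,
    hJ j hj hjJ]

end Facts

section Groups

universe v

variable {K : Type v} [Field K] (hF : Facts D co)
include hF

theorem Facts.parabolic_gen (J : Set ℕ) {g : GL D.Idx K} :
    (∃ j ∈ J, j < D.rank ∧ (g : Matrix D.Idx D.Idx K) = D.nMat K (D.simple j) 1) ↔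
      ∃ j ∈ J, ∃ h : j < D.rank, g = nS D K ⟨j, h⟩ := by
  constructor
  · rintro ⟨j, hj, hjr, h⟩
    rw [← hF.nU_val (hF.simple_lt' hjr), Units.val_inj] at h
    exact ⟨j, hj, hjr, h⟩
  · rintro ⟨j, hj, hjr, rfl⟩
    exact ⟨j, hj, hjr, hF.nU_val (hF.simple_lt' hjr) 1⟩

theorem Facts.nS_mem_parabolic {J : Set ℕ} {j : ℕ} (hj : j ∈ J) (hjr : j < D.rank) :
    nS D K ⟨j, hjr⟩ ∈ D.parabolicSubgroup K J :=
  Subgroup.mem_sup_right (Subgroup.subset_closure ((hF.parabolic_gen J).2 ⟨j, hj, hjr, rfl⟩))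

theorem Facts.xU_sub_mem_parabolic {J : Set ℕ} : ∀ {r : ℕ}, r < D.nroots →
    D.nroots / 2 ≤ r → InSub D co J r → ∀ t : K,
      xU D r t ∈ D.parabolicSubgroup K J ∧ xU D (D.neg r) t ∈ D.parabolicSubgroup K J := by
  intro n
  induction n using Nat.strong_induction_on with
  | _ n ih =>
    intro hn hp hJ t
    have hB : D.borelSubgroup K ≤ D.parabolicSubgroup K J := le_sup_left
    by_cases hs : ∃ i < D.rank, n = D.simple i
    · obtain ⟨i, hi, rfl⟩ := hs
      have hiJ : i ∈ J := by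
        by_contra hc
        have := hJ i hi hc
        rw [hF.co_simple i hi i hi, if_pos rfl] at this
        exact absurd this one_ne_zero
      refine ⟨hB (hF.xU_mem_borel hn hp t), ?_⟩
      obtain ⟨η, h1, -, h3⟩ := hF.exists_eta (F := K) hi
      have := h3 _ hn ((η (D.simple i) : K) * t)
      rw [hF.refl_simple hi, show (η (D.simple i) : K) * ((η (D.simple i) : K) * t) = t by
        rcases h1 _ hn with h | h <;> simp [h], ← mul_inv_eq_iff_eq_mul] at this
      rw [← this]
      exact Subgroup.mul_mem _ (Subgroup.mul_mem _ (hF.nS_mem_parabolic hiJ hi)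
        (hB (hF.xU_mem_borel hn hp _))) (Subgroup.inv_mem _ (hF.nS_mem_parabolic hiJ hi))
    · push Not at hs
      obtain ⟨i, hi, hiJ, h1, h2, h4⟩ := hF.sub_step hn hp hJ hs
      have hs' := hF.refl_lt i hi n hn
      obtain ⟨η, e1, -, e3⟩ := hF.exists_eta (F := K) hi
      have key : ∀ q < D.nroots, (∀ u : K, xU D (D.reflectRoot i q) u ∈ D.parabolicSubgroup K J) →
          ∀ u : K, xU D q u ∈ D.parabolicSubgroup K J := by
        intro q hq h u
        have := e3 _ (hF.refl_lt i hi q hq) ((η (D.reflectRoot i q) : K) * u)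
        rw [hF.refl_invol i hi q hq,
          show (η (D.reflectRoot i q) : K) * ((η (D.reflectRoot i q) : K) * u) = u by
            rcases e1 _ (hF.refl_lt i hi q hq) with h | h <;> simp [h],
          ← mul_inv_eq_iff_eq_mul] at this
        rw [← this]
        exact Subgroup.mul_mem _ (Subgroup.mul_mem _ (hF.nS_mem_parabolic hiJ hi) (h _))
          (Subgroup.inv_mem _ (hF.nS_mem_parabolic hiJ hi))
      exact ⟨key n hn (fun u => (ih _ h2 hs' h1 h4 u).1) t,
        key _ (hF.neg_lt hn) (fun u => by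
          rw [hF.refl_neg i hi n hn]; exact (ih _ h2 hs' h1 h4 u).2) t⟩

/-- `P_J` is generated by `H` and the root subgroups for positive roots and roots of `Φ_J`. -/
theorem Facts.parabolic_eq (J : Set ℕ) :
    D.parabolicSubgroup K J = D.diagonalSubgroup K ⊔
      rootClosure D K (fun r => D.nroots / 2 ≤ r ∨ InSub D co J r) := by
  refine le_antisymm (sup_le ?_ ((Subgroup.closure_le _).2 ?_)) (sup_le ?_ ?_)
  · rw [hF.borel_eq]
    exact sup_le ((rootClosure_mono fun _ _ h => Or.inl h).trans le_sup_right) le_sup_left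
  · intro g hg
    obtain ⟨j, hj, hjr, rfl⟩ := (hF.parabolic_gen J).1 hg
    have hs : InSub D co J (D.simple j) := fun q hq hqJ => by
      rw [hF.co_simple j hjr q hq, if_neg]
      rintro rfl; exact hqJ hj
    exact hF.nU_mem (fun u => Subgroup.mem_sup_right
        (xU_mem_rootClosure (hF.simple_lt' hjr) (Or.inr hs) u))
      (fun u => Subgroup.mem_sup_right
        (xU_mem_rootClosure (hF.neg_lt (hF.simple_lt' hjr))
          (Or.inr (hF.inSub_neg (hF.simple_lt' hjr) hs)) u)) 1
  · exact hF.diagonal_le_borel.trans le_sup_left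
  · refine (Subgroup.closure_le _).2 ?_
    rintro g ⟨r, t, hr, hP, rfl⟩
    by_cases hp : D.nroots / 2 ≤ r
    · exact Subgroup.mem_sup_left (hF.xU_mem_borel hr hp t)
    · have hJ := hP.resolve_left hp
      have := (hF.xU_sub_mem_parabolic (K := K) (J := J) (hF.neg_lt hr)
        ((hF.neg_lt_half hr).2 (by omega)) (hF.inSub_neg hr hJ) t).2
      rwa [hF.neg_neg hr] at this

theorem Facts.parabolic_le_group (J : Set ℕ) : D.parabolicSubgroup K J ≤ D.group K := by
  rw [hF.parabolic_eq]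
  refine sup_le hF.diagonal_le_group ?_
  rw [hF.group_eq]
  exact rootClosure_mono fun _ _ _ => trivial

theorem Facts.radical_eq (J : Set ℕ) : D.unipotentRadical K J =
    rootClosure D K (fun r => D.nroots / 2 ≤ r ∧ ¬ InSub D co J r) := by
  refine congrArg Subgroup.closure (Set.ext fun g => ?_)
  constructor
  · rintro ⟨r, t, hp, hJ, hx⟩
    refine ⟨r, t, hp.1, ⟨(hF.isPos_iff r hp.1).1 hp, fun h => hJ ((hF.inRootSub_iff hp.1).2 h)⟩,
      (hF.eq_xU_iff hp.1).1 hx⟩
  · rintro ⟨r, t, hr, ⟨hp, hJ⟩, hx⟩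
    exact ⟨r, t, (hF.isPos_iff r hr).2 hp, fun h => hJ ((hF.inRootSub_iff hr).1 h),
      (hF.eq_xU_iff hr).2 hx⟩

theorem Facts.levi_eq (J : Set ℕ) : D.leviSubgroup K J =
    D.diagonalSubgroup K ⊔ rootClosure D K (InSub D co J) := by
  refine congrArg (D.diagonalSubgroup K ⊔ Subgroup.closure ·) (Set.ext fun g => ?_)
  constructor
  · rintro ⟨r, t, hJ, hx⟩
    exact ⟨r, t, hJ.1, (hF.inRootSub_iff hJ.1).1 hJ, (hF.eq_xU_iff hJ.1).1 hx⟩
  · rintro ⟨r, t, hr, hJ, hx⟩
    exact ⟨r, t, (hF.inRootSub_iff hr).2 hJ, (hF.eq_xU_iff hr).2 hx⟩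

theorem Facts.radical_inf_levi (J : Set ℕ) :
    D.unipotentRadical K J ⊓ D.leviSubgroup K J = ⊥ := by
  rw [hF.radical_eq, hF.levi_eq, eq_bot_iff]
  rintro g ⟨hu, hl⟩
  rw [Subgroup.mem_bot, ← Units.val_inj, Units.val_one]
  have hw := hF.isWeight_degJ J
  have xut : ∀ (r : ℕ), r < D.nroots → ∀ (k : ℤ) (w : ℕ → ℤ), IsWeight D w →
      0 ≤ w r → k ≤ w r → ∀ t : K,
        UT (wt D w) k ((xU D r t : GL D.Idx K) : Matrix D.Idx D.Idx K) := by
    intro r hr k w hw h0 hk t a b h
    rw [hF.xU_val' hr, xR, Finset.sum_range_succ', pow_zero, one_smul, divPow, map_one,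
      add_sub_cancel_right, Matrix.sum_apply] at h
    obtain ⟨m, -, hm⟩ := Finset.exists_ne_zero_of_sum_ne_zero h
    have hne : divPow D r (m + 1) a b ≠ 0 := fun e => hm (by simp [RingHom.mapMatrix_apply, e])
    have := hF.divPow_wt hw hr (m + 1) hne
    rw [nsmul_eq_mul] at this
    have := le_mul_of_one_le_left h0 (show (1 : ℤ) ≤ ((m + 1 : ℕ) : ℤ) by omega)
    omega
  have h1 : UT (wt D (degJ D co J)) 1 (g : Matrix D.Idx D.Idx K) := by
    refine ut_closure (by norm_num) ?_ hu
    rintro x ⟨r, t, hr, ⟨hp, hJ⟩, rfl⟩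
    have := hF.degJ_pos hr hp hJ
    rw [hF.xU_inv hr]
    exact ⟨xut r hr 1 _ hw this.le (by omega) t, xut r hr 1 _ hw this.le (by omega) (-t)⟩
  have hw' : IsWeight D (fun r => -degJ D co J r) :=
    ⟨fun r hr => by rw [hw.neg r hr], fun r hr s hs k h => by rw [hw.add r hr s hs k h, neg_add]⟩
  have h2 : UT (fun a => -wt D (degJ D co J) a) 0 (g : Matrix D.Idx D.Idx K) := by
    have e : (fun a => -wt D (degJ D co J) a) = wt D (fun r => -degJ D co J r) := by
      funext a; rcases a with i | s <;> simp [wt]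
    rw [e]
    rw [Subgroup.sup_eq_closure] at hl
    refine ut_closure le_rfl ?_ hl
    rintro x (hx | hx)
    · exact ⟨hF.diag_ut hx _, hF.diag_ut (Subgroup.inv_mem _ hx) _⟩
    · induction hx using Subgroup.closure_induction with
      | mem y hy =>
        obtain ⟨r, t, hr, hJ, rfl⟩ := hy
        have := hF.degJ_eq_zero hJ
        rw [hF.xU_inv hr]
        exact ⟨xut r hr 0 _ hw' (by simp [this]) (by simp [this]) t,
          xut r hr 0 _ hw' (by simp [this]) (by simp [this]) (-t)⟩
      | one => simpa using UT.one _ _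
      | mul a b _ _ ha hb =>
        rw [mul_inv_rev, Units.val_mul, Units.val_mul]
        exact ⟨ha.1.mul le_rfl hb.1, hb.2.mul le_rfl ha.2⟩
      | inv a _ ha => rw [inv_inv]; exact ⟨ha.2, ha.1⟩
  exact UT.eq_one (w := fun a => -wt D (degJ D co J) a) one_pos le_rfl
    (fun a b hab => by simpa using h1 a b hab) h2

theorem Facts.radical_sup_levi (J : Set ℕ) :
    D.unipotentRadical K J ⊔ D.leviSubgroup K J = D.parabolicSubgroup K J := by
  rw [hF.radical_eq, hF.levi_eq, hF.parabolic_eq]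
  refine le_antisymm (sup_le ?_ (sup_le le_sup_left ?_)) (sup_le ?_ ?_)
  · exact le_sup_of_le_right (rootClosure_mono fun _ _ h => Or.inl h.1)
  · exact le_sup_of_le_right (rootClosure_mono fun _ _ h => Or.inr h)
  · exact le_sup_of_le_right le_sup_left
  · refine (Subgroup.closure_le _).2 ?_
    rintro g ⟨r, t, hr, hP, rfl⟩
    by_cases hJ : InSub D co J r
    · exact Subgroup.mem_sup_right (Subgroup.mem_sup_right (xU_mem_rootClosure hr hJ t))
    · exact Subgroup.mem_sup_left (xU_mem_rootClosure hr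
        (P := fun r => D.nroots / 2 ≤ r ∧ ¬ InSub D co J r) ⟨hP.resolve_right hJ, hJ⟩ t)

variable (hC : CommF.{v} D)
include hC

theorem Facts.parabolic_le_normalizer (J : Set ℕ) :
    D.parabolicSubgroup K J ≤
      Subgroup.normalizer (D.unipotentRadical K J : Set (GL D.Idx K)) := by
  rw [hF.radical_eq, hF.parabolic_eq]
  refine sup_le (hF.diagonal_le_normalizer _)
    (hF.le_normalizer_rootClosure hC fun i hi hQ j hj hP => ⟨?_, fun _ c hc => ?_⟩)
  · intro e
    rcases hQ with h | h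
    · have := hP.1
      have := (hF.neg_lt_half hi).1 (e ▸ hP.1)
      omega
    · exact hP.2 (e ▸ hF.inSub_neg hi h)
  · obtain ⟨q, hq, hqJ, hne⟩ : ∃ q < D.rank, q ∉ J ∧ co j q ≠ 0 := by
      simpa [InSub] using hP.2
    have hjq : 0 < co j q := lt_of_le_of_ne (hF.co_nonneg j hj hP.1 q hq) (Ne.symm hne)
    have hiq : 0 ≤ co i q := by
      rcases hQ with h | h
      · exact hF.co_nonneg i hi h q hq
      · rw [h q hq hqJ]
    obtain ⟨hc1, -, hc2, hw⟩ := hF.commTerms_wt (hF.isWeight_co hq) hi hj hc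
    have hpos : 0 < co c.1 q := by
      simp only [nsmul_eq_mul] at hw
      rw [hw]
      positivity
    refine ⟨?_, fun h => by rw [h q hq hqJ] at hpos; omega⟩
    by_contra hn
    have h1 := hF.co_nonneg _ (hF.neg_lt hc1) ((hF.neg_lt_half hc1).2 (by omega)) q hq
    rw [hF.co_neg _ hc1 q hq] at h1
    omega

theorem Facts.normalizer_radical (J : Set ℕ) :
    Subgroup.normalizer (D.unipotentRadical K J : Set (GL D.Idx K)) ⊓ D.group K =
      D.parabolicSubgroup K J := by
  refine le_antisymm (fun g hg => ?_)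
    (le_inf (hF.parabolic_le_normalizer hC J) (hF.parabolic_le_group J))
  set P := hF.bnPair hC (K := K) with hP
  set M := ((Subgroup.normalizer (D.unipotentRadical K J : Set (GL D.Idx K)))).subgroupOf
    (D.group K) with hM
  have hB : P.B ≤ M := fun b hb =>
    hF.parabolic_le_normalizer hC J (Subgroup.mem_sup_left hb)
  have hgM : (⟨g, hg.2⟩ : ↥(D.group K)) ∈ M := hg.1
  rw [BN.eq_parabolic hB] at hgM
  have hle : P.parabolic (P.S ∩ (M : Set ↥(D.group K))) ≤
      (D.parabolicSubgroup K J).subgroupOf (D.group K) := by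
    refine sup_le (fun b hb => Subgroup.mem_sup_left hb) ((Subgroup.closure_le _).2 ?_)
    rintro ⟨n, hnG⟩ ⟨⟨i, hi, hni⟩, hnM⟩
    rw [← hF.nU_val (hF.simple_lt' hi), Units.val_inj] at hni
    simp only at hni
    subst hni
    by_cases hiJ : i ∈ J
    · exact hF.nS_mem_parabolic hiJ hi
    exfalso
    have hp := hF.simple_lt' hi
    have hp2 := (hF.simple_lt i hi).1
    have hx : xU D (D.simple i) (1 : K) ∈ D.unipotentRadical K J := by
      rw [hF.radical_eq]
      refine xU_mem_rootClosure hp ⟨hp2, fun h => ?_⟩ _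
      have := h i hi hiJ
      rw [hF.co_simple i hi i hi, if_pos rfl] at this
      exact one_ne_zero this
    have hc := (Subgroup.mem_normalizer_iff.1 hnM _).1 hx
    obtain ⟨η, h1, -, h3⟩ := hF.exists_eta (F := K) hi
    have h4 := h3 _ hp 1
    rw [hF.refl_simple hi, ← mul_inv_eq_iff_eq_mul] at h4
    change nU D (D.simple i) 1 * xU D (D.simple i) 1 * (nU D (D.simple i) 1)⁻¹ ∈ _ at hc
    rw [h4, hF.radical_eq] at hc
    have h5 : xU D (D.neg (D.simple i)) ((η (D.simple i) : K) * 1) ∈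
        D.borelSubgroup K ⊓ D.negUnipotent K := by
      refine ⟨hF.pos_le_borel (rootClosure_mono (fun _ _ h => h.1) hc), ?_⟩
      rw [hF.negUnipotent_eq]
      refine xU_mem_rootClosure (hF.neg_lt hp) ?_ _
      have := hF.neg_lt_half hp
      omega
    rw [hF.borel_inf_neg, Subgroup.mem_bot] at h5
    have := hF.xU_eq_one (hF.neg_lt hp) h5
    rcases h1 _ hp with h | h <;> simp [h] at this
  exact hle hgM

end Groups

end CfsgLib.Chev
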