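/-
Homomorphisms out of `SL₂(F)` from rank one relations, and the rank one subgroups of a Chevalley
group.
-/
import Mathlib
import Cfsg.Agent.Lib.Chev.Bruhat

set_option autoImplicit false

namespace CfsgLib.Chev

open Cfsg.Lie
open scoped Matrix MatrixGroups

section RankOne

/-- The relations between root elements, torus and Weyl element in rank one. -/
structure RankOne {F G : Type*} [Field F] [Group G] (x y : F → G) (h : Fˣ →* G) (n : G) : Prop where
  x_add : ∀ s t, x (s + t) = x s * x t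
  y_add : ∀ s t, y (s + t) = y s * y t
  hx : ∀ (a : Fˣ) (t : F), h a * x t * (h a)⁻¹ = x ((a : F) ^ 2 * t)
  key : ∀ u : Fˣ, x (u : F) * y (-(u : F)⁻¹) * x (u : F) = h u * n
  nx : ∀ t, n * x t * n⁻¹ = y (-t)
  sq : n * n = h (-1)

variable {F G : Type*} [Field F] [Group G] {x y : F → G} {h : Fˣ →* G} {n : G}

open Classical in
/-- The value on a matrix, read off its Bruhat form. -/
noncomputable def r1Fun (x : F → G) (h : Fˣ →* G) (n : G) (g : SL(2, F)) : G :=
  if hc : g 1 0 = 0 then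
    (if ha : g 0 0 = 0 then 1 else h (Units.mk0 _ ha) * x (g 0 1 / g 0 0))
  else x (g 0 0 / g 1 0) * h (-(Units.mk0 _ hc)⁻¹) * n * x (g 1 1 / g 1 0)

theorem sl2_det (g : SL(2, F)) : g 0 0 * g 1 1 - g 0 1 * g 1 0 = 1 := by
  have := g.2
  rwa [Matrix.det_fin_two] at this

/-- An upper unitriangular matrix. -/
def upM (t : F) : SL(2, F) := ⟨!![1, t; 0, 1], by simp [Matrix.det_fin_two]⟩

/-- The Weyl matrix. -/
def wM : SL(2, F) := ⟨!![0, 1; -1, 0], by simp [Matrix.det_fin_two]⟩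

theorem upM_mul_apply (g : SL(2, F)) (t : F) :
    ((g * upM t : SL(2, F)) 0 0 = g 0 0) ∧ ((g * upM t : SL(2, F)) 0 1 = g 0 0 * t + g 0 1) ∧
    ((g * upM t : SL(2, F)) 1 0 = g 1 0) ∧ ((g * upM t : SL(2, F)) 1 1 = g 1 0 * t + g 1 1) := by
  simp only [Matrix.SpecialLinearGroup.coe_mul]
  simp [upM, Matrix.mul_apply, Fin.sum_univ_two]

theorem wM_mul_apply (g : SL(2, F)) :
    ((g * wM : SL(2, F)) 0 0 = -g 0 1) ∧ ((g * wM : SL(2, F)) 0 1 = g 0 0) ∧
    ((g * wM : SL(2, F)) 1 0 = -g 1 1) ∧ ((g * wM : SL(2, F)) 1 1 = g 1 0) := by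
  simp only [Matrix.SpecialLinearGroup.coe_mul]
  simp [wM, Matrix.mul_apply, Fin.sum_univ_two]

theorem r1Fun_pos {g : SL(2, F)} (hc : g 1 0 = 0) (a : Fˣ) (ha : g 0 0 = a) :
    r1Fun x h n g = h a * x (g 0 1 / g 0 0) := by
  have ha' : g 0 0 ≠ 0 := ha ▸ a.ne_zero
  rw [r1Fun, dif_pos hc, dif_neg ha', show Units.mk0 _ ha' = a from Units.ext ha]

theorem r1Fun_neg {g : SL(2, F)} (hc : g 1 0 ≠ 0) (e : Fˣ) (he : (e : F) = -(g 1 0)⁻¹) :
    r1Fun x h n g = x (g 0 0 / g 1 0) * h e * n * x (g 1 1 / g 1 0) := by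
  rw [r1Fun, dif_neg hc, show -(Units.mk0 _ hc)⁻¹ = e from Units.ext (by simp [he])]

variable (R : RankOne x y h n)
include R

theorem RankOne.x_zero : x 0 = 1 := by
  have := R.x_add 0 0
  rwa [add_zero, left_eq_mul] at this

theorem RankOne.hx' (a : Fˣ) (t : F) : h a * x t = x ((a : F) ^ 2 * t) * h a := by
  rw [← R.hx a t, inv_mul_cancel_right]

theorem RankOne.r1Fun_upM (t : F) : r1Fun x h n (upM t) = x t := by
  have _ := R
  rw [r1Fun_pos (by simp [upM]) (1 : Fˣ) (by simp [upM]), map_one, one_mul]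
  simp [upM]

theorem RankOne.r1Fun_wM : r1Fun x h n (wM : SL(2, F)) = n := by
  rw [r1Fun_neg (by simp [wM]) (1 : Fˣ) (by simp [wM])]
  simp [wM, R.x_zero]

theorem RankOne.mul_upM (g : SL(2, F)) (t : F) :
    r1Fun x h n (g * upM t) = r1Fun x h n g * x t := by
  obtain ⟨e00, e01, e10, e11⟩ := upM_mul_apply g t
  have hd := sl2_det g
  by_cases hc : g 1 0 = 0
  · have ha : g 0 0 ≠ 0 := by intro h0; rw [h0, hc] at hd; simp at hd
    rw [r1Fun_pos (e10.trans hc) (Units.mk0 _ ha) e00, r1Fun_pos hc (Units.mk0 _ ha) rfl,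
      mul_assoc, ← R.x_add, e00, e01]
    congr 2
    field_simp
    ring
  · rw [r1Fun_neg (by rwa [e10]) (-(Units.mk0 _ hc)⁻¹) (by simp [e10]),
      r1Fun_neg hc (-(Units.mk0 _ hc)⁻¹) (by simp), mul_assoc _ (x (g 1 1 / g 1 0)), ← R.x_add,
      e00, e10, e11]
    congr 2
    field_simp
    ring

theorem RankOne.h_sq_comm (t : F) : h (-1) * x t = x t * h (-1) := by
  rw [R.hx']; simp

theorem RankOne.n_comm : n * h (-1) = h (-1) * n := by rw [← R.sq, mul_assoc]

theorem RankOne.mul_wM (g : SL(2, F)) : r1Fun x h n (g * wM) = r1Fun x h n g * n := by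
  obtain ⟨e00, e01, e10, e11⟩ := wM_mul_apply g
  have hdet := sl2_det g
  by_cases hc : g 1 0 = 0
  · have ha : g 0 0 ≠ 0 := by intro h0; rw [h0, hc] at hdet; simp at hdet
    have hd : g 1 1 ≠ 0 := by intro h0; rw [h0, hc] at hdet; simp at hdet
    have hda : g 1 1 = (g 0 0)⁻¹ := eq_inv_of_mul_eq_one_right (by
      rw [hc, mul_zero, sub_zero] at hdet; exact hdet)
    rw [r1Fun_neg (by rw [e10]; exact neg_ne_zero.2 hd) (Units.mk0 _ ha)
        (by simp [e10, hda]), r1Fun_pos hc (Units.mk0 _ ha) rfl, R.hx', e00, e10, e11, hc,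
      zero_div, R.x_zero, mul_one]
    congr 3
    rw [Units.val_mk0, hda]
    field_simp
  · by_cases hd : g 1 1 = 0
    · have hb : g 0 1 = -(g 1 0)⁻¹ := by
        rw [hd, mul_zero, zero_sub] at hdet
        have := eq_inv_of_mul_eq_one_left (show -(g 0 1) * g 1 0 = 1 by rw [neg_mul]; exact hdet)
        rw [← this, _root_.neg_neg]
      rw [r1Fun_pos (g := g * wM) (by rw [e10, hd, neg_zero]) (Units.mk0 _ hc)⁻¹
          (by simp [e00, hb]), r1Fun_neg hc (-(Units.mk0 _ hc)⁻¹) (by simp), hd, zero_div,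
        R.x_zero, mul_one, mul_assoc, mul_assoc, R.sq, ← map_mul, R.hx', e00, e01, hb]
      have e : -(Units.mk0 _ hc)⁻¹ * -1 = (Units.mk0 _ hc)⁻¹ := by simp
      rw [e]
      congr 2
      simp only [Units.val_inv_eq_inv_val, Units.val_mk0]
      field_simp
    · -- the generic case
      set c := g 1 0
      set d := g 1 1
      have hu : (c / d : F) ≠ 0 := div_ne_zero hc hd
      have hk := R.key (Units.mk0 _ hu)
      simp only [Units.val_mk0, inv_div] at hk
      have hy : y (-(d / c)) = x (-(c / d)) * (h (Units.mk0 _ hu) * n) * x (-(c / d)) := by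
        rw [← hk, ← mul_assoc, ← mul_assoc, ← R.x_add, neg_add_cancel, R.x_zero, one_mul,
          mul_assoc, ← R.x_add, add_neg_cancel, R.x_zero, mul_one]
      have hnx : n * x (d / c) * n = x (-(c / d)) * h (-Units.mk0 _ hu) * n * x (-(c / d)) := by
        have := R.nx (d / c)
        rw [mul_inv_eq_iff_eq_mul] at this
        rw [this, mul_assoc, R.sq, hy, mul_assoc _ (x _) (h (-1)), ← R.h_sq_comm,
          ← neg_one_mul (Units.mk0 _ hu), map_mul]
        rw [show h (-1) * h (Units.mk0 _ hu) = h (Units.mk0 _ hu) * h (-1) by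
          rw [← map_mul, ← map_mul, mul_comm]]
        simp only [mul_assoc]
        rw [← mul_assoc n (h (-1)), R.n_comm, mul_assoc]
      rw [r1Fun_neg (g := g * wM) (by rw [e10]; exact neg_ne_zero.2 hd) (Units.mk0 d hd)⁻¹
          (by simp [e10]), r1Fun_neg hc (-(Units.mk0 _ hc)⁻¹) (by simp; rfl), e00, e10, e11]
      rw [mul_assoc _ (x (d / c)) n, mul_assoc _ n (x (d / c) * n), ← mul_assoc n, hnx]
      simp only [← mul_assoc]
      rw [mul_assoc (x (g 0 0 / c)) (h _) (x (-(c / d))), R.hx', ← mul_assoc, ← R.x_add,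
        mul_assoc _ (h _) (h _), ← map_mul]
      have e : -(Units.mk0 c hc)⁻¹ * -Units.mk0 _ hu = (Units.mk0 d hd)⁻¹ := by
        ext
        simp only [neg_mul_neg, Units.val_mul, Units.val_inv_eq_inv_val, Units.val_mk0]
        field_simp
      rw [e]
      congr 4
      · simp only [Units.val_neg, Units.val_inv_eq_inv_val, Units.val_mk0]
        field_simp
        linear_combination -hdet
      · ring

theorem sl2_gen (g : SL(2, F)) :
    g ∈ Submonoid.closure ({wM} ∪ Set.range (upM : F → SL(2, F))) := by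
  have _ := R
  set S := Submonoid.closure ({wM} ∪ Set.range (upM : F → SL(2, F)))
  have hw : (wM : SL(2, F)) ∈ S := Submonoid.subset_closure (Or.inl rfl)
  have hu : ∀ t : F, upM t ∈ S := fun t => Submonoid.subset_closure (Or.inr ⟨t, rfl⟩)
  have key : ∀ g : SL(2, F), g 1 0 ≠ 0 → g ∈ S := by
    intro g hc
    -- `x(a/c) h(-1/c) w x(d/c)` with `h` written in `x` and `w`
    have hh : ∀ s : Fˣ, ∀ v u : F,
        upM v * (upM (s : F) * wM * upM (s : F)⁻¹ * (wM * (wM * wM)) * upM (s : F)) * upM u ∈ S :=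
      fun s v u => S.mul_mem (S.mul_mem (hu _) (S.mul_mem (S.mul_mem (S.mul_mem (S.mul_mem (hu _) hw)
        (hu _)) (S.mul_mem hw (S.mul_mem hw hw))) (hu _))) (hu _)
    have hd := sl2_det g
    convert hh (-(Units.mk0 _ hc)⁻¹) (g 0 0 / g 1 0) (g 1 1 / g 1 0) using 1
    apply Subtype.ext
    simp only [Matrix.SpecialLinearGroup.coe_mul]
    ext i j
    fin_cases i <;> fin_cases j <;>
      simp [upM, wM, Matrix.mul_apply, Fin.sum_univ_two] <;>
      field_simp <;> first | linear_combination hd | linear_combination -hd | linear_combination (-2 : F) * hd | ring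
  by_cases hc : g 1 0 = 0
  · have hd := sl2_det g
    have : (g * wM : SL(2, F)) 1 0 ≠ 0 := by
      rw [(wM_mul_apply g).2.2.1, neg_ne_zero]
      intro h0; rw [h0, hc] at hd; simp at hd
    have h1 := S.mul_mem (key _ this) (S.mul_mem hw (S.mul_mem hw hw))
    have e : (wM : SL(2, F)) * (wM * (wM * wM)) = 1 := by
      apply Subtype.ext
      simp only [Matrix.SpecialLinearGroup.coe_mul]
      simp [wM, Matrix.one_fin_two]
    rwa [mul_assoc g, e, mul_one] at h1
  · exact key g hc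

theorem RankOne.exists_hom :
    ∃ φ : SL(2, F) →* G, (∀ g : SL(2, F), φ g ∈ Subgroup.closure (Set.range x ∪ Set.range y)) ∧
      ∀ (g : SL(2, F)) (t : F),
        ((g : Matrix (Fin 2) (Fin 2) F) = !![1, t; 0, 1] → φ g = x t) ∧
        ((g : Matrix (Fin 2) (Fin 2) F) = !![1, 0; t, 1] → φ g = y t) := by
  have hgen : ∀ s g : SL(2, F), r1Fun x h n (g * s) = r1Fun x h n g * r1Fun x h n s := by
    intro s
    induction sl2_gen R s using Submonoid.closure_induction with
    | mem s hs =>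
      intro g
      rcases hs with rfl | ⟨t, rfl⟩
      · rw [R.mul_wM, R.r1Fun_wM]
      · rw [R.mul_upM, R.r1Fun_upM]
    | one =>
      intro g
      have := R.r1Fun_upM 0
      rw [show (upM (0 : F)) = 1 from Subtype.ext (by simp [upM, Matrix.one_fin_two]), R.x_zero]
        at this
      rw [mul_one, this, mul_one]
    | mul a b _ _ ha hb => intro g; rw [← mul_assoc, hb, ha, hb a, mul_assoc]
  let φ : SL(2, F) →* G := MonoidHom.mk' (r1Fun x h n) fun a b => hgen b a
  set S := Subgroup.closure (Set.range x ∪ Set.range y)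
  have hxS : ∀ t, x t ∈ S := fun t => Subgroup.subset_closure (Or.inl ⟨t, rfl⟩)
  have hyS : ∀ t, y t ∈ S := fun t => Subgroup.subset_closure (Or.inr ⟨t, rfl⟩)
  have hn : n ∈ S := by
    have := R.key 1
    rw [map_one, one_mul] at this
    rw [← this]
    exact S.mul_mem (S.mul_mem (hxS _) (hyS _)) (hxS _)
  have hhS : ∀ a, h a ∈ S := fun a => by
    rw [eq_mul_inv_of_mul_eq (R.key a).symm]
    exact S.mul_mem (S.mul_mem (S.mul_mem (hxS _) (hyS _)) (hxS _)) (S.inv_mem hn)
  refine ⟨φ, fun g => ?_, fun g t => ⟨fun hg => ?_, fun hg => ?_⟩⟩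
  · show r1Fun x h n g ∈ S
    unfold r1Fun
    split_ifs
    · exact S.one_mem
    · exact S.mul_mem (hhS _) (hxS _)
    · exact S.mul_mem (S.mul_mem (S.mul_mem (hxS _) (hhS _)) hn) (hxS _)
  · rw [show g = upM t from Subtype.ext hg]
    exact R.r1Fun_upM t
  · show r1Fun x h n g = y t
    have e00 : g 0 0 = 1 := by rw [hg]; simp
    have e01 : g 0 1 = 0 := by rw [hg]; simp
    have e10 : g 1 0 = t := by rw [hg]; simp
    have e11 : g 1 1 = 1 := by rw [hg]; simp
    by_cases ht : t = 0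
    · have y0 : y 0 = 1 := by
        have := R.y_add 0 0
        rwa [add_zero, left_eq_mul] at this
      rw [r1Fun_pos (e10.trans ht) (1 : Fˣ) (by simp [e00]), e01, zero_div, R.x_zero, map_one,
        one_mul, ht, y0]
    · rw [r1Fun_neg (by rwa [e10]) (-(Units.mk0 _ ht)⁻¹) (by simp [e10]), e00, e10, e11]
      have hk := R.key (-(Units.mk0 _ ht)⁻¹)
      simp only [Units.val_neg, Units.val_inv_eq_inv_val, Units.val_mk0, inv_neg, inv_inv,
        _root_.neg_neg] at hk
      rw [one_div, mul_assoc _ (h _) n, ← hk]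
      simp only [← mul_assoc]
      rw [← R.x_add, add_neg_cancel, R.x_zero, one_mul, mul_assoc, ← R.x_add, neg_add_cancel,
        R.x_zero, mul_one]

end RankOne

/-! ### The rank one subgroups of a Chevalley group -/

variable {D : ChevalleyDatum} {co : ℕ → ℕ → ℤ} {F : Type*} [Field F]

namespace Facts

variable (hF : Facts D co)
include hF

theorem prE_self {r : ℕ} (hr : r < D.nroots) : prE D r r = 2 := hF.cor_pair r hr

/-- The homomorphism `t ↦ h_r(t)`. -/
noncomputable def hHom {r : ℕ} (hr : r < D.nroots) : Fˣ →* GL D.Idx F :=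
  MonoidHom.mk' (fun t => hU D r (t : F)) fun s t => by
    rw [hF.hU_eq hr, hF.hU_eq hr, hF.hU_eq hr, dU_mul]
    exact dU_congr fun q _ => mul_zpow _ _ _

theorem hU_conj_xU {r : ℕ} (hr : r < D.nroots) {q : ℕ} (hq : q < D.nroots) (a : Fˣ) (t : F) :
    hU D r (a : F) * xU D q t * (hU D r (a : F))⁻¹ = xU D q (((a ^ prE D r q : Fˣ) : F) * t) := by
  rw [hF.hU_eq hr, hF.dU_conj (hF.isWeight_prChar hr a) hq, mul_inv_cancel_right]
  rfl

theorem nU_sq {r : ℕ} (hr : r < D.nroots) :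
    nU D r (1 : F) * nU D r 1 = hU D r ((-1 : Fˣ) : F) := by
  have h1 : hU D r ((-1 : Fˣ) : F) * hU D r ((-1 : Fˣ) : F) = 1 := by
    rw [hF.hU_eq hr, dU_mul, ← dU_one]
    exact dU_congr fun q _ => by simp [prChar, ← mul_zpow]
  rw [eq_comm, ← inv_eq_of_mul_eq_one_right h1, Units.val_neg, Units.val_one, hU, mul_inv_rev,
    hF.nU_inv hr, _root_.neg_neg]

theorem nU_conj_self {r : ℕ} (hr : r < D.nroots) :
    ∀ t : F, nU D r 1 * xU D r t * (nU D r 1)⁻¹ = xU D (D.neg r) (-t) := by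
  refine hF.root_induction (P := fun r => ∀ t : F,
    nU D r 1 * xU D r t * (nU D r 1)⁻¹ = xU D (D.neg r) (-t))
    (fun i hi t => ?_) (fun i hi s hs ih t => ?_) hr
  · obtain ⟨η, -, hp, -, -, h3⟩ := hF.nProd_eq i hi
    have hs := hF.simple_lt' hi
    rw [mul_inv_eq_iff_eq_mul]
    ext1
    rw [Units.val_mul, Units.val_mul, hF.nU_simple_val hi, hF.xU_val' hs,
      hF.xU_val' (hF.neg_lt hs), hF.castM_nProd_mul_xR hi h3 hs, hF.refl_simple hi, hp]
    simp
  · obtain ⟨η, h1, h2, h3⟩ := hF.exists_eta (F := F) hi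
    have hs' := hF.refl_lt i hi s hs
    set c := nU D (D.simple i) (1 : F) with hc
    have cx : ∀ q < D.nroots, ∀ u : F,
        c * xU D q u * c⁻¹ = xU D (D.reflectRoot i q) ((η q : F) * u) := fun q hq u => by
      rw [hc, h3 q hq, mul_inv_cancel_right]
    have cn := hF.nU_conj hi h1 h2 h3 hs (1 : F)
    rw [mul_one, ← hc] at cn
    set e := (η s : F) with he
    have ee : e * e = 1 := by rcases h1 s hs with h | h <;> simp [he, h]
    have key : nU D (D.reflectRoot i s) e * xU D (D.reflectRoot i s) t *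
        (nU D (D.reflectRoot i s) e)⁻¹ = xU D (D.neg (D.reflectRoot i s)) (-t) := by
      have h4 := congrArg (fun g => c * g * c⁻¹) (ih (e * t))
      rw [cx _ (hF.neg_lt hs), hF.refl_neg i hi s hs, h2 s hs, ← he,
        show e * -(e * t) = -t by rw [mul_neg, ← mul_assoc, ee, one_mul]] at h4
      rw [← h4, ← cn, show xU D (D.reflectRoot i s) t = c * xU D s (e * t) * c⁻¹ by
        rw [cx s hs, ← he, ← mul_assoc, ee, one_mul]]
      group
    rcases h1 s hs with h | h
    · rwa [he, h, Int.cast_one] at key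
    · rw [he, h, Int.cast_neg, Int.cast_one] at key
      set N := nU D (D.reflectRoot i s) (1 : F) with hN
      rw [← hF.nU_inv hs', ← hN, inv_inv] at key
      have hN2 : N * N = hU D (D.reflectRoot i s) ((-1 : Fˣ) : F) := hF.nU_sq hs'
      have hw := hF.hU_conj_xU hs' (hF.neg_lt hs') (-1 : Fˣ) (-t)
      have hpe : prE D (D.reflectRoot i s) (D.neg (D.reflectRoot i s)) = -2 := by
        rw [(hF.isWeight_prE hs').neg _ hs', hF.prE_self hs']
      rw [hpe, ← hN2, ← key] at hw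
      have h1' : ((((-1 : Fˣ) ^ (-2 : ℤ) : Fˣ) : F)) * -t = -t := by norm_num
      rw [h1'] at hw
      rw [← key]
      calc N * xU D (D.reflectRoot i s) t * N⁻¹
          = N * N * (N⁻¹ * xU D (D.reflectRoot i s) t * N) * (N * N)⁻¹ := by group
        _ = _ := by rw [hw, key]

theorem rankOne {r : ℕ} (hr : r < D.nroots) :
    RankOne (fun t : F => xU D r t) (fun t : F => xU D (D.neg r) t) (hF.hHom hr) (nU D r 1) where
  x_add s t := (hF.xU_add hr s t).symm
  y_add s t := (hF.xU_add (hF.neg_lt hr) s t).symm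
  hx a t := by
    refine (hF.hU_conj_xU hr hr a t).trans ?_
    rw [hF.prE_self hr, show (2 : ℤ) = ((2 : ℕ) : ℤ) from rfl, zpow_natCast, Units.val_pow_eq_pow_val]
  key u := by
    show nU D r (u : F) = hU D r (u : F) * nU D r 1
    rw [hU, mul_assoc, ← hF.nU_inv hr, inv_mul_cancel, mul_one]
  nx := hF.nU_conj_self hr
  sq := hF.nU_sq hr

theorem exists_sl2Hom {r : ℕ} (hr : r < D.nroots) :
    ∃ φ : SL(2, F) →* GL D.Idx F,
      φ.range = D.rootSubgroup F r ⊔ D.rootSubgroup F (D.neg r) ∧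
      ∀ (g : SL(2, F)) (t : F),
        ((g : Matrix (Fin 2) (Fin 2) F) = !![1, t; 0, 1] →
          ((φ g : GL D.Idx F) : Matrix D.Idx D.Idx F) = D.x F r t) ∧
        ((g : Matrix (Fin 2) (Fin 2) F) = !![1, 0; t, 1] →
          ((φ g : GL D.Idx F) : Matrix D.Idx D.Idx F) = D.x F (D.neg r) t) := by
  obtain ⟨φ, hr1, hv⟩ := (hF.rankOne (F := F) hr).exists_hom
  have hn := hF.neg_lt hr
  refine ⟨φ, le_antisymm ?_ (sup_le ?_ ?_), fun g t => ⟨fun hg => ?_, fun hg => ?_⟩⟩
  · rintro _ ⟨g, rfl⟩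
    refine (Subgroup.closure_le _).2 ?_ (hr1 g)
    rintro _ (⟨t, rfl⟩ | ⟨t, rfl⟩)
    · exact Subgroup.mem_sup_left ((hF.mem_rootSubgroup_iff hr).2 ⟨t, rfl⟩)
    · exact Subgroup.mem_sup_right ((hF.mem_rootSubgroup_iff hn).2 ⟨t, rfl⟩)
  · intro g hg
    obtain ⟨t, rfl⟩ := (hF.mem_rootSubgroup_iff hr).1 hg
    exact ⟨upM t, (hv _ t).1 rfl⟩
  · intro g hg
    obtain ⟨t, rfl⟩ := (hF.mem_rootSubgroup_iff hn).1 hg
    exact ⟨⟨!![1, 0; t, 1], by simp [Matrix.det_fin_two]⟩, (hv _ t).2 rfl⟩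
  · rw [(hv g t).1 hg, hF.xU_val hr]
  · rw [(hv g t).2 hg, hF.xU_val hn]

end Facts

end CfsgLib.Chev
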