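/-
Reflections in arbitrary roots, linear independence of pairs of roots, and weights positive on
half-spaces.
-/
import Mathlib
import Cfsg.Agent.Lib.Chev.Bruhat

set_option autoImplicit false

namespace CfsgLib.Chev

open Cfsg.Lie

variable {D : ChevalleyDatum} {co : ℕ → ℕ → ℤ}

namespace Facts

variable (hF : Facts D co)
include hF

theorem co_refl_expand {i : ℕ} (hi : i < D.rank) {s : ℕ} (hs : s < D.nroots) {j : ℕ}
    (hj : j < D.rank) : co (D.reflectRoot i s) j = co s j -
      if i = j then ∑ q ∈ Finset.range D.rank, co s q * D.cartan i (D.simple q) else 0 := by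
  rw [hF.co_refl i hi s hs j hj, hF.cartan_eq_sum hi hs]

/-- Two roots with proportional coefficient vectors are equal up to sign. -/
theorem eq_of_proportional {r : ℕ} (hr : r < D.nroots) :
    ∀ {s : ℕ}, s < D.nroots → ∀ {a b : ℤ}, a ≠ 0 →
      (∀ j < D.rank, a * co s j = b * co r j) → s = r ∨ s = D.neg r := by
  refine hF.root_induction (P := fun r => ∀ {s : ℕ}, s < D.nroots → ∀ {a b : ℤ}, a ≠ 0 →
      (∀ j < D.rank, a * co s j = b * co r j) → s = r ∨ s = D.neg r)
    (fun i hi s hs a b ha h => ?_) (fun i hi r hr ih s hs a b ha h => ?_) hr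
  · have h0 : ∀ j < D.rank, j ≠ i → co s j = 0 := fun j hj hji => by
      have := h j hj
      rw [hF.co_simple i hi j hj, if_neg (Ne.symm hji), mul_zero] at this
      exact (mul_eq_zero.1 this).resolve_left ha
    by_cases hp : D.nroots / 2 ≤ s
    · left
      by_contra hne
      obtain ⟨j, hj, hji, hpos⟩ := hF.exists_co_pos hi hs hp hne
      rw [h0 j hj hji] at hpos
      exact lt_irrefl _ hpos
    · right
      rw [← hF.neg_neg hs]
      congr 1
      by_contra hne
      obtain ⟨j, hj, hji, hpos⟩ :=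
        hF.exists_co_pos hi (hF.neg_lt hs) ((hF.neg_lt_half hs).2 (by omega)) hne
      rw [hF.co_neg s hs j hj, h0 j hj hji, neg_zero] at hpos
      exact lt_irrefl _ hpos
  · have hw := hF.refl_lt i hi s hs
    have key : ∀ j < D.rank, a * co (D.reflectRoot i s) j = b * co r j := by
      intro j hj
      have e : co r j = co (D.reflectRoot i (D.reflectRoot i r)) j := by
        rw [hF.refl_invol i hi r hr]
      rw [e, hF.co_refl_expand hi hs hj, hF.co_refl_expand hi (hF.refl_lt i hi r hr) hj, mul_sub,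
        mul_sub, h j hj]
      congr 1
      split_ifs
      · rw [Finset.mul_sum, Finset.mul_sum]
        exact Finset.sum_congr rfl fun q hq => by
          rw [← mul_assoc, ← mul_assoc, h q (Finset.mem_range.1 hq)]
      · ring
    rcases ih hw ha key with e | e
    · left; rw [← hF.refl_invol i hi s hs, e]
    · right; rw [← hF.refl_invol i hi s hs, e, hF.refl_neg i hi r hr]

/-- The reflection in an arbitrary root. -/
theorem exists_reflection {F : Type*} [Field F] {r : ℕ} (hr : r < D.nroots) :
    ∃ σ : Equiv.Perm (Fin D.nroots), (∀ c : F, c ≠ 0 → PermAct (nU D r c) σ) ∧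
      ∀ (s : Fin D.nroots) (j : ℕ), j < D.rank →
        co (σ s).val j = co s.val j - prE D r s.val * co r j := by
  refine hF.root_induction (P := fun r => ∃ σ : Equiv.Perm (Fin D.nroots),
    (∀ c : F, c ≠ 0 → PermAct (nU D r c) σ) ∧ ∀ (s : Fin D.nroots) (j : ℕ), j < D.rank →
      co (σ s).val j = co s.val j - prE D r s.val * co r j)
    (fun i hi => ?_) (fun i hi r hr ih => ?_) hr
  · have hp := hF.simple_lt' hi
    refine ⟨sP D ⟨i, hi⟩, fun c hc => ?_, fun s j hj => ?_⟩
    · have e : nU D (D.simple i) c = hU D (D.simple i) c * nS D F ⟨i, hi⟩ := by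
        rw [hU, nS, ← hF.nU_inv hp, inv_mul_cancel_right]
      rw [e, ← one_mul (sP D ⟨i, hi⟩)]
      exact hF.permAct_mul (hF.permAct_diagonal (hF.hU_mem_diagonal hp hc)) (hF.permAct_nS _)
    · rw [hF.sP_val, hF.co_refl i hi s.val s.isLt j hj, hF.prE_simple hi, hF.co_simple i hi j hj]
      split_ifs <;> simp
  · obtain ⟨σ, hσ, hco⟩ := ih
    obtain ⟨η, h1, h2, h3⟩ := hF.exists_eta (F := F) hi
    refine ⟨sP D ⟨i, hi⟩ * σ * (sP D ⟨i, hi⟩)⁻¹, fun c hc => ?_, fun x j hj => ?_⟩
    · have hη : (η r : F) * ((η r : F) * c) = c := by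
        rcases h1 r hr with h | h <;> simp [h]
      have hne : (η r : F) * c ≠ 0 := by rcases h1 r hr with h | h <;> simp [h, hc]
      have hconj : nS D F ⟨i, hi⟩ * nU D r ((η r : F) * c) * (nS D F ⟨i, hi⟩)⁻¹ =
          nU D (D.reflectRoot i r) c := by
        rw [nS, hF.nU_conj hi h1 h2 h3 hr, hη]
      have hS := hF.permAct_nS (F := F) ⟨i, hi⟩
      have h4 : PermAct (nS D F ⟨i, hi⟩ * nU D r ((η r : F) * c)) (sP D ⟨i, hi⟩ * σ) :=
        hF.permAct_mul hS (hσ _ hne)
      have h5 := hF.permAct_inv (hF.nS_mem (F := F) ⟨i, hi⟩) hS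
      rw [← hconj]
      exact hF.permAct_mul h4 h5
    · rw [inv_eq_of_mul_eq_one_right (hF.sP_sq ⟨i, hi⟩), Equiv.Perm.mul_apply,
        Equiv.Perm.mul_apply, hF.sP_val]
      set y := sP D ⟨i, hi⟩ x with hy
      have hyv : y.val = D.reflectRoot i x.val := hF.sP_val _ _
      have hxy : x.val = D.reflectRoot i y.val := by rw [hyv, hF.refl_invol i hi x.val x.isLt]
      have hk : prE D (D.reflectRoot i r) x.val = prE D r y.val := by
        rw [hF.prE_refl hi hr x.isLt, hyv]
      rw [hk, hxy, hF.co_refl i hi _ (σ y).isLt j hj, hF.co_refl i hi _ y.isLt j hj,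
        hF.co_refl i hi r hr j hj, hco y j hj]
      have hc : D.cartan i (σ y).val = D.cartan i y.val - prE D r y.val * D.cartan i r := by
        rw [hF.cartan_eq_sum hi (σ y).isLt, hF.cartan_eq_sum hi y.isLt, hF.cartan_eq_sum hi hr,
          Finset.mul_sum, ← Finset.sum_sub_distrib]
        exact Finset.sum_congr rfl fun q hq => by
          rw [hco y q (Finset.mem_range.1 hq)]; ring
      rw [hc]
      split_ifs <;> ring

/-- The weight separating a root from a multiple of another one. -/
theorem exists_halfspace {r s : ℕ} (hr : r < D.nroots) (hs : s < D.nroots) (h1 : s ≠ r)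
    (h2 : s ≠ D.neg r) :
    ∃ f : ℕ → ℤ, IsWeight D f ∧ f r = 0 ∧ 0 < f s ∧
      ∀ q < D.nroots, ∀ k : ℤ, (∀ j < D.rank, co q j = co s j - k * co r j) → f q = f s := by
  obtain ⟨x, hx, y, hy, hne⟩ : ∃ x < D.rank, ∃ y < D.rank,
      co r x * co s y - co r y * co s x ≠ 0 := by
    by_contra hc
    push Not at hc
    obtain ⟨x, hx, hxr⟩ : ∃ x < D.rank, co r x ≠ 0 := by
      by_contra h
      push Not at h
      rcases lt_or_ge r (D.nroots / 2) with hn | hp
      · have := hF.omega_pos (hF.neg_lt hr) ((hF.neg_lt_half hr).2 hn)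
        have e : omega D co (D.neg r) = 0 := by
          refine List.sum_eq_zero fun z hz => ?_
          obtain ⟨j, hj, rfl⟩ := List.mem_map.1 hz
          rw [List.mem_range] at hj
          rw [hF.co_neg r hr j hj, h j hj, neg_zero, zero_mul]
        omega
      · have := hF.omega_pos hr hp
        have e : omega D co r = 0 := by
          refine List.sum_eq_zero fun z hz => ?_
          obtain ⟨j, hj, rfl⟩ := List.mem_map.1 hz
          rw [List.mem_range] at hj
          rw [h j hj, zero_mul]
        omega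
    rcases hF.eq_of_proportional hr hs hxr (b := co s x) (fun j hj => by
      have := hc x hx j hj
      linarith [mul_comm (co r j) (co s x)]) with e | e
    · exact h1 e
    · exact h2 e
  refine ⟨fun q => (co r x * co s y - co r y * co s x) * (co r x * co q y - co r y * co q x),
    ⟨fun q hq => ?_, fun a ha b hb k h => ?_⟩, ?_, ?_, fun q _ k h => ?_⟩
  · simp only [hF.co_neg q hq x hx, hF.co_neg q hq y hy]; ring
  · simp only [hF.co_add a ha b hb k h x hx, hF.co_add a ha b hb k h y hy]; ring
  · show _ * (co r x * co r y - co r y * co r x) = 0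
    ring
  · exact mul_self_pos.2 hne
  · simp only [h x hx, h y hy]; ring

/-- A weight positive on a set of roots can be made injective on the roots. -/
theorem exists_injective_weight {f : ℕ → ℤ} (hf : IsWeight D f) :
    ∃ w : ℕ → ℤ, IsWeight D w ∧ (∀ r < D.nroots, 0 < f r → 0 < w r) ∧
      ∀ r < D.nroots, ∀ s < D.nroots, w r = w s → r = s := by
  set B := ∑ r ∈ Finset.range D.nroots, |omega D co r| with hB
  have hb : ∀ r < D.nroots, |omega D co r| ≤ B := fun r hr =>
    Finset.single_le_sum (f := fun r => |omega D co r|) (fun i _ => abs_nonneg _)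
      (Finset.mem_range.2 hr)
  refine ⟨fun r => (2 * B + 1) * f r + omega D co r,
    ⟨fun r hr => ?_, fun a ha b hb k h => ?_⟩, fun r hr h => ?_, fun r hr s hs h => ?_⟩
  · simp only [hf.neg r hr, hF.isWeight_omega.neg r hr]; ring
  · simp only [hf.add a ha b hb k h, hF.isWeight_omega.add a ha b hb k h]; ring
  · have h1 := abs_le.1 (hb r hr)
    have : 2 * B + 1 ≤ (2 * B + 1) * f r := le_mul_of_one_le_right (by omega) h
    show 0 < (2 * B + 1) * f r + omega D co r
    omega
  · have h1 := abs_le.1 (hb r hr)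
    have h2 := abs_le.1 (hb s hs)
    replace h : (2 * B + 1) * f r + omega D co r = (2 * B + 1) * f s + omega D co s := h
    have hfr : f r = f s := by
      by_contra hne
      rcases lt_or_gt_of_ne hne with hl | hl
      · have : 2 * B + 1 ≤ (2 * B + 1) * (f s - f r) :=
          le_mul_of_one_le_right (by omega) (by omega)
        rw [mul_sub] at this
        omega
      · have : 2 * B + 1 ≤ (2 * B + 1) * (f r - f s) :=
          le_mul_of_one_le_right (by omega) (by omega)
        rw [mul_sub] at this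
        omega
    rw [hfr] at h
    have ho : omega D co r = omega D co s := by omega
    rcases Nat.lt_trichotomy r s with h' | h' | h'
    · have := hF.omega_mono h' hs; omega
    · exact h'
    · have := hF.omega_mono h' hr; omega

theorem xU_ut_gen {F : Type*} [Field F] {w : ℕ → ℤ} (hw : IsWeight D w) {r : ℕ}
    (hr : r < D.nroots) {k : ℤ} (h0 : 0 ≤ w r) (hk : k ≤ w r) (t : F) :
    UT (wt D w) k ((xU D r t : GL D.Idx F) : Matrix D.Idx D.Idx F) := by
  intro a b h
  rw [hF.xU_val' hr, xR, Finset.sum_range_succ', pow_zero, one_smul, divPow, map_one,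
    add_sub_cancel_right, Matrix.sum_apply] at h
  obtain ⟨m, -, hm⟩ := Finset.exists_ne_zero_of_sum_ne_zero h
  have hne : divPow D r (m + 1) a b ≠ 0 := fun e => hm (by simp [RingHom.mapMatrix_apply, e])
  have := hF.divPow_wt hw hr (m + 1) hne
  rw [nsmul_eq_mul] at this
  have := le_mul_of_one_le_left h0 (show (1 : ℤ) ≤ ((m + 1 : ℕ) : ℤ) by omega)
  omega

theorem xU_eq_zero_gen {F : Type*} [Field F] {w : ℕ → ℤ} (hw : IsWeight D w) {r : ℕ}
    (hr : r < D.nroots) {d : F}
    (h : UT (wt D w) (w r + 1) ((xU D r d : GL D.Idx F) : Matrix D.Idx D.Idx F)) : d = 0 := by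
  obtain ⟨i, hi, hne⟩ := hF.exists_cor_ne (F := F) hr
  by_contra hd
  have h' := h (Sum.inl ⟨i, hi⟩) (Sum.inr ⟨D.neg r, hF.neg_lt hr⟩) (by
    rw [hF.xU_val' hr]
    have hz : ∀ k : ℕ, divPow D r (k + 2) (Sum.inl (⟨i, hi⟩ : Fin D.rank))
        (Sum.inr ⟨D.neg r, hF.neg_lt hr⟩) = 0 := fun k => divPow_ge_two_inl_row _ _ _ _
    simp [xR, Finset.sum_range_succ, hz 0, hz 1, divPow, adRoot_inl_inr, Matrix.one_apply, hd,
      hne])
  simp only [wt, Sum.elim_inl, Sum.elim_inr, hw.neg r hr] at h'
  omega

theorem xU_left_inj {F : Type*} [Field F] {r : ℕ} (hr : r < D.nroots) {a b : F}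
    (h : xU D r a = xU D r b) : a = b := by
  have := hF.xU_eq_one hr (c := a + -b) (by rw [← hF.xU_add hr, h, hF.xU_add hr, add_neg_cancel,
    hF.xU_zero hr])
  exact add_neg_eq_zero.1 this

end Facts

end CfsgLib.Chev
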