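/-
Steinberg's presented group: basic relations, faithfulness on unipotent subgroups and the
transport of root elements by Weyl elements.
-/
import Mathlib
import Cfsg.Prelude.Def_Steinberg
import Cfsg.Agent.Lib.Chev.Reflection

set_option autoImplicit false

namespace CfsgLib.Chev

open Cfsg.Lie

universe v

variable {D : ChevalleyDatum} {co : ℕ → ℕ → ℤ} {K : Type v} [Field K]

/-- The product of generators of a word in the presented group. -/
noncomputable def stW (D : ChevalleyDatum) {K : Type v} [Field K] (w : List (ℕ × K)) :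
    D.SteinbergGroup K :=
  (w.map fun p => D.stGen K p.1 p.2).prod

/-- The element `n_r(c)` of the presented group. -/
noncomputable def stNG (D : ChevalleyDatum) {K : Type v} [Field K] (r : ℕ) (c : K) :
    D.SteinbergGroup K :=
  D.stGen K r c * D.stGen K (D.neg r) (-c⁻¹) * D.stGen K r c

/-- The element `h_r(c)` of the presented group. -/
noncomputable def stHG (D : ChevalleyDatum) {K : Type v} [Field K] (r : ℕ) (c : K) :
    D.SteinbergGroup K :=
  stNG D r c * stNG D r (-1)

/-- The subgroup of the presented group generated by the root elements with roots in `P`. -/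
noncomputable def stClosure (D : ChevalleyDatum) (K : Type v) [Field K] (P : ℕ → Prop) :
    Subgroup (D.SteinbergGroup K) :=
  Subgroup.closure {g | ∃ (r : ℕ) (t : K), r < D.nroots ∧ P r ∧ g = D.stGen K r t}

theorem mk_stWord (w : List (ℕ × K)) :
    PresentedGroup.mk (D.steinbergRels K) (D.stWord w) = stW D w := by
  rw [ChevalleyDatum.stWord, map_list_prod, List.map_map]
  rfl

theorem mk_stH (r : ℕ) (c : K) :
    PresentedGroup.mk (D.steinbergRels K) (D.stH r c) = stHG D r c := by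
  rw [ChevalleyDatum.stH, mk_stWord]
  simp [stW, ChevalleyDatum.hWord, ChevalleyDatum.nWord, stHG, stNG, mul_assoc]

theorem stGen_mem_closure {P : ℕ → Prop} {r : ℕ} (hr : r < D.nroots) (h : P r) (t : K) :
    D.stGen K r t ∈ stClosure D K P :=
  Subgroup.subset_closure ⟨r, t, hr, h, rfl⟩

theorem stClosure_mono {P Q : ℕ → Prop} (h : ∀ r < D.nroots, P r → Q r) :
    stClosure D K P ≤ stClosure D K Q :=
  Subgroup.closure_mono fun _ ⟨r, t, hr, hP, e⟩ => ⟨r, t, hr, h r hr hP, e⟩

theorem stW_mem {S : Subgroup (D.SteinbergGroup K)} {w : List (ℕ × K)}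
    (h : ∀ p ∈ w, D.stGen K p.1 p.2 ∈ S) : stW D w ∈ S :=
  Subgroup.list_prod_mem _ fun g hg => by
    obtain ⟨p, hp, rfl⟩ := List.mem_map.1 hg
    exact h p hp

theorem stGen_add {r : ℕ} (hr : r < D.nroots) (t u : K) :
    D.stGen K r t * D.stGen K r u = D.stGen K r (t + u) := by
  rw [← mul_inv_eq_one]
  exact PresentedGroup.one_of_mem (Or.inl (Or.inl ⟨r, t, u, hr, rfl⟩))

theorem stGen_zero {r : ℕ} (hr : r < D.nroots) : D.stGen K r 0 = 1 := by
  have := stGen_add hr (0 : K) 0
  rwa [add_zero, mul_eq_left] at this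

theorem stGen_inv {r : ℕ} (hr : r < D.nroots) (t : K) :
    (D.stGen K r t)⁻¹ = D.stGen K r (-t) := by
  rw [inv_eq_iff_mul_eq_one, stGen_add hr, add_neg_cancel, stGen_zero hr]

theorem stGen_comm {r s : ℕ} (hr : r < D.nroots) (hs : s < D.nroots) (h1 : s ≠ r)
    (h2 : s ≠ D.neg r) (t u : K) :
    D.stGen K s u * D.stGen K r t = D.stGen K r t * D.stGen K s u * stW D (cwR D r s t u) := by
  have h := PresentedGroup.one_of_mem (rels := D.steinbergRels K)
    (Or.inl (Or.inr ⟨r, s, t, u, hr, hs, h1, h2, rfl⟩))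
  rw [map_mul, map_inv, mk_stWord, mul_inv_eq_one] at h
  have e : D.commWord K r s t u = cwR D r s t u := rfl
  rw [e] at h
  rw [← h]
  show D.stGen K s u * D.stGen K r t = D.stGen K r t * D.stGen K s u *
    ((D.stGen K s u)⁻¹ * (D.stGen K r t)⁻¹ * D.stGen K s u * D.stGen K r t)
  group

/-- The root elements generate. -/
theorem stClosure_top : stClosure D K (fun _ => True) = ⊤ := by
  rw [← PresentedGroup.closure_range_of (D.steinbergRels K)]
  refine congrArg Subgroup.closure (Set.ext fun g => ?_)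
  constructor
  · rintro ⟨r, t, hr, -, rfl⟩
    exact ⟨(⟨r, hr⟩, t), by simp [ChevalleyDatum.stGen, ChevalleyDatum.stX, hr, PresentedGroup.of]⟩
  · rintro ⟨⟨⟨r, hr⟩, t⟩, rfl⟩
    exact ⟨r, t, hr, trivial,
      by simp [ChevalleyDatum.stGen, ChevalleyDatum.stX, hr, PresentedGroup.of]⟩

theorem stNG_inv (hF : Facts D co) {r : ℕ} (hr : r < D.nroots) (c : K) :
    (stNG D r c)⁻¹ = stNG D r (-c) := by
  rw [stNG, stNG, mul_inv_rev, mul_inv_rev, stGen_inv hr, stGen_inv (hF.neg_lt hr), inv_neg,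
    mul_assoc]

theorem stGen_neg_decomp {r : ℕ} (hr : r < D.nroots) (w : K) :
    D.stGen K (D.neg r) (-w⁻¹) = D.stGen K r (-w) * stNG D r w * D.stGen K r (-w) := by
  rw [stNG, ← stGen_inv hr w]
  group

/-- The hypotheses on the canonical homomorphism. -/
def IsTheta (D : ChevalleyDatum) {K : Type v} [Field K]
    (φ : D.SteinbergGroup K →* GL D.Idx K) : Prop :=
  ∀ (r : ℕ) (t : K), r < D.nroots → φ (D.stGen K r t) = xU D r t

/-- The element moves every root element to a root element. -/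
def StTr (D : ChevalleyDatum) {K : Type v} [Field K] (z : D.SteinbergGroup K) : Prop :=
  ∀ s < D.nroots, ∀ t : K, ∃ q, q < D.nroots ∧ ∃ v : K,
    z * D.stGen K s t * z⁻¹ = D.stGen K q v

theorem StTr.mul {y z : D.SteinbergGroup K} (hy : StTr D y) (hz : StTr D z) :
    StTr D (y * z) := by
  intro s hs t
  obtain ⟨q, hq, v, e⟩ := hz s hs t
  obtain ⟨q', hq', v', e'⟩ := hy q hq v
  refine ⟨q', hq', v', ?_⟩
  rw [← e', ← e]
  group

theorem stTr_one : StTr D (1 : D.SteinbergGroup K) := fun s hs t => ⟨s, hs, t, by simp⟩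

theorem IsTheta.map_stClosure {φ : D.SteinbergGroup K →* GL D.Idx K} (hφ : IsTheta D φ)
    {P : ℕ → Prop} {g : D.SteinbergGroup K} (hg : g ∈ stClosure D K P) :
    φ g ∈ rootClosure D K P := by
  induction hg using Subgroup.closure_induction with
  | mem x hx =>
    obtain ⟨r, t, hr, hP, rfl⟩ := hx
    rw [hφ r t hr]; exact xU_mem_rootClosure hr hP t
  | one => rw [map_one]; exact Subgroup.one_mem _
  | mul x y _ _ hx hy => rw [map_mul]; exact Subgroup.mul_mem _ hx hy
  | inv x _ hx => rw [map_inv]; exact Subgroup.inv_mem _ hx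

theorem IsTheta.map_stNG {φ : D.SteinbergGroup K →* GL D.Idx K} (hφ : IsTheta D φ)
    (hF : Facts D co) {r : ℕ} (hr : r < D.nroots) (c : K) :
    φ (stNG D r c) = nU D r c := by
  rw [stNG, map_mul, map_mul, hφ r _ hr, hφ _ _ (hF.neg_lt hr), nU]

namespace Facts

variable (hF : Facts D co)
include hF

theorem stClosure_conj_mem {P : ℕ → Prop} {i : ℕ} (hi : i < D.nroots)
    (h : ∀ j < D.nroots, P j → j ≠ D.neg i ∧ (i ≠ j → ∀ c ∈ D.commTerms i j, P c.1)) (u : K)
    {x : D.SteinbergGroup K} (hx : x ∈ stClosure D K P) :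
    D.stGen K i u * x * (D.stGen K i u)⁻¹ ∈ stClosure D K P := by
  induction hx using Subgroup.closure_induction with
  | mem y hy =>
    obtain ⟨j, t, hj, hP, rfl⟩ := hy
    by_cases hij : i = j
    · subst hij
      rw [stGen_inv hi, stGen_add hi, stGen_add hi, show u + t + -u = t by ring]
      exact stGen_mem_closure hi hP t
    · obtain ⟨h1, h2⟩ := h j hj hP
      rw [stGen_inv hi, mul_assoc, stGen_comm hi hj (Ne.symm hij) h1, ← mul_assoc, ← mul_assoc,
        stGen_add hi, add_neg_cancel, stGen_zero hi, one_mul]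
      refine Subgroup.mul_mem _ (stGen_mem_closure hj hP t) (stW_mem fun p hp => ?_)
      obtain ⟨c, hc, rfl⟩ := List.mem_map.1 hp
      exact stGen_mem_closure (hF.commTerms_wt hF.isWeight_omega hi hj hc).1 (h2 hij c hc) _
  | one => simp
  | mul a b _ _ ha hb =>
    rw [show D.stGen K i u * (a * b) * (D.stGen K i u)⁻¹ =
      (D.stGen K i u * a * (D.stGen K i u)⁻¹) * (D.stGen K i u * b * (D.stGen K i u)⁻¹) by group]
    exact Subgroup.mul_mem _ ha hb
  | inv a _ ha =>
    rw [show D.stGen K i u * a⁻¹ * (D.stGen K i u)⁻¹ =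
      (D.stGen K i u * a * (D.stGen K i u)⁻¹)⁻¹ by group]
    exact Subgroup.inv_mem _ ha

theorem stClosure_split {P : ℕ → Prop} {m : ℕ} (hm : m < D.nroots)
    (h : ∀ j < D.nroots, P j ∧ j ≠ m →
      j ≠ D.neg m ∧ (m ≠ j → ∀ c ∈ D.commTerms m j, P c.1 ∧ c.1 ≠ m))
    {g : D.SteinbergGroup K} (hg : g ∈ stClosure D K P) :
    ∃ a : K, ∃ g' ∈ stClosure D K (fun r => P r ∧ r ≠ m), g = D.stGen K m a * g' := by
  induction hg using Subgroup.closure_induction with
  | mem x hx =>
    obtain ⟨r, t, hr, hP, rfl⟩ := hx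
    by_cases e : r = m
    · exact ⟨t, 1, Subgroup.one_mem _, by rw [e, mul_one]⟩
    · exact ⟨0, _, stGen_mem_closure hr ⟨hP, e⟩ t, by rw [stGen_zero hm, one_mul]⟩
  | one => exact ⟨0, 1, Subgroup.one_mem _, by rw [stGen_zero hm, one_mul]⟩
  | mul x y _ _ hx hy =>
    obtain ⟨a, x', hx', rfl⟩ := hx
    obtain ⟨b, y', hy', rfl⟩ := hy
    refine ⟨a + b, (D.stGen K m b)⁻¹ * x' * D.stGen K m b * y', Subgroup.mul_mem _ ?_ hy', ?_⟩
    · rw [stGen_inv hm]
      have := hF.stClosure_conj_mem hm h (-b) hx'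
      rwa [stGen_inv hm, _root_.neg_neg] at this
    · rw [← stGen_add hm]; group
  | inv x _ hx =>
    obtain ⟨a, x', hx', rfl⟩ := hx
    refine ⟨-a, D.stGen K m a * x'⁻¹ * (D.stGen K m a)⁻¹,
      hF.stClosure_conj_mem hm h a (Subgroup.inv_mem _ hx'), ?_⟩
    rw [← stGen_inv hm]; group

variable {φ : D.SteinbergGroup K →* GL D.Idx K}

/-- On the subgroup of a closed set of positive weight the map to the Chevalley group is
faithful. -/
theorem stClosure_faithful (hφ : IsTheta D φ) {P : ℕ → Prop} {f : ℕ → ℤ} (hf : IsWeight D f)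
    (hpos : ∀ r < D.nroots, P r → 0 < f r)
    (hcl : ∀ r < D.nroots, ∀ s < D.nroots, P r → P s → r ≠ s → ∀ c ∈ D.commTerms r s, P c.1)
    {g : D.SteinbergGroup K} (hg : g ∈ stClosure D K P) (h1 : φ g = 1) : g = 1 := by
  classical
  obtain ⟨w, hw, hwpos, hwinj⟩ := hF.exists_injective_weight hf
  suffices ∀ (n : ℕ) (P : ℕ → Prop),
      ((Finset.range D.nroots).filter P).card = n → (∀ r < D.nroots, P r → 0 < w r) →
      (∀ r < D.nroots, ∀ s < D.nroots, P r → P s → r ≠ s → ∀ c ∈ D.commTerms r s, P c.1) →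
      ∀ g ∈ stClosure D K P, φ g = 1 → g = 1 from
    this _ P rfl (fun r hr hP => hwpos r hr (hpos r hr hP)) hcl g hg h1
  intro n
  induction n with
  | zero =>
    intro P hn _ _ g hg _
    have : stClosure D K P = ⊥ := by
      rw [eq_bot_iff]
      refine (Subgroup.closure_le _).2 ?_
      rintro x ⟨r, t, hr, hP, -⟩
      have : r ∈ (Finset.range D.nroots).filter P := Finset.mem_filter.2 ⟨Finset.mem_range.2 hr, hP⟩
      rw [Finset.card_eq_zero.1 hn] at this
      simp at this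
    rwa [this, Subgroup.mem_bot] at hg
  | succ n ih =>
    intro P hn hp hc g hg hg1
    obtain ⟨m, hmem, hmin⟩ := ((Finset.range D.nroots).filter P).exists_min_image w
      (Finset.card_pos.1 (by omega))
    rw [Finset.mem_filter, Finset.mem_range] at hmem
    obtain ⟨hm, hPm⟩ := hmem
    have hlt : ∀ j < D.nroots, P j → j ≠ m → w m < w j := fun j hj hP hne =>
      lt_of_le_of_ne (hmin j (Finset.mem_filter.2 ⟨Finset.mem_range.2 hj, hP⟩))
        fun e => hne (hwinj m hm j hj e).symm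
    have hterm : ∀ r < D.nroots, ∀ s < D.nroots, P r → P s → r ≠ s →
        ∀ c ∈ D.commTerms r s, P c.1 ∧ c.1 ≠ m := by
      intro r hr s hs hPr hPs hrs c hc'
      refine ⟨hc r hr s hs hPr hPs hrs c hc', fun e => ?_⟩
      obtain ⟨-, hi, hj, hwc⟩ := hF.commTerms_wt hw hr hs hc'
      have h1 := hmin r (Finset.mem_filter.2 ⟨Finset.mem_range.2 hr, hPr⟩)
      have h2 := hp s hs hPs
      simp only [nsmul_eq_mul] at hwc
      have := le_mul_of_one_le_left (hp r hr hPr).le (show (1 : ℤ) ≤ (c.2.2.1 : ℤ) by omega)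
      have := le_mul_of_one_le_left h2.le (show (1 : ℤ) ≤ (c.2.2.2 : ℤ) by omega)
      rw [e] at hwc
      omega
    obtain ⟨a, g', hg', rfl⟩ := hF.stClosure_split hm (P := P) (fun j hj hjP => ⟨fun e => by
        have h1 := hp j hj hjP.1
        rw [e, hw.neg m hm] at h1
        have := hp m hm hPm
        omega, fun hne => hterm m hm j hj hPm hjP.1 hne⟩) hg
    rw [map_mul, hφ m a hm] at hg1
    have hut : UT (wt D w) (w m + 1) ((xU D m a : GL D.Idx K) : Matrix D.Idx D.Idx K) := by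
      rw [eq_inv_of_mul_eq_one_left hg1, ← map_inv]
      refine ut_closure (by have := hp m hm hPm; omega) ?_
        (hφ.map_stClosure (Subgroup.inv_mem _ hg'))
      rintro x ⟨r, t, hr, ⟨hPr, hne⟩, rfl⟩
      have := hlt r hr hPr hne
      have := hp r hr hPr
      rw [hF.xU_inv hr]
      exact ⟨hF.xU_ut_gen hw hr (by omega) (by omega) t,
        hF.xU_ut_gen hw hr (by omega) (by omega) (-t)⟩
    have ha : a = 0 := hF.xU_eq_zero_gen hw hm hut
    subst ha
    rw [hF.xU_zero hm, one_mul] at hg1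
    rw [stGen_zero hm, one_mul]
    refine ih _ ?_ (fun r hr h => hp r hr h.1)
      (fun r hr s hs h1 h2 hne c hc' => hterm r hr s hs h1.1 h2.1 hne c hc') g' hg' hg1
    refine (congrArg Finset.card (Finset.ext fun x => ?_)).trans
      ((Finset.card_erase_of_mem (Finset.mem_filter.2 ⟨Finset.mem_range.2 hm, hPm⟩)).trans
        (by omega))
    simp only [Finset.mem_filter, Finset.mem_erase]
    tauto

theorem stClosure_injective (hφ : IsTheta D φ) {P : ℕ → Prop} {f : ℕ → ℤ} (hf : IsWeight D f)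
    (hpos : ∀ r < D.nroots, P r → 0 < f r)
    (hcl : ∀ r < D.nroots, ∀ s < D.nroots, P r → P s → r ≠ s → ∀ c ∈ D.commTerms r s, P c.1)
    {g g' : D.SteinbergGroup K} (hg : g ∈ stClosure D K P) (hg' : g' ∈ stClosure D K P)
    (h : φ g = φ g') : g = g' :=
  inv_mul_eq_one.1 (hF.stClosure_faithful hφ hf hpos hcl
    (Subgroup.mul_mem _ (Subgroup.inv_mem _ hg) hg') (by rw [map_mul, map_inv, h, inv_mul_cancel]))

/-- Elements generated by `X_{±a}` transport root elements inside a half-space. -/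
theorem stGen_transport (hφ : IsTheta D φ) {a : ℕ} (ha : a < D.nroots) {f : ℕ → ℤ}
    (hf : IsWeight D f) (hfa : f a = 0) {z : D.SteinbergGroup K}
    (hz : z ∈ stClosure D K (fun r => r = a ∨ r = D.neg a)) {s q : ℕ} (hs : s < D.nroots)
    (hq : q < D.nroots) (hfs : 0 < f s) (hfq : 0 < f q) {t v : K}
    (h : φ z * xU D s t * (φ z)⁻¹ = xU D q v) :
    z * D.stGen K s t * z⁻¹ = D.stGen K q v := by
  have hcl : ∀ r < D.nroots, ∀ j < D.nroots, 0 ≤ f r → 0 < f j →
      ∀ c ∈ D.commTerms r j, 0 < f c.1 := by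
    intro r hr j hj hfr hfj c hc
    obtain ⟨-, -, hj', hw⟩ := hF.commTerms_wt hf hr hj hc
    simp only [nsmul_eq_mul] at hw
    rw [hw]; positivity
  have hnorm : z ∈ Subgroup.normalizer
      (stClosure D K (fun r => 0 < f r) : Set (D.SteinbergGroup K)) := by
    refine (Subgroup.closure_le _).2 ?_ hz
    rintro x ⟨i, u, hi, hia, rfl⟩
    have hfi : f i = 0 := by
      rcases hia with rfl | rfl
      · exact hfa
      · rw [hf.neg a ha, hfa, neg_zero]
    have hh : ∀ j < D.nroots, 0 < f j →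
        j ≠ D.neg i ∧ (i ≠ j → ∀ c ∈ D.commTerms i j, 0 < f c.1) := fun j hj hfj =>
      ⟨fun e => by rw [e, hf.neg i hi] at hfj; omega, fun _ => hcl i hi j hj hfi.ge hfj⟩
    rw [SetLike.mem_coe, Subgroup.mem_normalizer_iff]
    intro y
    refine ⟨fun hy => hF.stClosure_conj_mem hi hh u hy, fun hy => ?_⟩
    have := hF.stClosure_conj_mem hi hh (-u) hy
    rw [← stGen_inv hi, inv_inv] at this
    simpa [mul_assoc] using this
  refine hF.stClosure_injective hφ hf (fun r _ h => h)
    (fun r hr j hj h1 h2 _ => hcl r hr j hj h1.le h2)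
    ((Subgroup.mem_normalizer_iff.1 hnorm _).1 (stGen_mem_closure hs hfs t))
    (stGen_mem_closure hq hfq v) ?_
  rw [map_mul, map_mul, map_inv, hφ s t hs, hφ q v hq, h]

/-- The transported element is determined by its image. -/
theorem stTr_eq (hφ : IsTheta D φ) {z : D.SteinbergGroup K} (hz : StTr D z) {s q : ℕ}
    (hs : s < D.nroots) (hq : q < D.nroots) {t v : K}
    (h : φ z * xU D s t * (φ z)⁻¹ = xU D q v) :
    z * D.stGen K s t * z⁻¹ = D.stGen K q v := by
  obtain ⟨q', hq', v', e⟩ := hz s hs t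
  have e' : xU D q v = xU D q' v' := by
    rw [← h, ← hφ s t hs, ← hφ q' v' hq', ← e, map_mul, map_mul, map_inv]
  by_cases hv : v = 0
  · subst hv
    rw [hF.xU_zero hq, eq_comm] at e'
    rw [e, hF.xU_eq_one hq' e', stGen_zero hq', stGen_zero hq]
  · obtain rfl := hF.xU_root_unique hq hq' hv e'
    rw [e, hF.xU_left_inj hq e']

/-- `n_r(c)` transports the root elements of roots other than `± r`. -/
theorem stNG_transport (hφ : IsTheta D φ) {r : ℕ} (hr : r < D.nroots) {c : K} (hc : c ≠ 0)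
    {s : ℕ} (hs : s < D.nroots) (h1 : s ≠ r) (h2 : s ≠ D.neg r) (t : K) :
    ∃ q, q < D.nroots ∧ ∃ v : K,
      (∀ j < D.rank, co q j = co s j - prE D r s * co r j) ∧
      stNG D r c * D.stGen K s t * (stNG D r c)⁻¹ = D.stGen K q v := by
  obtain ⟨σ, hσ, hco⟩ := hF.exists_reflection (F := K) hr
  obtain ⟨e, -, he, -⟩ := hσ c hc ⟨s, hs⟩
  obtain ⟨f, hf, hfr, hfs, hfq⟩ := hF.exists_halfspace hr hs h1 h2
  refine ⟨(σ ⟨s, hs⟩).val, (σ ⟨s, hs⟩).isLt, e * t, fun j hj => hco ⟨s, hs⟩ j hj,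
    hF.stGen_transport hφ hr hf hfr ?_ hs (σ ⟨s, hs⟩).isLt hfs
      (by rw [hfq _ (σ ⟨s, hs⟩).isLt _ (fun j hj => hco ⟨s, hs⟩ j hj)]; exact hfs) ?_⟩
  · exact Subgroup.mul_mem _ (Subgroup.mul_mem _ (stGen_mem_closure hr (Or.inl rfl) _)
      (stGen_mem_closure (hF.neg_lt hr) (Or.inr rfl) _)) (stGen_mem_closure hr (Or.inl rfl) _)
  · rw [hφ.map_stNG hF hr]
    exact he t

end Facts

end CfsgLib.Chev
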