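/-
Steinberg's theorem: the kernel of the map from the presented group onto the Chevalley group lies
in the torus and equals the centre.
-/
import Mathlib
import Cfsg.Agent.Lib.Chev.StBasic
import Cfsg.Agent.Lib.Chev.Parabolic

set_option autoImplicit false

namespace CfsgLib.Chev

open Cfsg.Lie

universe v

variable {D : ChevalleyDatum} {co : ℕ → ℕ → ℤ} {K : Type v} [Field K]

/-- Every fundamental root has a neighbour in the Dynkin diagram. -/
def HasNbr (D : ChevalleyDatum) : Prop :=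
  ∀ p < D.rank, ∃ q < D.rank, q ≠ p ∧ D.cartan q (D.simple p) ≠ 0

/-- The subgroup generated by the elements `n_p(c)`. -/
noncomputable def stN' (D : ChevalleyDatum) (K : Type v) [Field K] : Subgroup (D.SteinbergGroup K) :=
  Subgroup.closure {g | ∃ (i : ℕ) (c : K), i < D.rank ∧ c ≠ 0 ∧ g = stNG D (D.simple i) c}

/-- The torus of the presented group. -/
noncomputable def stH' (D : ChevalleyDatum) (K : Type v) [Field K] : Subgroup (D.SteinbergGroup K) :=
  Subgroup.closure {g | ∃ (i : ℕ) (c : K), i < D.rank ∧ c ≠ 0 ∧ g = stHG D (D.simple i) c}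

/-- A product of `n_p(1)`. -/
noncomputable def stNW (D : ChevalleyDatum) (K : Type v) [Field K] (l : List (Fin D.rank)) :
    D.SteinbergGroup K :=
  (l.map fun i : Fin D.rank => stNG D (D.simple i.val) (1 : K)).prod

theorem stNW_cons (j : Fin D.rank) (l : List (Fin D.rank)) :
    stNW D K (j :: l) = stNG D (D.simple j.val) 1 * stNW D K l := by
  simp [stNW]

theorem stNW_nil : stNW D K [] = 1 := rfl

theorem stNW_append (a b : List (Fin D.rank)) :
    stNW D K (a ++ b) = stNW D K a * stNW D K b := by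
  simp [stNW]

namespace Facts

variable (hF : Facts D co)
include hF

variable {φ : D.SteinbergGroup K →* GL D.Idx K} (hφ : IsTheta D φ)
include hφ

theorem st_eq_of_exists {z : D.SteinbergGroup K} {s q : ℕ} (hs : s < D.nroots) (hq : q < D.nroots)
    {t v : K}
    (hz : ∃ q', q' < D.nroots ∧ ∃ v' : K, z * D.stGen K s t * z⁻¹ = D.stGen K q' v')
    (h : φ z * xU D s t * (φ z)⁻¹ = xU D q v) :
    z * D.stGen K s t * z⁻¹ = D.stGen K q v := by
  obtain ⟨q', hq', v', e⟩ := hz
  have e' : xU D q v = xU D q' v' := by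
    rw [← h, ← hφ s t hs, ← hφ q' v' hq', ← e, map_mul, map_mul, map_inv]
  by_cases hv : v = 0
  · subst hv
    rw [hF.xU_zero hq, eq_comm] at e'
    rw [e, hF.xU_eq_one hq' e', stGen_zero hq', stGen_zero hq]
  · obtain rfl := hF.xU_root_unique hq hq' hv e'
    rw [e, hF.xU_left_inj hq e']

variable (hN : HasNbr D)
include hN

theorem stTr_simple {i : ℕ} (hi : i < D.rank) {c : K} (hc : c ≠ 0) :
    StTr D (stNG D (D.simple i) c) := by
  intro s hs t
  have hp := hF.simple_lt' hi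
  set z := stNG D (D.simple i) c with hz
  by_cases hsp : s ≠ D.simple i ∧ s ≠ D.neg (D.simple i)
  · obtain ⟨q, hq, v, -, e⟩ := hF.stNG_transport hφ hp hc hs hsp.1 hsp.2 t
    exact ⟨q, hq, v, e⟩
  have hsor : s = D.simple i ∨ s = D.neg (D.simple i) := by tauto
  obtain ⟨m, hm, hmi, hA⟩ := hN i hi
  obtain ⟨e, he, hcos⟩ : ∃ e : ℤ, (e = 1 ∨ e = -1) ∧
      ∀ j < D.rank, co s j = e * if i = j then 1 else 0 := by
    rcases hsor with h | h
    · exact ⟨1, Or.inl rfl, fun j hj => by rw [h, hF.co_simple i hi j hj, one_mul]⟩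
    · exact ⟨-1, Or.inr rfl, fun j hj => by
        rw [h, hF.co_neg _ hp j hj, hF.co_simple i hi j hj, neg_one_mul]⟩
  set As := D.cartan m s with hAs
  have hAs0 : As ≠ 0 := by
    rcases hsor with h | h
    · rw [hAs, h]; exact hA
    · rw [hAs, h, hF.cartan_neg _ hp m hm]; exact neg_ne_zero.2 hA
  have hms := hF.simple_lt' hm
  -- the root moved off the pair
  set s' := D.reflectRoot m s with hs'd
  have hs' : s' < D.nroots := hF.refl_lt m hm s hs
  have hcs' : ∀ j < D.rank, co s' j = co s j - if m = j then As else 0 :=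
    fun j hj => hF.co_refl m hm s hs j hj
  have hs'1 : s' ≠ D.simple i := fun h => by
    have := hcs' m hm
    rw [h, hF.co_simple i hi m hm, if_neg hmi.symm, hcos m hm, if_neg hmi.symm, if_pos rfl] at this
    omega
  have hs'2 : s' ≠ D.neg (D.simple i) := fun h => by
    have := hcs' m hm
    rw [h, hF.co_neg _ hp m hm, hF.co_simple i hi m hm, if_neg hmi.symm, hcos m hm,
      if_neg hmi.symm, if_pos rfl] at this
    omega
  have hne1 : s' ≠ D.simple m := fun h => by
    have := hcs' i hi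
    rw [h, hF.co_simple m hm i hi, if_neg hmi, hcos i hi, if_pos rfl, if_neg hmi] at this
    omega
  have hne2 : s' ≠ D.neg (D.simple m) := fun h => by
    have := hcs' i hi
    rw [h, hF.co_neg _ hms i hi, hF.co_simple m hm i hi, if_neg hmi, hcos i hi, if_pos rfl,
      if_neg hmi] at this
    omega
  -- `x_s` as a conjugate of `x_{s'}`
  obtain ⟨η, h1, -, h3⟩ := hF.exists_eta (F := K) hm
  set t' : K := (η s' : K) * t with ht'
  have hx : stNG D (D.simple m) 1 * D.stGen K s' t' * (stNG D (D.simple m) (1 : K))⁻¹ =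
      D.stGen K s t := by
    obtain ⟨q, hq, v, -, e1⟩ := hF.stNG_transport hφ hms (one_ne_zero (α := K)) hs' hne1 hne2 t'
    refine hF.st_eq_of_exists hφ hs' hs ⟨q, hq, v, e1⟩ ?_
    rw [hφ.map_stNG hF hms, h3 s' hs' t', mul_inv_cancel_right, hs'd, hF.refl_invol m hm s hs,
      ← hs'd, ht', ← mul_assoc,
      show (η s' : K) * (η s' : K) = 1 by rcases h1 s' hs' with h | h <;> simp [h], one_mul]
  -- the images of `x_{s'}` and of `x_{± p_m}`
  obtain ⟨u, hu, v, hcu, eu⟩ := hF.stNG_transport hφ hp hc hs' hs'1 hs'2 t'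
  have hm1 : D.simple m ≠ D.simple i := fun h => hmi (hF.simple_inj hm hi h)
  have hm2 : D.simple m ≠ D.neg (D.simple i) := fun h => by
    have := (hF.simple_lt m hm).1
    have := (hF.simple_lt i hi).1
    have := (hF.neg_lt_half hp).1 (h ▸ (hF.simple_lt m hm).1)
    omega
  obtain ⟨a, ha, -, hca, -⟩ := hF.stNG_transport hφ hp hc hms hm1 hm2 (1 : K)
  have key_a : ∀ x : K, (∃ y, z * D.stGen K (D.simple m) x * z⁻¹ = D.stGen K a y) ∧
      ∃ y, z * D.stGen K (D.neg (D.simple m)) x * z⁻¹ = D.stGen K (D.neg a) y := by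
    intro x
    constructor
    · obtain ⟨q, hq, y, hcq, ey⟩ := hF.stNG_transport hφ hp hc hms hm1 hm2 x
      obtain rfl : q = a := hF.root_ext hq ha fun j hj => by rw [hcq j hj, hca j hj]
      exact ⟨y, ey⟩
    · have hn := hF.neg_lt hms
      obtain ⟨q, hq, y, hcq, ey⟩ := hF.stNG_transport hφ hp hc hn
        (fun h => hm2 (by rw [← hF.neg_neg hms, h]))
        (fun h => hm1 (by rw [← hF.neg_neg hms, h, hF.neg_neg hp])) x
      obtain rfl : q = D.neg a := hF.root_ext hq (hF.neg_lt ha) fun j hj => by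
        rw [hcq j hj, hF.co_neg _ ha j hj, hca j hj, hF.co_neg _ hms j hj,
          (hF.isWeight_prE hp).neg _ hms]
        ring
      exact ⟨y, ey⟩
  set w := z * stNG D (D.simple m) (1 : K) * z⁻¹ with hw
  have hwmem : w ∈ stClosure D K (fun r => r = a ∨ r = D.neg a) := by
    obtain ⟨y1, e1⟩ := (key_a 1).1
    obtain ⟨y2, e2⟩ := (key_a (-(1 : K)⁻¹)).2
    rw [hw, stNG, show z * (D.stGen K (D.simple m) 1 * D.stGen K (D.neg (D.simple m)) (-1⁻¹) *
      D.stGen K (D.simple m) 1) * z⁻¹ = (z * D.stGen K (D.simple m) 1 * z⁻¹) *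
      (z * D.stGen K (D.neg (D.simple m)) (-1⁻¹) * z⁻¹) *
      (z * D.stGen K (D.simple m) 1 * z⁻¹) by group, e1, e2]
    exact Subgroup.mul_mem _ (Subgroup.mul_mem _ (stGen_mem_closure ha (Or.inl rfl) _)
      (stGen_mem_closure (hF.neg_lt ha) (Or.inr rfl) _)) (stGen_mem_closure ha (Or.inl rfl) _)
  have hzs : z * D.stGen K s t * z⁻¹ = w * D.stGen K u v * w⁻¹ := by
    rw [← hx, hw, show D.stGen K u v = z * D.stGen K s' t' * z⁻¹ from eu.symm]; group
  -- the target
  obtain ⟨σ, hσ, hco⟩ := hF.exists_reflection (F := K) hp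
  obtain ⟨e', -, he', -⟩ := hσ c hc ⟨s, hs⟩
  have hns : (σ ⟨s, hs⟩).val = D.neg s := hF.root_ext (σ ⟨s, hs⟩).isLt (hF.neg_lt hs) fun j hj => by
    rw [hco ⟨s, hs⟩ j hj, hF.co_neg s hs j hj, hF.prE_simple hi, hF.cartan_eq_sum hi hs,
      Finset.sum_eq_single i (fun q hq hne => by
        rw [hcos q (Finset.mem_range.1 hq), if_neg (Ne.symm hne), mul_zero, zero_mul])
        (fun h => absurd (Finset.mem_range.2 hi) h),
      hF.co_simple i hi j hj, hcos i hi, hcos j hj, if_pos rfl, hF.cartan_simple hi]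
    rcases he with rfl | rfl <;> split_ifs <;> ring
  have hcs : D.cartan i s = 2 * e := by
    rw [hF.cartan_eq_sum hi hs, Finset.sum_eq_single i (fun q hq hne => by
        rw [hcos q (Finset.mem_range.1 hq), if_neg (Ne.symm hne), mul_zero, zero_mul])
        (fun h => absurd (Finset.mem_range.2 hi) h), hcos i hi, if_pos rfl, hF.cartan_simple hi]
    ring
  have hcs'i : D.cartan i s' = D.cartan i s - D.cartan i (D.simple m) * As :=
    hF.cartan_refl m hm s hs i hi
  have hrel : ∀ j < D.rank, co (D.neg s) j = co u j - (-As) * co a j := by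
    intro j hj
    rw [hF.co_neg s hs j hj, hcu j hj, hca j hj, hF.prE_simple hi, hF.prE_simple hi, hcs'i, hcs,
      hcs' j hj, hF.co_simple i hi j hj, hF.co_simple m hm j hj, hcos j hj]
    rcases he with rfl | rfl <;> split_ifs <;> ring
  have hua : ∀ k : ℤ, ∃ j < D.rank, co u j ≠ k * co a j := by
    intro k
    by_contra hcon
    push Not at hcon
    have h1 := hrel m hm
    rw [hcon m hm, hF.co_neg s hs m hm, hcos m hm, if_neg hmi.symm, hca m hm,
      hF.co_simple i hi m hm, if_neg hmi.symm, hF.co_simple m hm m hm, if_pos rfl] at h1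
    have h2 := hrel i hi
    rw [hcon i hi, hF.co_neg s hs i hi, hcos i hi, if_pos rfl] at h2
    have hk : k + As = 0 := by linarith
    rw [← sub_mul, show k - -As = 0 by omega, zero_mul] at h2
    rcases he with rfl | rfl <;> omega
  have hu1 : u ≠ a := fun h => by
    obtain ⟨j, hj, hne⟩ := hua 1; exact hne (by rw [h, one_mul])
  have hu2 : u ≠ D.neg a := fun h => by
    obtain ⟨j, hj, hne⟩ := hua (-1); exact hne (by rw [h, hF.co_neg a ha j hj, neg_one_mul])
  obtain ⟨f, hf, hfa, hfu, hfq⟩ := hF.exists_halfspace ha hu hu1 hu2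
  refine ⟨D.neg s, hF.neg_lt hs, e' * t, ?_⟩
  rw [hzs]
  refine hF.stGen_transport hφ ha hf hfa hwmem hu (hF.neg_lt hs) hfu
    (by rw [hfq _ (hF.neg_lt hs) (-As) hrel]; exact hfu) ?_
  have := congrArg φ hzs
  simp only [map_mul, map_inv, hφ u v hu, hφ s t hs] at this
  rw [← this, hz, hφ.map_stNG hF hp, he' t, hns]

theorem stTr_N {z : D.SteinbergGroup K} (hz : z ∈ stN' D K) : StTr D z := by
  suffices StTr D z ∧ StTr D z⁻¹ from this.1
  induction hz using Subgroup.closure_induction with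
  | mem x hx =>
    obtain ⟨i, c, hi, hc, rfl⟩ := hx
    refine ⟨hF.stTr_simple hφ hN hi hc, ?_⟩
    rw [stNG_inv hF (hF.simple_lt' hi)]
    exact hF.stTr_simple hφ hN hi (neg_ne_zero.2 hc)
  | one => exact ⟨stTr_one, by rw [inv_one]; exact stTr_one⟩
  | mul a b _ _ ha hb => exact ⟨ha.1.mul hb.1, by rw [mul_inv_rev]; exact hb.2.mul ha.2⟩
  | inv a _ ha => exact ⟨ha.2, by rw [inv_inv]; exact ha.1⟩

omit hN in
theorem st_map_N {z : D.SteinbergGroup K} (hz : z ∈ stN' D K) :
    φ z ∈ D.monomialSubgroup K := by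
  induction hz using Subgroup.closure_induction with
  | mem x hx =>
    obtain ⟨i, c, hi, hc, rfl⟩ := hx
    rw [hφ.map_stNG hF (hF.simple_lt' hi)]
    have hp := hF.simple_lt' hi
    rw [show nU D (D.simple i) c = hU D (D.simple i) c * nU D (D.simple i) 1 by
      rw [hU, ← hF.nU_inv hp, inv_mul_cancel_right]]
    exact Subgroup.mul_mem _ (Subgroup.mem_sup_left (hF.hU_mem_diagonal hp hc))
      (hF.nU_mem_monomial hp)
  | one => rw [map_one]; exact Subgroup.one_mem _
  | mul a b _ _ ha hb => rw [map_mul]; exact Subgroup.mul_mem _ ha hb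
  | inv a _ ha => rw [map_inv]; exact Subgroup.inv_mem _ ha

theorem stTr_perm {z : D.SteinbergGroup K} (hz : z ∈ stN' D K)
    {σ : Equiv.Perm (Fin D.nroots)} (hσ : PermAct (φ z) σ) (s : Fin D.nroots) (t : K) :
    ∃ v : K, z * D.stGen K s.val t * z⁻¹ = D.stGen K (σ s).val v := by
  obtain ⟨c, -, hc, -⟩ := hσ s
  exact ⟨c * t, hF.stTr_eq hφ (hF.stTr_N hφ hN hz) s.isLt (σ s).isLt (hc t)⟩

omit hφ hN in
theorem st_gen_mem {i : ℕ} (hi : i < D.rank) {c : K} (hc : c ≠ 0) :
    stNG D (D.simple i) c ∈ stN' D K := by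
  have _ := hF
  exact Subgroup.subset_closure ⟨i, c, hi, hc, rfl⟩

omit hφ hN in
theorem stH_le_N : stH' D K ≤ stN' D K := by
  refine (Subgroup.closure_le _).2 ?_
  rintro x ⟨i, c, hi, hc, rfl⟩
  exact Subgroup.mul_mem _ (hF.st_gen_mem hi hc) (hF.st_gen_mem hi (by simp))

omit hφ hN in
theorem stHG_mem {i : ℕ} (hi : i < D.rank) {c : K} (hc : c ≠ 0) :
    stHG D (D.simple i) c ∈ stH' D K := by
  have _ := hF
  exact Subgroup.subset_closure ⟨i, c, hi, hc, rfl⟩

omit hN in
theorem st_map_H {h : D.SteinbergGroup K} (hh : h ∈ stH' D K) :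
    φ h ∈ D.diagonalSubgroup K := by
  induction hh using Subgroup.closure_induction with
  | mem x hx =>
    obtain ⟨i, c, hi, hc, rfl⟩ := hx
    have hp := hF.simple_lt' hi
    rw [stHG, map_mul, hφ.map_stNG hF hp, hφ.map_stNG hF hp]
    exact hF.hU_mem_diagonal hp hc
  | one => rw [map_one]; exact Subgroup.one_mem _
  | mul a b _ _ ha hb => rw [map_mul]; exact Subgroup.mul_mem _ ha hb
  | inv a _ ha => rw [map_inv]; exact Subgroup.inv_mem _ ha

/-- The torus normalised by the Weyl elements. -/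
theorem stN_conj_H {h : D.SteinbergGroup K} (hh : h ∈ stH' D K) {i : ℕ} (hi : i < D.rank) {d : K}
    (hd : d ≠ 0) :
    stNG D (D.simple i) d * h * (stNG D (D.simple i) d)⁻¹ ∈ stH' D K := by
  have hp := hF.simple_lt' hi
  have hn := hF.neg_lt hp
  obtain ⟨c, hc⟩ := hF.mem_diagonal_iff.1 (hF.st_map_H hφ hh)
  set χ : ℕ → Kˣ := fun s => ∏ m ∈ Finset.range D.rank, c m ^ D.cartan m s with hχ
  have key : ∀ s, s < D.nroots → ∀ t : K,
      h * D.stGen K s t * h⁻¹ = D.stGen K s ((χ s : K) * t) := fun s hs t => by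
    refine hF.stTr_eq hφ (hF.stTr_N hφ hN (hF.stH_le_N hh)) hs hs ?_
    rw [hc, hF.hT_conj_xU c hs]
  have hneg : (χ (D.neg (D.simple i)) : K) = (χ (D.simple i) : K)⁻¹ := by
    rw [← Units.val_inv_eq_inv_val]
    congr 1
    rw [hχ]
    simp only
    rw [← Finset.prod_inv_distrib]
    exact Finset.prod_congr rfl fun m hm => by
      rw [hF.cartan_neg _ hp m (Finset.mem_range.1 hm), zpow_neg]
  have e1 : h * stNG D (D.simple i) (-d) * h⁻¹ =
      stNG D (D.simple i) (-((χ (D.simple i) : K) * d)) := by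
    rw [stNG, show h * (D.stGen K (D.simple i) (-d) * D.stGen K (D.neg (D.simple i)) (-(-d)⁻¹) *
      D.stGen K (D.simple i) (-d)) * h⁻¹ = (h * D.stGen K (D.simple i) (-d) * h⁻¹) *
      (h * D.stGen K (D.neg (D.simple i)) (-(-d)⁻¹) * h⁻¹) *
      (h * D.stGen K (D.simple i) (-d) * h⁻¹) by group, key _ hp, key _ hn, hneg, stNG]
    congr 3 <;> field_simp
  set e : K := (χ (D.simple i) : K) * d with he
  have hex : e ≠ 0 := mul_ne_zero (Units.ne_zero _) hd
  have e2 : stNG D (D.simple i) d * h * (stNG D (D.simple i) d)⁻¹ =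
      (stHG D (D.simple i) e * (stHG D (D.simple i) d)⁻¹)⁻¹ * h := by
    have hE : stHG D (D.simple i) e * (stHG D (D.simple i) d)⁻¹ =
        stNG D (D.simple i) e * stNG D (D.simple i) (-d) := by
      rw [stHG, stHG, mul_inv_rev, stNG_inv hF hp, stNG_inv hF hp, _root_.neg_neg]
      rw [show stNG D (D.simple i) (1 : K) = (stNG D (D.simple i) (-1))⁻¹ by
        rw [stNG_inv hF hp, _root_.neg_neg]]
      group
    rw [hE, mul_inv_rev, stNG_inv hF hp, stNG_inv hF hp, stNG_inv hF hp, _root_.neg_neg, ← e1]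
    group
  rw [e2]
  exact Subgroup.mul_mem _ (Subgroup.inv_mem _ (Subgroup.mul_mem _ (hF.stHG_mem hi hex)
    (Subgroup.inv_mem _ (hF.stHG_mem hi hd)))) hh

theorem stN_le_normalizer_H :
    stN' D K ≤ Subgroup.normalizer (stH' D K : Set (D.SteinbergGroup K)) := by
  refine (Subgroup.closure_le _).2 ?_
  rintro x ⟨i, c, hi, hc, rfl⟩
  rw [SetLike.mem_coe, Subgroup.mem_normalizer_iff]
  intro h
  refine ⟨fun hh => hF.stN_conj_H hφ hN hh hi hc, fun hh => ?_⟩
  have := hF.stN_conj_H hφ hN hh hi (neg_ne_zero.2 hc)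
  rw [← stNG_inv hF (hF.simple_lt' hi), inv_inv] at this
  simpa [mul_assoc] using this

omit hN in
theorem stNW_mem (l : List (Fin D.rank)) : stNW D K l ∈ stN' D K :=
  Subgroup.list_prod_mem _ fun g hg => by
    have _ := hφ
    obtain ⟨i, -, rfl⟩ := List.mem_map.1 hg
    exact hF.st_gen_mem i.isLt one_ne_zero

omit hN in
theorem map_stNW (l : List (Fin D.rank)) : φ (stNW D K l) = nW D K l := by
  induction l with
  | nil => rw [stNW_nil, map_one, nW_nil]
  | cons j l ih =>
    rw [stNW_cons, map_mul, ih, nW_cons, hφ.map_stNG hF (hF.simple_lt' j.isLt), nS]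

theorem stNW_conj_NG : ∀ (l : List (Fin D.rank)) (s : Fin D.nroots),
    ∃ e : ℤ, (e = 1 ∨ e = -1) ∧ ∀ t : K,
      stNW D K l * stNG D s.val t * (stNW D K l)⁻¹ = stNG D (sW D l s).val ((e : K) * t) := by
  intro l s
  induction l with
  | nil => exact ⟨1, Or.inl rfl, fun t => by simp [stNW_nil, sW_nil]⟩
  | cons j l ih =>
    obtain ⟨e, he, ih⟩ := ih
    obtain ⟨η, h1, h2, h3⟩ := hF.exists_eta (F := K) j.isLt
    set q := (sW D l s).val with hq
    have hq' : q < D.nroots := (sW D l s).isLt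
    refine ⟨η q * e, ?_, fun t => ?_⟩
    · rcases h1 q hq' with h | h <;> rcases he with rfl | rfl <;> simp [h]
    · have key : ∀ x, x < D.nroots → ∀ u : K, stNG D (D.simple j.val) 1 * D.stGen K x u *
          (stNG D (D.simple j.val) (1 : K))⁻¹ =
          D.stGen K (D.reflectRoot j.val x) ((η x : K) * u) := fun x hx u => by
        refine hF.stTr_eq hφ (hF.stTr_simple hφ hN j.isLt one_ne_zero) hx
          (hF.refl_lt j.val j.isLt x hx) ?_
        rw [hφ.map_stNG hF (hF.simple_lt' j.isLt), h3 x hx, mul_inv_cancel_right]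
      rw [stNW_cons, sW_cons, Equiv.Perm.mul_apply, hF.sP_val, ← hq, mul_inv_rev,
        show stNG D (D.simple j.val) 1 * stNW D K l * stNG D s.val t *
          ((stNW D K l)⁻¹ * (stNG D (D.simple j.val) (1 : K))⁻¹) =
          stNG D (D.simple j.val) 1 * (stNW D K l * stNG D s.val t * (stNW D K l)⁻¹) *
          (stNG D (D.simple j.val) (1 : K))⁻¹ by group, ih t]
      rw [show stNG D q ((e : K) * t) = D.stGen K q ((e : K) * t) *
          D.stGen K (D.neg q) (-((e : K) * t)⁻¹) * D.stGen K q ((e : K) * t) from rfl,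
        show stNG D (D.simple j.val) 1 * (D.stGen K q ((e : K) * t) *
          D.stGen K (D.neg q) (-((e : K) * t)⁻¹) * D.stGen K q ((e : K) * t)) *
          (stNG D (D.simple j.val) (1 : K))⁻¹ =
          (stNG D (D.simple j.val) 1 * D.stGen K q ((e : K) * t) *
            (stNG D (D.simple j.val) (1 : K))⁻¹) *
          (stNG D (D.simple j.val) 1 * D.stGen K (D.neg q) (-((e : K) * t)⁻¹) *
            (stNG D (D.simple j.val) (1 : K))⁻¹) *
          (stNG D (D.simple j.val) 1 * D.stGen K q ((e : K) * t) *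
            (stNG D (D.simple j.val) (1 : K))⁻¹) by group,
        key q hq', key _ (hF.neg_lt hq'), h2 q hq', hF.refl_neg j.val j.isLt q hq', stNG]
      rcases h1 q hq' with h | h <;> simp [h, mul_assoc, inv_neg]

theorem st_nn_mem {i : ℕ} (hi : i < D.rank) {e : ℤ} (he : e = 1 ∨ e = -1) :
    stNG D (D.simple i) (1 : K) * stNG D (D.simple i) (e : K) ∈ stH' D K := by
  have _ := hφ
  have _ := hN
  have hp := hF.simple_lt' hi
  rcases he with rfl | rfl
  · have := Subgroup.inv_mem _ (hF.stHG_mem (K := K) hi (c := -1) (by simp))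
    rw [stHG, mul_inv_rev, stNG_inv hF hp, _root_.neg_neg] at this
    simpa using this
  · rw [Int.cast_neg, Int.cast_one, ← stNG_inv hF hp, mul_inv_cancel]
    exact Subgroup.one_mem _

theorem st_deletion : ∀ (l : List (Fin D.rank)) (r : Fin D.nroots), D.nroots / 2 ≤ r.val →
    (sW D l r).val < D.nroots / 2 →
    ∃ (a b : List (Fin D.rank)) (j : Fin D.rank), l = a ++ j :: b ∧
      ∃ h ∈ stH' D K, stNW D K l * stNG D r.val (1 : K) = stNW D K (a ++ b) * h := by
  intro l
  induction l with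
  | nil => intro r hr h; rw [sW_nil, Equiv.Perm.one_apply] at h; omega
  | cons j l ih =>
    intro r hr h
    by_cases hneg : (sW D l r).val < D.nroots / 2
    · obtain ⟨a, b, k, rfl, hh, hmem, he⟩ := ih r hr hneg
      exact ⟨j :: a, b, k, rfl, hh, hmem, by
        rw [stNW_cons, mul_assoc, he, List.cons_append, stNW_cons, mul_assoc]⟩
    · have hp : (sW D l r).val = D.simple j.val := by
        by_contra hne
        have := hF.refl_pos j.val j.isLt _ (sW D l r).isLt (by omega) hne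
        rw [sW_cons, Equiv.Perm.mul_apply, hF.sP_val] at h
        omega
      obtain ⟨e, he, hc⟩ := hF.stNW_conj_NG hφ hN l r
      have h1 := hc 1
      rw [hp, mul_one] at h1
      have hk := hF.st_nn_mem (K := K) hφ hN j.isLt he
      refine ⟨[], l, j, rfl, _, (Subgroup.mem_normalizer_iff.1 (hF.stN_le_normalizer_H hφ hN
        (Subgroup.inv_mem _ (hF.stNW_mem hφ l))) _).1 hk, ?_⟩
      rw [stNW_cons, List.nil_append, ← h1]
      group

theorem st_exists_NW {z : D.SteinbergGroup K} (hz : z ∈ stN' D K) :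
    ∃ l, ∃ h ∈ stH' D K, z = stNW D K l * h := by
  have hmove : ∀ (l : List (Fin D.rank)) (h : D.SteinbergGroup K), h ∈ stH' D K →
      (stNW D K l)⁻¹ * h * stNW D K l ∈ stH' D K := fun l h hh => by
    have := (Subgroup.mem_normalizer_iff.1 (hF.stN_le_normalizer_H hφ hN
      (Subgroup.inv_mem _ (hF.stNW_mem hφ l))) h).1 hh
    rwa [inv_inv] at this
  suffices (∃ l, ∃ h ∈ stH' D K, z = stNW D K l * h) ∧
      ∃ l, ∃ h ∈ stH' D K, z⁻¹ = stNW D K l * h from this.1
  have hgen : ∀ (i : ℕ) (c : K), i < D.rank → c ≠ 0 →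
      ∃ l, ∃ h ∈ stH' D K, stNG D (D.simple i) c = stNW D K l * h := by
    intro i c hi hc
    refine ⟨[⟨i, hi⟩], (stNG D (D.simple i) (1 : K))⁻¹ * stHG D (D.simple i) c *
      stNG D (D.simple i) 1, ?_, ?_⟩
    · have := hmove [⟨i, hi⟩] _ (hF.stHG_mem hi hc)
      simpa [stNW] using this
    · rw [stHG, ← stNG_inv hF (hF.simple_lt' hi)]
      simp [stNW, mul_assoc]
  induction hz using Subgroup.closure_induction with
  | mem x hx =>
    obtain ⟨i, c, hi, hc, rfl⟩ := hx
    refine ⟨hgen i c hi hc, ?_⟩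
    rw [stNG_inv hF (hF.simple_lt' hi)]
    exact hgen i (-c) hi (neg_ne_zero.2 hc)
  | one =>
    exact ⟨⟨[], 1, Subgroup.one_mem _, by simp [stNW_nil]⟩,
      ⟨[], 1, Subgroup.one_mem _, by simp [stNW_nil]⟩⟩
  | mul x y _ _ hx hy =>
    obtain ⟨⟨l, h, hh, rfl⟩, ⟨l', h', hh', e⟩⟩ := hx
    obtain ⟨⟨m, k, hk, rfl⟩, ⟨m', k', hk', e'⟩⟩ := hy
    refine ⟨⟨l ++ m, _, Subgroup.mul_mem _ (hmove m h hh) hk, ?_⟩,
      ⟨m' ++ l', _, Subgroup.mul_mem _ (hmove l' k' hk') hh', ?_⟩⟩
    · rw [stNW_append]; group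
    · rw [mul_inv_rev, e, e', stNW_append]; group
  | inv x _ hx => exact ⟨hx.2, by rw [inv_inv]; exact hx.1⟩

theorem stNW_mem_H {l : List (Fin D.rank)} (h : sW D l = 1) : stNW D K l ∈ stH' D K := by
  suffices ∀ (m : ℕ) (l : List (Fin D.rank)), l.length = m → sW D l = 1 →
      stNW D K l ∈ stH' D K from this _ l rfl h
  intro m
  induction m using Nat.strong_induction_on with
  | _ m ih =>
    intro l hm hl
    rcases List.eq_nil_or_concat l with rfl | ⟨l', i, rfl⟩
    · rw [stNW_nil]; exact Subgroup.one_mem _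
    rw [List.concat_eq_append] at hl hm ⊢
    rw [sW_append, sW_cons, sW_nil, mul_one] at hl
    have hl' : sW D l' = sP D i := by
      rw [eq_inv_of_mul_eq_one_left hl, inv_eq_of_mul_eq_one_right (hF.sP_sq i)]
    have hneg : (sW D l' (hF.simpleFin i)).val < D.nroots / 2 := by
      rw [hl', hF.sP_simple]
      have h1 := hF.negFin_pos (hF.simpleFin i)
      have h2 : D.nroots / 2 ≤ (hF.simpleFin i).val := (hF.simple_lt i.val i.isLt).1
      omega
    obtain ⟨a, b, j, e, hh, hmem, heq⟩ :=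
      hF.st_deletion hφ hN l' (hF.simpleFin i) (hF.simple_lt i.val i.isLt).1 hneg
    rw [stNW_append, stNW_cons, stNW_nil, mul_one]
    show stNW D K l' * stNG D (hF.simpleFin i).val 1 ∈ _
    rw [heq]
    refine Subgroup.mul_mem _ (ih (a ++ b).length ?_ _ rfl ?_) hmem
    · rw [← hm, e]; simp
    · have h1 : PermAct (φ (stNW D K l' * stNG D (hF.simpleFin i).val 1))
          (sW D l' * sP D i) := by
        rw [map_mul, hF.map_stNW hφ, hφ.map_stNG hF (hF.simpleFin i).isLt]
        exact hF.permAct_mul (hF.permAct_nW l') (hF.permAct_nS i)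
      rw [heq, map_mul, hF.map_stNW hφ] at h1
      have h2 := hF.permAct_mul (hF.permAct_nW (F := K) (a ++ b))
        (hF.permAct_diagonal (hF.st_map_H hφ hmem))
      rw [mul_one] at h2
      rw [← hF.permAct_unique h1 h2, hl', hF.sP_sq]

omit hN in
theorem stPos_faithful {g : D.SteinbergGroup K} (hg : g ∈ stClosure D K (D.nroots / 2 ≤ ·))
    (h : φ g = 1) : g = 1 := by
  refine hF.stClosure_faithful hφ hF.isWeight_omega (fun r hr hp => hF.omega_pos hr hp)
    (fun r hr s hs hPr hPs _ c hc => ?_) hg h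
  obtain ⟨hc1, hi, hj, hw⟩ := hF.commTerms_wt hF.isWeight_omega hr hs hc
  by_contra hn
  have h1 := (hF.omega_nonpos_iff hc1).2 (by omega)
  have h2 := hF.omega_pos hr hPr
  have h3 := hF.omega_pos hs hPs
  simp only [nsmul_eq_mul] at hw
  have := le_mul_of_one_le_left h2.le (show (1 : ℤ) ≤ (c.2.2.1 : ℤ) by omega)
  have := le_mul_of_one_le_left h3.le (show (1 : ℤ) ≤ (c.2.2.2 : ℤ) by omega)
  omega

omit hφ hN in
theorem st_pos_decomp {i : ℕ} (hi : i < D.rank) {u : D.SteinbergGroup K}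
    (hu : u ∈ stClosure D K (D.nroots / 2 ≤ ·)) :
    ∃ u' ∈ stClosure D K (fun r => D.nroots / 2 ≤ r ∧ r ≠ D.simple i), ∃ a : K,
      u = u' * D.stGen K (D.simple i) a := by
  have hp := hF.simple_lt' hi
  have hp2 := (hF.simple_lt i hi).1
  have hterm : ∀ j < D.nroots, D.nroots / 2 ≤ j → ∀ c ∈ D.commTerms (D.simple i) j,
      D.nroots / 2 ≤ c.1 ∧ c.1 ≠ D.simple i := by
    intro j hj hjP c hc
    obtain ⟨hc1, hi', hj', hw⟩ := hF.commTerms_wt hF.isWeight_omega hp hj hc
    have h2 := hF.omega_pos hp hp2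
    have h3 := hF.omega_pos hj hjP
    simp only [nsmul_eq_mul] at hw
    have := le_mul_of_one_le_left h2.le (show (1 : ℤ) ≤ (c.2.2.1 : ℤ) by omega)
    have := le_mul_of_one_le_left h3.le (show (1 : ℤ) ≤ (c.2.2.2 : ℤ) by omega)
    refine ⟨?_, fun e => by rw [e] at hw; omega⟩
    by_contra hn
    have h1 := (hF.omega_nonpos_iff hc1).2 (by omega)
    omega
  obtain ⟨a, g, hg, e⟩ := hF.stClosure_split hp (P := (D.nroots / 2 ≤ ·))
    (fun j hj hjP => ⟨fun e => by
      have h1 := (hF.neg_lt_half hp).1 (e ▸ hjP.1)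
      omega, fun _ c hc => hterm j hj hjP.1 c hc⟩) (Subgroup.inv_mem _ hu)
  exact ⟨g⁻¹, Subgroup.inv_mem _ hg, -a, by
    rw [← stGen_inv hp, ← mul_inv_rev, ← e, inv_inv]⟩

theorem st_conj_pos {z : D.SteinbergGroup K} (hz : z ∈ stN' D K)
    {σ : Equiv.Perm (Fin D.nroots)} (hσ : PermAct (φ z) σ) {P Q : ℕ → Prop}
    (h : ∀ s : Fin D.nroots, P s.val → Q (σ s).val) {x : D.SteinbergGroup K}
    (hx : x ∈ stClosure D K P) : z * x * z⁻¹ ∈ stClosure D K Q := by
  induction hx using Subgroup.closure_induction with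
  | mem y hy =>
    obtain ⟨r, t, hr, hP, rfl⟩ := hy
    obtain ⟨v, e⟩ := hF.stTr_perm hφ hN hz hσ ⟨r, hr⟩ t
    rw [e]
    exact stGen_mem_closure (σ ⟨r, hr⟩).isLt (h ⟨r, hr⟩ hP) v
  | one => simp
  | mul a b _ _ ha hb =>
    rw [show z * (a * b) * z⁻¹ = (z * a * z⁻¹) * (z * b * z⁻¹) by group]
    exact Subgroup.mul_mem _ ha hb
  | inv a _ ha =>
    rw [show z * a⁻¹ * z⁻¹ = (z * a * z⁻¹)⁻¹ by group]
    exact Subgroup.inv_mem _ ha

/-- The presented group is the union of the cells `U N U`. -/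
theorem st_bruhat (g : D.SteinbergGroup K) : ∃ u ∈ stClosure D K (D.nroots / 2 ≤ ·),
    ∃ n ∈ stN' D K, ∃ u' ∈ stClosure D K (D.nroots / 2 ≤ ·), g = u * n * u' := by
  set U := stClosure D K (D.nroots / 2 ≤ ·) with hUdef
  let C : D.SteinbergGroup K → Prop := fun g => ∃ u ∈ U, ∃ n ∈ stN' D K, ∃ u' ∈ U, g = u * n * u'
  have hUC : ∀ x ∈ U, ∀ g, C g → C (x * g) := by
    rintro x hx g ⟨u, hu, n, hn, u', hu', rfl⟩
    exact ⟨x * u, U.mul_mem hx hu, n, hn, u', hu', by group⟩
  have hstep : ∀ i, i < D.rank → ∀ c : K, c ≠ 0 → ∀ g, C g → C (stNG D (D.simple i) c * g) := by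
    rintro i hi c hc g ⟨u, hu, n, hn, u', hu', rfl⟩
    have hp := hF.simple_lt' hi
    have hp2 := (hF.simple_lt i hi).1
    obtain ⟨w', hw', a, rfl⟩ := hF.st_pos_decomp hi hu
    set z := stNG D (D.simple i) c with hz
    have hzN : z ∈ stN' D K := hF.st_gen_mem hi hc
    have hzσ : PermAct (φ z) (sP D ⟨i, hi⟩) := by
      rw [hz, hφ.map_stNG hF hp, show nU D (D.simple i) c = hU D (D.simple i) c * nS D K ⟨i, hi⟩ by
        rw [hU, nS, ← hF.nU_inv hp, inv_mul_cancel_right], ← one_mul (sP D ⟨i, hi⟩)]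
      exact hF.permAct_mul (hF.permAct_diagonal (hF.hU_mem_diagonal hp hc)) (hF.permAct_nS _)
    have hA : z * w' * z⁻¹ ∈ U := hF.st_conj_pos hφ hN hzN hzσ
      (fun s hs => (hF.sP_pos ⟨i, hi⟩ hs.1 hs.2).1) hw'
    suffices C (z * D.stGen K (D.simple i) a * n * u') by
      have := hUC _ hA _ this
      rw [show z * w' * z⁻¹ * (z * D.stGen K (D.simple i) a * n * u') =
        z * (w' * D.stGen K (D.simple i) a * n * u') by group] at this
      exact this
    obtain ⟨σ, hσ⟩ := hF.exists_permAct (hF.st_map_N hφ hn)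
    have hnσ : PermAct (φ n⁻¹) σ⁻¹ := by
      rw [map_inv]; exact hF.permAct_inv (hF.st_map_N hφ hn) hσ
    by_cases hpos : D.nroots / 2 ≤ (σ⁻¹ ⟨D.simple i, hp⟩).val
    · refine ⟨1, U.one_mem, z * n, Subgroup.mul_mem _ hzN hn,
        n⁻¹ * D.stGen K (D.simple i) a * n * u', U.mul_mem ?_ hu', by group⟩
      have := hF.st_conj_pos hφ hN (Subgroup.inv_mem _ hn) hnσ (P := (· = D.simple i))
        (Q := (D.nroots / 2 ≤ ·)) (fun s hs => by
          rw [show s = ⟨D.simple i, hp⟩ from Fin.ext hs]; exact hpos)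
        (stGen_mem_closure (P := (· = D.simple i)) hp rfl a)
      rwa [inv_inv] at this
    by_cases ha : a = 0
    · exact ⟨1, U.one_mem, z * n, Subgroup.mul_mem _ hzN hn, u', hu', by
        rw [ha, stGen_zero hp]; group⟩
    obtain ⟨a', ha', hmove⟩ : ∃ a' : K, a' ≠ 0 ∧
        z * D.stGen K (D.simple i) a * z⁻¹ = D.stGen K (D.neg (D.simple i)) a' := by
      obtain ⟨e, he0, he, -⟩ := hzσ ⟨D.simple i, hp⟩
      refine ⟨e * a, mul_ne_zero he0 ha,
        hF.stTr_eq hφ (hF.stTr_N hφ hN hzN) hp (hF.neg_lt hp) ?_⟩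
      rw [he a, hF.sP_val, hF.refl_simple hi]
    set w : K := -a'⁻¹ with hw
    have hwz : w ≠ 0 := neg_ne_zero.2 (inv_ne_zero ha')
    have e1 : z * D.stGen K (D.simple i) a = D.stGen K (D.simple i) (-w) *
        stNG D (D.simple i) w * D.stGen K (D.simple i) (-w) * z := by
      rw [← stGen_neg_decomp hp, show -w⁻¹ = a' by rw [hw, inv_neg, inv_inv, _root_.neg_neg],
        ← hmove, inv_mul_cancel_right]
    have hm : z * n ∈ stN' D K := Subgroup.mul_mem _ hzN hn
    have hmσ : PermAct (φ (z * n)⁻¹) (σ⁻¹ * (sP D ⟨i, hi⟩)⁻¹) := by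
      rw [map_inv, ← mul_inv_rev]
      refine hF.permAct_inv (hF.st_map_N hφ hm) ?_
      rw [map_mul]; exact hF.permAct_mul hzσ hσ
    have hB : (z * n)⁻¹ * D.stGen K (D.simple i) (-w) * (z * n) ∈ U := by
      have := hF.st_conj_pos hφ hN (Subgroup.inv_mem _ hm) hmσ (P := (· = D.simple i))
        (Q := (D.nroots / 2 ≤ ·)) (fun s hs => by
          rw [show s = hF.simpleFin ⟨i, hi⟩ from Fin.ext hs, Equiv.Perm.mul_apply,
            inv_eq_of_mul_eq_one_right (hF.sP_sq ⟨i, hi⟩), hF.sP_simple]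
          obtain ⟨l, k, hk, el⟩ := hF.exists_nW (hF.st_map_N hφ hn)
          have hsl : σ = sW D l := by
            have := hF.permAct_unique hσ
              (el ▸ hF.permAct_mul (hF.permAct_nW l) (hF.permAct_diagonal hk))
            rwa [mul_one] at this
          rw [hsl, ← hF.sW_reverse, hF.sW_neg, hF.negFin_pos]
          rw [hsl, ← hF.sW_reverse] at hpos
          exact not_le.1 hpos)
        (stGen_mem_closure (P := (· = D.simple i)) hp rfl (-w))
      rwa [inv_inv] at this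
    refine ⟨D.stGen K (D.simple i) (-w), stGen_mem_closure hp hp2 _,
      stNG D (D.simple i) w * (z * n), Subgroup.mul_mem _ (hF.st_gen_mem hi hwz) hm,
      ((z * n)⁻¹ * D.stGen K (D.simple i) (-w) * (z * n)) * u', U.mul_mem hB hu', ?_⟩
    rw [e1]; group
  have hx : ∀ i, i < D.rank → ∀ t : K, ∀ g, C g → C (D.stGen K (D.neg (D.simple i)) t * g) := by
    intro i hi t g hg
    have hp := hF.simple_lt' hi
    have hp2 := (hF.simple_lt i hi).1
    by_cases ht : t = 0
    · rwa [ht, stGen_zero (hF.neg_lt hp), one_mul]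
    rw [show t = -(-t⁻¹)⁻¹ by rw [inv_neg, inv_inv, _root_.neg_neg], stGen_neg_decomp hp, mul_assoc,
      mul_assoc]
    exact hUC _ (stGen_mem_closure hp hp2 _) _ (hstep i hi _ (neg_ne_zero.2 (inv_ne_zero ht)) _
      (hUC _ (stGen_mem_closure hp hp2 _) _ hg))
  -- the simple root elements generate
  set S := Subgroup.closure {g : D.SteinbergGroup K | ∃ i < D.rank, ∃ t : K,
    g = D.stGen K (D.simple i) t ∨ g = D.stGen K (D.neg (D.simple i)) t} with hS
  have hS1 : ∀ i, i < D.rank → ∀ t : K, D.stGen K (D.simple i) t ∈ S ∧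
      D.stGen K (D.neg (D.simple i)) t ∈ S := fun i hi t =>
    ⟨Subgroup.subset_closure ⟨i, hi, t, Or.inl rfl⟩, Subgroup.subset_closure ⟨i, hi, t, Or.inr rfl⟩⟩
  have hroot : ∀ r, r < D.nroots → ∀ t : K, D.stGen K r t ∈ S := by
    intro r hr
    refine hF.root_induction (P := fun r => ∀ t : K, D.stGen K r t ∈ S)
      (fun i hi t => (hS1 i hi t).1) (fun i hi s hs ih t => ?_) hr
    obtain ⟨η, h1, -, h3⟩ := hF.exists_eta (F := K) hi
    have e := hF.stTr_eq hφ (hF.stTr_simple hφ hN hi (one_ne_zero (α := K))) hs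
      (hF.refl_lt i hi s hs) (t := (η s : K) * t) (v := t) (by
        rw [hφ.map_stNG hF (hF.simple_lt' hi), h3 s hs, mul_inv_cancel_right]
        rcases h1 s hs with h | h <;> simp [h])
    rw [← e]
    have hn : stNG D (D.simple i) (1 : K) ∈ S :=
      S.mul_mem (S.mul_mem (hS1 i hi _).1 (hS1 i hi _).2) (hS1 i hi _).1
    exact S.mul_mem (S.mul_mem hn (ih _)) (S.inv_mem hn)
  have hgS : g ∈ S := by
    have : g ∈ stClosure D K (fun _ => True) := by rw [stClosure_top]; trivial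
    refine (Subgroup.closure_le _).2 ?_ this
    rintro x ⟨r, t, hr, -, rfl⟩
    exact hroot r hr t
  have key : ∀ x ∈ S, (∀ y, C y → C (x * y)) ∧ ∀ y, C y → C (x⁻¹ * y) := by
    intro x hx'
    induction hx' using Subgroup.closure_induction with
    | mem x h =>
      obtain ⟨i, hi, t, rfl | rfl⟩ := h
      · rw [stGen_inv (hF.simple_lt' hi)]
        exact ⟨hUC _ (stGen_mem_closure (hF.simple_lt' hi) (hF.simple_lt i hi).1 _),
          hUC _ (stGen_mem_closure (hF.simple_lt' hi) (hF.simple_lt i hi).1 _)⟩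
      · rw [stGen_inv (hF.neg_lt (hF.simple_lt' hi))]
        exact ⟨hx i hi t, hx i hi (-t)⟩
    | one => simp
    | mul a b _ _ ha hb =>
      refine ⟨fun y hy => ?_, fun y hy => ?_⟩
      · rw [mul_assoc]; exact ha.1 _ (hb.1 _ hy)
      · rw [mul_inv_rev, mul_assoc]; exact hb.2 _ (ha.2 _ hy)
    | inv a _ ha => exact ⟨ha.2, by rw [inv_inv]; exact ha.1⟩
  have := (key g hgS).1 1 ⟨1, U.one_mem, 1, Subgroup.one_mem _, 1, U.one_mem, by simp⟩
  rwa [mul_one] at this

/-- An element of `N` acting trivially is central. -/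
theorem st_central {n : D.SteinbergGroup K} (hn : n ∈ stN' D K) (h : φ n = 1) :
    n ∈ Subgroup.center (D.SteinbergGroup K) := by
  have key : stClosure D K (fun _ => True) ≤ Subgroup.centralizer {n} := by
    refine (Subgroup.closure_le _).2 ?_
    rintro x ⟨r, t, hr, -, rfl⟩
    rw [SetLike.mem_coe, Subgroup.mem_centralizer_singleton_iff]
    have := hF.stTr_eq hφ (hF.stTr_N hφ hN hn) hr hr (t := t) (v := t) (by rw [h]; simp)
    exact (mul_inv_eq_iff_eq_mul.1 this).symm
  rw [stClosure_top] at key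
  refine Subgroup.mem_center_iff.2 fun x => ?_
  have := Subgroup.mem_centralizer_singleton_iff.1 (key (Subgroup.mem_top x))
  exact this

/-- The kernel lies in the torus and is central. -/
theorem st_ker {z : D.SteinbergGroup K} (hz : φ z = 1) :
    z ∈ stH' D K ∧ z ∈ Subgroup.center (D.SteinbergGroup K) := by
  obtain ⟨u, hu, n, hn, u', hu', rfl⟩ := hF.st_bruhat hφ hN z
  rw [map_mul, map_mul] at hz
  have e : φ n = (φ u)⁻¹ * (φ u')⁻¹ := by
    rw [eq_inv_mul_iff_mul_eq]; exact eq_inv_of_mul_eq_one_left hz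
  have hU1 : φ n ∈ rootClosure D K (D.nroots / 2 ≤ ·) := by
    rw [e]
    exact Subgroup.mul_mem _ (Subgroup.inv_mem _ (hφ.map_stClosure hu))
      (Subgroup.inv_mem _ (hφ.map_stClosure hu'))
  have h1 : φ n = 1 := by
    have h2 : φ n ∈ D.borelSubgroup K ⊓ D.monomialSubgroup K :=
      ⟨hF.pos_le_borel hU1, hF.st_map_N hφ hn⟩
    rw [hF.borel_inf_monomial] at h2
    have : φ n ∈ rootClosure D K (D.nroots / 2 ≤ ·) ⊓ D.diagonalSubgroup K := ⟨hU1, h2⟩
    rwa [hF.pos_inf_diagonal, Subgroup.mem_bot] at this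
  have huu : u' = u⁻¹ := by
    refine eq_inv_of_mul_eq_one_right (hF.stPos_faithful hφ (Subgroup.mul_mem _ hu hu') ?_)
    rw [map_mul]; rwa [h1, mul_one] at hz
  have hc := hF.st_central hφ hN hn h1
  have hz2 : u * n * u' = n := by
    rw [huu, Subgroup.mem_center_iff.1 hc u, mul_inv_cancel_right]
  rw [hz2]
  refine ⟨?_, hc⟩
  obtain ⟨l, h, hh, rfl⟩ := hF.st_exists_NW hφ hN hn
  have h3 : PermAct (φ (stNW D K l * h)) (sW D l) := by
    rw [map_mul, hF.map_stNW hφ]
    have := hF.permAct_mul (hF.permAct_nW l) (hF.permAct_diagonal (hF.st_map_H hφ hh))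
    rwa [mul_one] at this
  rw [h1, ← nW_nil (D := D) (F := K)] at h3
  exact Subgroup.mul_mem _
    (hF.stNW_mem_H hφ hN (hF.permAct_unique h3 (hF.permAct_nW [])).symm.symm) hh

end Facts

/-- The centre of a Chevalley group is trivial. -/
theorem Facts.group_center (hF : Facts D co) (hC : CommF.{v} D) {z : GL D.Idx K}
    (hz : z ∈ D.group K) (h : ∀ g ∈ D.group K, g * z = z * g) : z = 1 := by
  have e : D.parabolicSubgroup K ∅ = D.borelSubgroup K := by
    simp [ChevalleyDatum.parabolicSubgroup]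
  have hB : z ∈ D.borelSubgroup K := by
    rw [← e, ← hF.normalizer_radical hC ∅]
    refine ⟨Subgroup.mem_normalizer_iff.2 fun x => ?_, hz⟩
    have hle : D.unipotentRadical K ∅ ≤ D.group K :=
      (le_sup_left.trans_eq (hF.radical_sup_levi ∅)).trans (hF.parabolic_le_group ∅)
    constructor
    · intro hx
      rwa [← h x (hle hx), mul_inv_cancel_right]
    · intro hx
      have hx' := hle hx
      have hxG : x ∈ D.group K := by
        have := Subgroup.mul_mem _ (Subgroup.mul_mem _ (Subgroup.inv_mem _ hz) hx') hz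
        simpa [mul_assoc] using this
      rwa [← h x hxG, mul_inv_cancel_right] at hx
  have hcore : (⟨z, hz⟩ : ↥(D.group K)) ∈
      ((D.borelSubgroup K).subgroupOf (D.group K)).normalCore := by
    intro g
    show (g : GL D.Idx K) * z * (g : GL D.Idx K)⁻¹ ∈ D.borelSubgroup K
    rw [h g g.2, mul_inv_cancel_right]
    exact hB
  rw [hF.normalCore_eq_bot, Subgroup.mem_bot] at hcore
  exact congrArg Subtype.val hcore

end CfsgLib.Chev
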