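/-
The order of the diagonal subgroup, through a Smith normal form of the Cartan matrix.
-/
import Mathlib
import Cfsg.Agent.Lib.Chev.Bruhat

set_option autoImplicit false

namespace CfsgLib.Chev

open Cfsg.Lie
open scoped Matrix

section Monomial

variable {n : ℕ} {A : Type*} [CommGroup A]

/-- The monomial map of an integer matrix on tuples of a commutative group. -/
def actM (M : Matrix (Fin n) (Fin n) ℤ) : (Fin n → A) →* (Fin n → A) where
  toFun c q := ∏ i, c i ^ M q i
  map_one' := by funext q; simp
  map_mul' c d := by funext q; simp [mul_zpow, Finset.prod_mul_distrib]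

theorem zpow_sum' {ι : Type*} (s : Finset ι) (a : A) (e : ι → ℤ) :
    a ^ (∑ i ∈ s, e i) = ∏ i ∈ s, a ^ e i := by
  classical
  induction s using Finset.induction_on with
  | empty => simp
  | insert b s hb ih => rw [Finset.sum_insert hb, Finset.prod_insert hb, zpow_add, ih]

theorem actM_mul (M N : Matrix (Fin n) (Fin n) ℤ) (c : Fin n → A) :
    actM (M * N) c = actM M (actM N c) := by
  funext q
  show ∏ j, c j ^ (M * N) q j = ∏ i, (∏ j, c j ^ N i j) ^ M q i
  simp only [← Finset.prod_zpow, ← zpow_mul]
  rw [Finset.prod_comm]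
  refine Finset.prod_congr rfl fun j _ => ?_
  rw [Matrix.mul_apply, zpow_sum']
  exact Finset.prod_congr rfl fun i _ => by rw [mul_comm]

theorem actM_one (c : Fin n → A) : actM (1 : Matrix (Fin n) (Fin n) ℤ) c = c := by
  funext q
  show ∏ i, c i ^ (1 : Matrix (Fin n) (Fin n) ℤ) q i = c q
  rw [Finset.prod_eq_single q] <;> simp +contextual [eq_comm]

theorem actM_injective {M M' : Matrix (Fin n) (Fin n) ℤ} (h : M' * M = 1) :
    Function.Injective (actM M : (Fin n → A) → Fin n → A) := fun c d e => by
  rw [← actM_one c, ← actM_one d, ← h, actM_mul, actM_mul, e]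

theorem card_actM_ker [Finite A] [IsCyclic A] {M P P' Q Q' : Matrix (Fin n) (Fin n) ℤ}
    (d : Fin n → ℕ) (hP : P' * P = 1) (hQ : Q * Q' = 1) (hQ' : Q' * Q = 1)
    (h : P * M * Q = Matrix.diagonal fun i => (d i : ℤ)) :
    Nat.card (actM (A := A) M).ker = ∏ i, (Nat.card A).gcd (d i) := by
  classical
  have key : ∀ c : Fin n → A, actM M (actM Q c) = 1 ↔ ∀ i, c i ^ d i = 1 := by
    intro c
    rw [← (actM_injective (A := A) hP).eq_iff, map_one, ← actM_mul, ← actM_mul, h]
    have e : ∀ q, actM (Matrix.diagonal fun i => (d i : ℤ)) c q = c q ^ d q := fun q => by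
      show ∏ i, c i ^ Matrix.diagonal (fun i => (d i : ℤ)) q i = _
      rw [Finset.prod_eq_single q] <;> simp +contextual [eq_comm]
    rw [funext_iff]
    simp only [e, Pi.one_apply]
  let f : ((i : Fin n) → (powMonoidHom (d i) : A →* A).ker) → (actM (A := A) M).ker :=
    fun c => ⟨actM Q fun i => (c i : A), by
      rw [MonoidHom.mem_ker]
      exact (key _).2 fun i => (c i).2⟩
  have hf : Function.Bijective f := by
    refine ⟨fun a b e => ?_, fun c => ?_⟩
    · have := actM_injective (A := A) hQ' (congrArg Subtype.val e)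
      funext i
      exact Subtype.ext (congrFun this i)
    · have hc : ∀ i, actM Q' (c : Fin n → A) i ^ d i = 1 := by
        rw [← key, ← actM_mul, ← actM_mul]
        rw [mul_assoc, hQ, mul_one]
        exact c.2
      refine ⟨fun i => ⟨actM Q' (c : Fin n → A) i, hc i⟩, Subtype.ext ?_⟩
      show actM Q (actM Q' (c : Fin n → A)) = c
      rw [← actM_mul, hQ, actM_one]
  rw [← Nat.card_eq_of_bijective f hf, Nat.card_pi]
  exact Finset.prod_congr rfl fun i _ => IsCyclic.card_powMonoidHom_ker (G := A) (d i)

end Monomial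

variable {D : ChevalleyDatum} {co : ℕ → ℕ → ℤ}

/-- The Cartan matrix of a datum. -/
def cartanMat (D : ChevalleyDatum) : Matrix (Fin D.rank) (Fin D.rank) ℤ :=
  Matrix.of fun q i => D.cartan i.val (D.simple q.val)

namespace Facts

variable {F : Type*} [Field F] (hF : Facts D co)
include hF

theorem hT_eq_one_iff (c : ℕ → Fˣ) :
    hT D c = 1 ↔ actM (cartanMat D) (fun i : Fin D.rank => c i.val) = 1 := by
  have ev : ∀ q : Fin D.rank, actM (cartanMat D) (fun i : Fin D.rank => c i.val) q =
      ∏ i ∈ Finset.range D.rank, c i ^ D.cartan i (D.simple q.val) := fun q =>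
    Fin.prod_univ_eq_prod_range (fun i => c i ^ D.cartan i (D.simple q.val)) D.rank
  constructor
  · intro h
    funext q
    have e := congrArg (fun g : GL D.Idx F => (g : Matrix D.Idx D.Idx F)
      (Sum.inr (hF.simpleFin q)) (Sum.inr (hF.simpleFin q))) h
    simp only [hT, dU_val, diagC, Matrix.diagonal_apply_eq, Sum.elim_inr, Units.val_one,
      Matrix.one_apply_eq] at e
    rw [ev]
    exact Units.ext e
  · intro h
    rw [hT, ← dU_one]
    refine dU_congr fun s hs => ?_
    calc ∏ i ∈ Finset.range D.rank, c i ^ D.cartan i s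
        = ∏ i ∈ Finset.range D.rank, ∏ q ∈ Finset.range D.rank,
            (c i ^ D.cartan i (D.simple q)) ^ co s q := by
          refine Finset.prod_congr rfl fun i hi => ?_
          rw [hF.cartan_eq_sum (Finset.mem_range.1 hi) hs, zpow_sum']
          exact Finset.prod_congr rfl fun q _ => by rw [mul_comm, zpow_mul]
      _ = ∏ q ∈ Finset.range D.rank, (1 : Fˣ) := by
          rw [Finset.prod_comm]
          refine Finset.prod_congr rfl fun q hq => ?_
          rw [Finset.prod_zpow, ← ev ⟨q, Finset.mem_range.1 hq⟩, h, Pi.one_apply, one_zpow]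
      _ = 1 := Finset.prod_const_one

/-- The order of the diagonal subgroup times that of the kernel of the Cartan map. -/
theorem card_diagonal [Finite F] :
    Nat.card ↥(D.diagonalSubgroup F) * Nat.card (actM (A := Fˣ) (cartanMat D)).ker =
      (Nat.card F - 1) ^ D.rank := by
  classical
  let ext : (Fin D.rank → Fˣ) → ℕ → Fˣ := fun c i => if h : i < D.rank then c ⟨i, h⟩ else 1
  let φ : (Fin D.rank → Fˣ) →* ↥(D.diagonalSubgroup F) :=
    MonoidHom.mk' (fun c => ⟨hT D (ext c), hF.mem_diagonal_iff.2 ⟨_, rfl⟩⟩) fun c d => by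
      refine Subtype.ext ?_
      show hT D (ext (c * d)) = hT D (ext c) * hT D (ext d)
      rw [← hF.hT_mul]
      congr 1
      funext i
      by_cases h : i < D.rank <;> simp [ext, h]
  have hsurj : Function.Surjective φ := by
    rintro ⟨g, hg⟩
    obtain ⟨c, rfl⟩ := hF.mem_diagonal_iff.1 hg
    refine ⟨fun i => c i.val, Subtype.ext ?_⟩
    show hT D _ = hT D c
    rw [hT, hT]
    exact dU_congr fun s _ => Finset.prod_congr rfl fun i hi => by
      simp [ext, Finset.mem_range.1 hi]
  have hker : φ.ker = (actM (A := Fˣ) (cartanMat D)).ker := by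
    ext c
    rw [MonoidHom.mem_ker, MonoidHom.mem_ker]
    constructor
    · intro h
      have := (hF.hT_eq_one_iff (ext c)).1 (congrArg Subtype.val h)
      simpa [ext] using this
    · intro h
      refine Subtype.ext ((hF.hT_eq_one_iff (ext c)).2 ?_)
      simpa [ext] using h
  have h1 := Subgroup.card_mul_index φ.ker
  rw [Subgroup.index_ker, MonoidHom.range_eq_top.2 hsurj, Subgroup.card_top, hker, mul_comm] at h1
  rw [h1, Nat.card_fun, Nat.card_units, Nat.card_fin]

/-- The order of the diagonal subgroup from a Smith normal form of the Cartan matrix. -/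
theorem card_diagonal_smith [Finite F] {P P' Q Q' : Matrix (Fin D.rank) (Fin D.rank) ℤ}
    (d : Fin D.rank → ℕ) (hP : P' * P = 1) (hQ : Q * Q' = 1) (hQ' : Q' * Q = 1)
    (h : P * cartanMat D * Q = Matrix.diagonal fun i => (d i : ℤ)) :
    Nat.card ↥(D.diagonalSubgroup F) * ∏ i, (Nat.card F - 1).gcd (d i) =
      (Nat.card F - 1) ^ D.rank := by
  have := hF.card_diagonal (F := F)
  rw [card_actM_ker d hP hQ hQ' h, Nat.card_units] at this
  exact this

end Facts

end CfsgLib.Chev
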