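/-
The canonical homomorphism from the presented group, its kernel and the centre.
-/
import Mathlib
import Cfsg.Agent.Lib.Chev.StKernel
import Cfsg.Agent.Lib.Chev.SL2
import Cfsg.Agent.Lib.Chev.Torus
import Cfsg.Agent.Lib.Chev.All

set_option autoImplicit false
set_option maxRecDepth 20000

namespace CfsgLib.Chev

open Cfsg.Lie

universe v

variable {D : ChevalleyDatum} {co : ℕ → ℕ → ℤ} {K : Type v} [Field K]

theorem Facts.lift_stX (hF : Facts D co) {r : ℕ} (hr : r < D.nroots) (t : K) :
    FreeGroup.lift (fun p : Fin D.nroots × K => xU D p.1.val p.2) (D.stX r t) = xU D r t := by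
  have _ := hF
  simp [ChevalleyDatum.stX, hr]

theorem Facts.lift_stWord (hF : Facts D co) {w : List (ℕ × K)}
    (h : ∀ p ∈ w, p.1 < D.nroots) :
    FreeGroup.lift (fun p : Fin D.nroots × K => xU D p.1.val p.2) (D.stWord w) = wU D w := by
  rw [ChevalleyDatum.stWord, map_list_prod, List.map_map, wU]
  exact congrArg List.prod (List.map_congr_left fun p hp => hF.lift_stX (h p hp) p.2)

theorem Facts.lift_stH (hF : Facts D co) {r : ℕ} (hr : r < D.nroots) (c : K) :
    FreeGroup.lift (fun p : Fin D.nroots × K => xU D p.1.val p.2) (D.stH r c) = hU D r c := by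
  rw [ChevalleyDatum.stH, hF.lift_stWord]
  · simp [wU, ChevalleyDatum.hWord, ChevalleyDatum.nWord, hU, nU, mul_assoc]
  · intro p hp
    simp only [ChevalleyDatum.hWord, ChevalleyDatum.nWord, List.mem_append, List.mem_cons,
      List.not_mem_nil, or_false] at hp
    rcases hp with (rfl | rfl | rfl) | (rfl | rfl | rfl)
    all_goals first | exact hr | exact hF.neg_lt hr

theorem Facts.exists_theta (hF : Facts D co) (hC : CommF.{v} D) :
    ∃ φ : D.SteinbergGroup K →* GL D.Idx K, IsTheta D φ := by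
  have hrel : ∀ g ∈ D.steinbergRels K,
      FreeGroup.lift (fun p : Fin D.nroots × K => xU D p.1.val p.2) g = 1 := by
    rintro g ((⟨r, t, u, hr, rfl⟩ | ⟨r, s, t, u, hr, hs, h1, h2, rfl⟩) | ⟨r, t, u, hr, ht, hu, rfl⟩)
    · rw [map_mul, map_mul, map_inv, hF.lift_stX hr, hF.lift_stX hr, hF.lift_stX hr,
        hF.xU_add hr, mul_inv_cancel]
    · have hw : ∀ p ∈ D.commWord K r s t u, p.1 < D.nroots := fun p hp => by
        obtain ⟨c, hc, rfl⟩ := List.mem_map.1 hp
        exact (hF.commTerms_wt hF.isWeight_omega hr hs hc).1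
      simp only [map_mul, map_inv, hF.lift_stX hr, hF.lift_stX hs, hF.lift_stWord hw]
      rw [mul_inv_eq_one, show D.commWord K r s t u = cwR D r s t u from rfl,
        mul_assoc _ (xU D s u), hF.xU_comm hC hr hs h1 h2]
      group
    · rw [map_mul, map_mul, map_inv, hF.lift_stH hr, hF.lift_stH hr, hF.lift_stH hr,
        mul_inv_eq_one, ← Units.val_mk0 ht, ← Units.val_mk0 hu, ← Units.val_mul, hF.hU_eq hr,
        hF.hU_eq hr, hF.hU_eq hr, dU_mul]
      exact dU_congr fun s _ => (mul_zpow _ _ _).symm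
  refine ⟨PresentedGroup.toGroup hrel, fun r t hr => ?_⟩
  exact hF.lift_stX hr t

theorem hasNbr_of_mem {D : ChevalleyDatum}
    (hD : D ∈ [chevG2, chevB2, chevD4, chevF4, chevE6, chevE7, chevE8]) : HasNbr D := by
  simp only [List.mem_cons, List.not_mem_nil, or_false] at hD
  rcases hD with rfl | rfl | rfl | rfl | rfl | rfl | rfl <;> (unfold HasNbr; decide +kernel)

theorem Facts.isTheta_subtype (hF : Facts D co) {θ : D.SteinbergGroup K →* ↥(D.group K)}
    (hθ : ∀ (r : ℕ) (t : K), r < D.nroots →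
      ((θ (D.stGen K r t) : GL D.Idx K) : Matrix D.Idx D.Idx K) = D.x K r t) :
    IsTheta D ((D.group K).subtype.comp θ) := by
  intro r t hr
  have := hθ r t hr
  rw [← hF.xU_val hr, Units.val_inj] at this
  exact this

/-- Steinberg's theorem. -/
theorem Facts.exists_surj (hF : Facts D co) (hC : CommF.{v} D) (hN : HasNbr D) :
    ∃ θ : D.SteinbergGroup K →* ↥(D.group K), Function.Surjective θ ∧
      θ.ker = Subgroup.center (D.SteinbergGroup K) ∧
      ∀ (r : ℕ) (t : K), r < D.nroots →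
        ((θ (D.stGen K r t) : GL D.Idx K) : Matrix D.Idx D.Idx K) = D.x K r t := by
  obtain ⟨φ, hφ⟩ := hF.exists_theta hC (K := K)
  have hrange : φ.range = D.group K := by
    rw [hF.group_eq, MonoidHom.range_eq_map, ← stClosure_top, stClosure, MonoidHom.map_closure,
      rootClosure]
    refine congrArg Subgroup.closure (Set.ext fun g => ?_)
    constructor
    · rintro ⟨x, ⟨r, t, hr, -, rfl⟩, rfl⟩
      exact ⟨r, t, hr, trivial, hφ r t hr⟩
    · rintro ⟨r, t, hr, -, rfl⟩
      exact ⟨_, ⟨r, t, hr, trivial, rfl⟩, hφ r t hr⟩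
  let θ : D.SteinbergGroup K →* ↥(D.group K) :=
    φ.codRestrict (D.group K) fun x => hrange ▸ ⟨x, rfl⟩
  have hsurj : Function.Surjective θ := fun g => by
    obtain ⟨x, hx⟩ : (g : GL D.Idx K) ∈ φ.range := hrange.symm ▸ g.2
    exact ⟨x, Subtype.ext hx⟩
  refine ⟨θ, hsurj, le_antisymm (fun z hz => (hF.st_ker hφ hN (congrArg Subtype.val hz)).2)
    (fun z hz => Subtype.ext ?_), fun r t hr => ?_⟩
  · refine hF.group_center hC (θ z).2 fun g hg => ?_
    obtain ⟨x, hx⟩ := hsurj ⟨g, hg⟩
    have := congrArg θ (Subgroup.mem_center_iff.1 hz x)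
    rw [map_mul, map_mul, hx] at this
    exact congrArg Subtype.val this
  · show ((φ (D.stGen K r t) : GL D.Idx K) : Matrix D.Idx D.Idx K) = D.x K r t
    rw [hφ r t hr, hF.xU_val hr]

theorem stHG_mul (hr' : ∀ c : K, c ≠ 0 → c ≠ 0) {r : ℕ} (hr : r < D.nroots) {a b : K}
    (ha : a ≠ 0) (hb : b ≠ 0) : stHG D r a * stHG D r b = stHG D r (a * b) := by
  have h := PresentedGroup.one_of_mem (rels := D.steinbergRels K)
    (Or.inr ⟨r, a, b, hr, hr' a ha, hb, rfl⟩)
  rwa [map_mul, map_mul, map_inv, mk_stH, mk_stH, mk_stH, mul_inv_eq_one] at h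

/-- The torus element with coordinates `c`, in the presented group. -/
noncomputable def stT (D : ChevalleyDatum) {K : Type v} [Field K] (c : Fin D.rank → Kˣ) :
    D.SteinbergGroup K :=
  ((List.finRange D.rank).map fun i => stHG D (D.simple i.val) (c i : K)).prod

namespace Facts

variable (hF : Facts D co) (hN : HasNbr D) {φ : D.SteinbergGroup K →* GL D.Idx K}
  (hφ : IsTheta D φ)
include hF hN hφ

theorem st_simple_hom {i : ℕ} (hi : i < D.rank) :
    ∃ f : Kˣ →* D.SteinbergGroup K, ∀ c : Kˣ, f c = stHG D (D.simple i) (c : K) := by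
  have _ := hφ
  have _ := hN
  exact ⟨MonoidHom.mk' (fun c => stHG D (D.simple i) (c : K)) fun a b => by
    rw [Units.val_mul, stHG_mul (fun _ h => h) (hF.simple_lt' hi) a.ne_zero b.ne_zero], fun _ => rfl⟩

theorem st_torus_comm {i j : ℕ} (hi : i < D.rank) (hj : j < D.rank) (a b : Kˣ) :
    Commute (stHG D (D.simple i) (a : K)) (stHG D (D.simple j) (b : K)) := by
  have hp := hF.simple_lt' hi
  have hq := hF.simple_lt' hj
  have hn := hF.neg_lt hq
  set h := stHG D (D.simple i) (a : K) with hh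
  set χ : ℕ → Kˣ := fun s => prChar D (D.simple i) a s with hχ
  have hmem : h ∈ stN' D K := hF.stH_le_N (hF.stHG_mem hi a.ne_zero)
  have key : ∀ s, s < D.nroots → ∀ t : K,
      h * D.stGen K s t * h⁻¹ = D.stGen K s ((χ s : K) * t) := fun s hs t => by
    refine hF.stTr_eq hφ (hF.stTr_N hφ hN hmem) hs hs ?_
    rw [hh, stHG, map_mul, hφ.map_stNG hF hp, hφ.map_stNG hF hp]
    exact hF.hU_conj_xU hp hs a t
  have hneg : (χ (D.neg (D.simple j)) : K) = (χ (D.simple j) : K)⁻¹ := by
    rw [← Units.val_inv_eq_inv_val]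
    congr 1
    simp only [hχ, prChar, (hF.isWeight_prE hp).neg _ hq, zpow_neg]
  have e1 : ∀ d : K, h * stNG D (D.simple j) d * h⁻¹ =
      stNG D (D.simple j) ((χ (D.simple j) : K) * d) := by
    intro d
    rw [stNG, show h * (D.stGen K (D.simple j) d * D.stGen K (D.neg (D.simple j)) (-d⁻¹) *
      D.stGen K (D.simple j) d) * h⁻¹ = (h * D.stGen K (D.simple j) d * h⁻¹) *
      (h * D.stGen K (D.neg (D.simple j)) (-d⁻¹) * h⁻¹) *
      (h * D.stGen K (D.simple j) d * h⁻¹) by group, key _ hq, key _ hn, hneg, stNG]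
    congr 3 <;> simp [mul_comm]
  set x : Kˣ := χ (D.simple j) with hx
  have e2 : h * stHG D (D.simple j) (b : K) * h⁻¹ = stHG D (D.simple j) (b : K) := by
    rw [stHG, show h * (stNG D (D.simple j) (b : K) * stNG D (D.simple j) (-1)) * h⁻¹ =
      (h * stNG D (D.simple j) (b : K) * h⁻¹) * (h * stNG D (D.simple j) (-1) * h⁻¹) by group,
      e1, e1, mul_neg_one]
    have h1 : stHG D (D.simple j) ((x : K) * b) =
        stHG D (D.simple j) (x : K) * stHG D (D.simple j) (b : K) :=
      (stHG_mul (fun _ h => h) hq x.ne_zero b.ne_zero).symm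
    have h2 : stHG D (D.simple j) ((x : K) * b) = stHG D (D.simple j) ((b : K) * x) := by
      rw [mul_comm]
    have h3 : stNG D (D.simple j) ((x : K) * b) * stNG D (D.simple j) (-(x : K)) =
        stHG D (D.simple j) ((b : K) * x) * (stHG D (D.simple j) (x : K))⁻¹ := by
      rw [← h2, stHG, stHG, mul_inv_rev, stNG_inv hF hq, stNG_inv hF hq, _root_.neg_neg]
      rw [show stNG D (D.simple j) (1 : K) = (stNG D (D.simple j) (-1))⁻¹ by
        rw [stNG_inv hF hq, _root_.neg_neg]]
      group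
    rw [h3, ← stHG_mul (fun _ h => h) hq b.ne_zero x.ne_zero, mul_inv_cancel_right, stHG]
  exact mul_inv_eq_iff_eq_mul.1 e2

theorem st_torus_hom : ∃ f : (Fin D.rank → Kˣ) →* D.SteinbergGroup K,
    (∀ c, f c = stT D c) ∧ ∀ z ∈ stH' D K, ∃ c, f c = z := by
  classical
  choose f hf using fun i : Fin D.rank => hF.st_simple_hom hN hφ i.isLt
  have hcomm : Pairwise fun i j : Fin D.rank => ∀ (x : Kˣ) (y : Kˣ), Commute (f i x) (f j y) := by
    intro i j _ x y
    rw [hf, hf]
    exact hF.st_torus_comm hN hφ i.isLt j.isLt x y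
  refine ⟨MonoidHom.noncommPiCoprod f hcomm, fun c => ?_, fun z hz => ?_⟩
  · have hc : c = ((List.finRange D.rank).map fun i => Pi.mulSingle i (c i)).prod := by
      rw [← List.prod_toFinset _ (List.nodup_finRange _), List.toFinset_finRange,
        Finset.univ_prod_mulSingle]
    conv_lhs => rw [hc, map_list_prod, List.map_map]
    refine congrArg List.prod (List.map_congr_left fun i _ => ?_)
    rw [Function.comp_apply, MonoidHom.noncommPiCoprod_mulSingle, hf]
  · have hle : stH' D K ≤ (MonoidHom.noncommPiCoprod f hcomm).range := by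
      refine (Subgroup.closure_le _).2 ?_
      rintro x ⟨i, d, hi, hd, rfl⟩
      refine ⟨Pi.mulSingle ⟨i, hi⟩ (Units.mk0 d hd), ?_⟩
      rw [MonoidHom.noncommPiCoprod_mulSingle, hf]
      rfl
    exact hle hz

theorem stT_map (c : Fin D.rank → Kˣ) :
    φ (stT D c) = hT D (fun i => if h : i < D.rank then c ⟨i, h⟩ else 1) := by
  have _ := hN
  rw [hF.hT_eq_list, stT, map_list_prod, List.map_map, ← List.map_coe_finRange_eq_range,
    List.map_map]
  refine congrArg List.prod (List.map_congr_left fun i _ => ?_)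
  simp only [Function.comp_apply, dif_pos i.isLt]
  rw [stHG, map_mul, hφ.map_stNG hF (hF.simple_lt' i.isLt), hφ.map_stNG hF (hF.simple_lt' i.isLt)]
  rfl

/-- Central elements come from the kernel of the Cartan map. -/
theorem st_center_le (hC : CommF.{v} D) {z : D.SteinbergGroup K}
    (hz : z ∈ Subgroup.center (D.SteinbergGroup K)) :
    ∃ c : Fin D.rank → Kˣ, actM (cartanMat D) c = 1 ∧ z = stT D c := by
  obtain ⟨θ, -, hker, hθ⟩ := hF.exists_surj hC hN (K := K)
  rw [← hker, MonoidHom.mem_ker] at hz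
  have h1 : φ z = 1 := by
    have e : φ = (D.group K).subtype.comp θ := PresentedGroup.ext fun ⟨r, t⟩ => by
      have h := hF.isTheta_subtype hθ r.val t r.isLt
      have hg : D.stGen K r.val t = PresentedGroup.of (r, t) := by
        simp [ChevalleyDatum.stGen, ChevalleyDatum.stX, PresentedGroup.of]
      rw [← hg, hφ r.val t r.isLt, h]
    rw [e, MonoidHom.comp_apply, hz, map_one]
  obtain ⟨f, hf, hsurj⟩ := hF.st_torus_hom hN hφ
  obtain ⟨c, hc⟩ := hsurj z (hF.st_ker hφ hN h1).1
  rw [hf] at hc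
  subst hc
  refine ⟨c, ?_, rfl⟩
  rw [hF.stT_map hN hφ, hF.hT_eq_one_iff] at h1
  simpa using h1

end Facts

/-- A datum whose Cartan matrix is unimodular. -/
theorem Facts.st_center_bot (hF : Facts D co) (hC : CommF.{v} D) (hN : HasNbr D)
    {M : Matrix (Fin D.rank) (Fin D.rank) ℤ} (hM : M * cartanMat D = 1) :
    Subgroup.center (D.SteinbergGroup K) = ⊥ := by
  obtain ⟨φ, hφ⟩ := hF.exists_theta hC (K := K)
  rw [eq_bot_iff]
  intro z hz
  obtain ⟨c, hc, rfl⟩ := hF.st_center_le hN hφ hC hz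
  obtain ⟨f, hf, -⟩ := hF.st_torus_hom hN hφ
  have : c = 1 := by
    rw [← actM_one c, ← hM, actM_mul, hc, map_one]
  rw [Subgroup.mem_bot, ← hf, this, map_one]

end CfsgLib.Chev
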