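/-
Orders of the tabulated Chevalley groups and of their diagonal subgroups.
-/
import Cfsg.Agent.Lib.Chev.Order
import Cfsg.Agent.Lib.Chev.Data.Smith
import Cfsg.Agent.Lib.Chev.Data.WeylG2
import Cfsg.Agent.Lib.Chev.Data.WeylB2
import Cfsg.Agent.Lib.Chev.Data.WeylD4
import Cfsg.Agent.Lib.Chev.Data.WeylF4
import Cfsg.Agent.Lib.Chev.Data.WeylE6
import Cfsg.Agent.Lib.Chev.Data.WeylE7
import Cfsg.Agent.Lib.Chev.Data.WeylE8

set_option autoImplicit false

namespace CfsgLib.Chev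

universe u

open Cfsg.Lie

theorem card_diag_G2 {F : Type*} [Field F] [Finite F] :
    1 * Nat.card ↥(chevG2.diagonalSubgroup F) = (Nat.card F - 1) ^ chevG2.rank := by
  refine Eq.trans ?_ smith_G2
  simp [Fin.prod_univ_succ, Nat.gcd_comm (Nat.card F - 1), mul_comm, sq]

theorem order_G2 {F : Type u} [Field F] [Finite F] :
    1 * Nat.card ↥(chevG2.group F) = Nat.card F ^ 6 * ((Nat.card F ^ 2 - 1) * (Nat.card F ^ 6 - 1)) := by
  rw [DataG2.facts.card_group_formula good_G2.comm DataG2.weyl_poincare.1 card_diag_G2]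
  rw [show chevG2.nroots = 12 by decide +kernel]
  simp [mul_assoc]

theorem card_diag_B2 {F : Type*} [Field F] [Finite F] :
    Nat.gcd 2 (Nat.card F - 1) * Nat.card ↥(chevB2.diagonalSubgroup F) = (Nat.card F - 1) ^ chevB2.rank := by
  refine Eq.trans ?_ smith_B2
  simp [Fin.prod_univ_succ, Nat.gcd_comm (Nat.card F - 1), mul_comm, sq]

theorem order_B2 {F : Type u} [Field F] [Finite F] :
    Nat.gcd 2 (Nat.card F - 1) * Nat.card ↥(chevB2.group F) = Nat.card F ^ 4 * ((Nat.card F ^ 2 - 1) * (Nat.card F ^ 4 - 1)) := by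
  rw [DataB2.facts.card_group_formula good_B2.comm DataB2.weyl_poincare.1 card_diag_B2]
  rw [show chevB2.nroots = 8 by decide +kernel]
  simp [mul_assoc]

theorem card_diag_D4 {F : Type*} [Field F] [Finite F] :
    Nat.gcd 2 (Nat.card F - 1) ^ 2 * Nat.card ↥(chevD4.diagonalSubgroup F) = (Nat.card F - 1) ^ chevD4.rank := by
  refine Eq.trans ?_ smith_D4
  simp [Fin.prod_univ_succ, Nat.gcd_comm (Nat.card F - 1), mul_comm, sq]

theorem order_D4 {F : Type u} [Field F] [Finite F] :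
    Nat.gcd 2 (Nat.card F - 1) ^ 2 * Nat.card ↥(chevD4.group F) = Nat.card F ^ 12 * ((Nat.card F ^ 2 - 1) * (Nat.card F ^ 4 - 1) * (Nat.card F ^ 4 - 1) * (Nat.card F ^ 6 - 1)) := by
  rw [DataD4.facts.card_group_formula good_D4.comm DataD4.weyl_poincare.1 card_diag_D4]
  rw [show chevD4.nroots = 24 by decide +kernel]
  simp [mul_assoc]

theorem card_diag_F4 {F : Type*} [Field F] [Finite F] :
    1 * Nat.card ↥(chevF4.diagonalSubgroup F) = (Nat.card F - 1) ^ chevF4.rank := by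
  refine Eq.trans ?_ smith_F4
  simp [Fin.prod_univ_succ, Nat.gcd_comm (Nat.card F - 1), mul_comm, sq]

theorem order_F4 {F : Type u} [Field F] [Finite F] :
    1 * Nat.card ↥(chevF4.group F) = Nat.card F ^ 24 * ((Nat.card F ^ 2 - 1) * (Nat.card F ^ 6 - 1) * (Nat.card F ^ 8 - 1) * (Nat.card F ^ 12 - 1)) := by
  rw [DataF4.facts.card_group_formula good_F4.comm DataF4.weyl_poincare.1 card_diag_F4]
  rw [show chevF4.nroots = 48 by decide +kernel]
  simp [mul_assoc]

theorem card_diag_E6 {F : Type*} [Field F] [Finite F] :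
    Nat.gcd 3 (Nat.card F - 1) * Nat.card ↥(chevE6.diagonalSubgroup F) = (Nat.card F - 1) ^ chevE6.rank := by
  refine Eq.trans ?_ smith_E6
  simp [Fin.prod_univ_succ, Nat.gcd_comm (Nat.card F - 1), mul_comm, sq]

theorem order_E6 {F : Type u} [Field F] [Finite F] :
    Nat.gcd 3 (Nat.card F - 1) * Nat.card ↥(chevE6.group F) = Nat.card F ^ 36 * ((Nat.card F ^ 2 - 1) * (Nat.card F ^ 5 - 1) * (Nat.card F ^ 6 - 1) * (Nat.card F ^ 8 - 1) * (Nat.card F ^ 9 - 1) * (Nat.card F ^ 12 - 1)) := by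
  rw [DataE6.facts.card_group_formula good_E6.comm DataE6.weyl_poincare.1 card_diag_E6]
  rw [show chevE6.nroots = 72 by decide +kernel]
  simp [mul_assoc]

theorem card_diag_E7 {F : Type*} [Field F] [Finite F] :
    Nat.gcd 2 (Nat.card F - 1) * Nat.card ↥(chevE7.diagonalSubgroup F) = (Nat.card F - 1) ^ chevE7.rank := by
  refine Eq.trans ?_ smith_E7
  simp [Fin.prod_univ_succ, Nat.gcd_comm (Nat.card F - 1), mul_comm, sq]

theorem order_E7 {F : Type u} [Field F] [Finite F] :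
    Nat.gcd 2 (Nat.card F - 1) * Nat.card ↥(chevE7.group F) = Nat.card F ^ 63 * ((Nat.card F ^ 2 - 1) * (Nat.card F ^ 6 - 1) * (Nat.card F ^ 8 - 1) * (Nat.card F ^ 10 - 1) * (Nat.card F ^ 12 - 1) * (Nat.card F ^ 14 - 1) * (Nat.card F ^ 18 - 1)) := by
  rw [DataE7.facts.card_group_formula good_E7.comm DataE7.weyl_poincare.1 card_diag_E7]
  rw [show chevE7.nroots = 126 by decide +kernel]
  simp [mul_assoc]

theorem card_diag_E8 {F : Type*} [Field F] [Finite F] :
    1 * Nat.card ↥(chevE8.diagonalSubgroup F) = (Nat.card F - 1) ^ chevE8.rank := by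
  refine Eq.trans ?_ smith_E8
  simp [Fin.prod_univ_succ, Nat.gcd_comm (Nat.card F - 1), mul_comm, sq]

theorem order_E8 {F : Type u} [Field F] [Finite F] :
    1 * Nat.card ↥(chevE8.group F) = Nat.card F ^ 120 * ((Nat.card F ^ 2 - 1) * (Nat.card F ^ 8 - 1) * (Nat.card F ^ 12 - 1) * (Nat.card F ^ 14 - 1) * (Nat.card F ^ 18 - 1) * (Nat.card F ^ 20 - 1) * (Nat.card F ^ 24 - 1) * (Nat.card F ^ 30 - 1)) := by
  rw [DataE8.facts.card_group_formula good_E8.comm DataE8.weyl_poincare.1 card_diag_E8]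
  rw [show chevE8.nroots = 240 by decide +kernel]
  simp [mul_assoc]

end CfsgLib.Chev
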