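/-
Perfectness, non-commutativity and simplicity of the tabulated Chevalley groups.
-/
import Mathlib
import Cfsg.Agent.S0319
import Cfsg.Agent.Lib.Chev.Struct
import Cfsg.Agent.Lib.Chev.All

set_option autoImplicit false

namespace CfsgLib.Chev

open Cfsg.Lie

universe v

/-- The fundamental roots `i`, `j` have a one-term commutator. -/
def stepB (D : ChevalleyDatum) (i j : ℕ) : Bool :=
  D.simple j != D.simple i && D.simple j != D.neg (D.simple i) &&
    (D.commTerms (D.simple i) (D.simple j) == [(D.reflectRoot j (D.simple i), 1, 1, 1)] ||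
      D.commTerms (D.simple i) (D.simple j) == [(D.reflectRoot j (D.simple i), -1, 1, 1)])

/-- Every fundamental root has, after one reflection, a one-term commutator. -/
def SingleStep (D : ChevalleyDatum) : Prop :=
  ∀ i < D.rank, ∃ j < D.rank, stepB D i j = true

/-- Some coroot pairs to `±1` with every fundamental root. -/
def UnitPairing (D : ChevalleyDatum) : Prop :=
  ∀ i < D.rank, ∃ j < D.nroots, prE D j (D.simple i) = 1 ∨ prE D j (D.simple i) = -1

instance (D : ChevalleyDatum) : Decidable (SingleStep D) := by unfold SingleStep; infer_instance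
instance (D : ChevalleyDatum) : Decidable (UnitPairing D) := by unfold UnitPairing; infer_instance

variable {K : Type v} [Field K]

theorem perfect_of_singleStep {D : ChevalleyDatum} (hG : Good.{v} D) (h : SingleStep D) :
    commutator ↥(D.group K) = ⊤ := by
  obtain ⟨⟨co, hF⟩, hC⟩ := hG
  refine hF.perfect_of_simple fun i hi => ?_
  obtain ⟨j, hj, hb⟩ := h i hi
  simp only [stepB, Bool.and_eq_true, Bool.or_eq_true, bne_iff_ne, beq_iff_eq] at hb
  obtain ⟨⟨h1, h2⟩, h3⟩ := hb
  have hp := hF.simple_lt' hi
  have hk : InDerived D K (D.reflectRoot j (D.simple i)) := by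
    rcases h3 with h3 | h3
    · exact hF.inDerived_single hC hp (hF.simple_lt' hj) h1 h2 (Or.inl rfl) h3
    · exact hF.inDerived_single hC hp (hF.simple_lt' hj) h1 h2 (Or.inr rfl) h3
  have := hF.inDerived_refl hj (hF.refl_lt j hj _ hp) hk
  rwa [hF.refl_invol j hj _ hp] at this

theorem perfect_of_unitPairing {D : ChevalleyDatum} (hG : Good.{v} D) (h : UnitPairing D)
    (hq : ∃ a : K, a ≠ 0 ∧ a ≠ 1) : commutator ↥(D.group K) = ⊤ := by
  obtain ⟨⟨co, hF⟩, hC⟩ := hG
  refine hF.perfect_of_simple fun i hi => ?_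
  obtain ⟨j, hj, hp⟩ := h i hi
  exact hF.inDerived_torus (hF.simple_lt' hi) hj hp hq

theorem linked_G2 : Linked chevG2 :=
  ⟨id, by decide +kernel⟩
theorem linked_B2 : Linked chevB2 :=
  ⟨id, by decide +kernel⟩
theorem linked_D4 : Linked chevD4 :=
  ⟨id, by decide +kernel⟩
theorem linked_F4 : Linked chevF4 :=
  ⟨id, by decide +kernel⟩
theorem linked_E6 : Linked chevE6 :=
  ⟨(fun i => if i = 1 then 100 else i), by decide +kernel⟩
theorem linked_E7 : Linked chevE7 :=
  ⟨(fun i => if i = 1 then 100 else i), by decide +kernel⟩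
theorem linked_E8 : Linked chevE8 :=
  ⟨(fun i => if i = 1 then 100 else i), by decide +kernel⟩
theorem singleStep_D4 : SingleStep chevD4 := by decide +kernel
theorem singleStep_F4 : SingleStep chevF4 := by decide +kernel
theorem singleStep_E6 : SingleStep chevE6 := by decide +kernel
theorem singleStep_E7 : SingleStep chevE7 := by decide +kernel
theorem singleStep_E8 : SingleStep chevE8 := by decide +kernel
theorem unitPairing_G2 : UnitPairing chevG2 := by decide +kernel

theorem perfect_B2 (hq : ∃ a : K, a ≠ 0 ∧ a ≠ 1) : commutator ↥(chevB2.group K) = ⊤ := by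
  obtain ⟨⟨co, hF⟩, hC⟩ := good_B2.{v}
  have hlt0 : chevB2.simple 0 < chevB2.nroots := by decide +kernel
  have hlt1 : chevB2.simple 1 < chevB2.nroots := by decide +kernel
  have hr : (1 : ℕ) < chevB2.rank := by decide +kernel
  have hr0 : (0 : ℕ) < chevB2.rank := by decide +kernel
  have h0 : InDerived chevB2 K (chevB2.simple 0) :=
    hF.inDerived_torus hlt0 hlt1 (by decide +kernel) hq
  have h6 := hF.inDerived_refl hr hlt0 h0
  have h7 : InDerived chevB2 K (chevB2.reflectRoot 0 (chevB2.simple 1)) :=
    hF.inDerived_double hC (r := chevB2.simple 0) (s := chevB2.simple 1)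
      (k := chevB2.reflectRoot 1 (chevB2.simple 0)) (C := -1) (C' := -1) (i := 2) (j := 1)
      hlt0 hlt1 (by decide +kernel) (by decide +kernel) (Or.inr rfl) (Or.inr rfl)
      (by decide +kernel) h6
  have h1 := hF.inDerived_refl hr0 (hF.refl_lt 0 hr0 _ hlt1) h7
  rw [hF.refl_invol 0 hr0 _ hlt1] at h1
  refine hF.perfect_of_simple fun i hi => ?_
  have : i = 0 ∨ i = 1 := by
    have e : chevB2.rank = 2 := rfl
    omega
  rcases this with rfl | rfl
  · exact h0
  · exact h1

/-- Simplicity from perfectness. -/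
theorem simple_of_perfect {D : ChevalleyDatum} (hG : Good.{v} D) (hL : Linked D)
    (hperf : commutator ↥(D.group K) = ⊤) :
    IsSimpleGroup ↥(D.group K) ∧ ¬ IsMulCommutative ↥(D.group K) := by
  obtain ⟨⟨co, hF⟩, hC⟩ := hG
  have hp := hF.simple_lt' hF.rank_pos
  haveI : Nontrivial ↥(D.group K) := ⟨⟨⟨_, hF.xU_mem_group hp 1⟩, 1, fun h =>
    one_ne_zero (hF.xU_eq_one hp (congrArg Subtype.val h))⟩⟩
  refine ⟨Cfsg.Agent.S0319.result (hF.bnPair hC) (hF.irreducible hC hL) ?_ hperf
    hF.normalCore_eq_bot, ?_⟩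
  · haveI := hF.borel_solvable hC (K := K)
    let e := (Subgroup.subgroupOfEquivOfLe (hF.borel_le_group (F := K))).symm
    exact Group.isSolvable_of_surjective (f := e.toMonoidHom) e.surjective
  · intro h
    have hbot : commutator ↥(D.group K) = ⊥ := by
      rw [commutator_def, Subgroup.commutator_eq_bot_iff_le_centralizer]
      intro x _ y _
      exact (h.is_comm.comm y x)
    rw [hbot] at hperf
    exact bot_ne_top hperf

end CfsgLib.Chev
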