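/-
The Weyl groups of the tabulated data are the Coxeter groups of their types.
-/
import Cfsg.Agent.Lib.Chev.Coxeter
import Cfsg.Agent.Lib.Chev.All
import Cfsg.Prelude.Def_ChevStructure
import Cfsg.Agent.Lib.Chev.Data.WeylG2
import Cfsg.Agent.Lib.Chev.Data.WeylB2
import Cfsg.Agent.Lib.Chev.Data.WeylD4
import Cfsg.Agent.Lib.Chev.Data.WeylF4
import Cfsg.Agent.Lib.Chev.Data.WeylE6
import Cfsg.Agent.Lib.Chev.Data.WeylE7
import Cfsg.Agent.Lib.Chev.Data.WeylE8

set_option autoImplicit false
set_option maxRecDepth 20000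

namespace CfsgLib.Chev

open Cfsg.Lie

/-- A Coxeter system on the Weyl group with the prescribed matrix, its order and Coxeter number. -/
structure CoxData (D : ChevalleyDatum) (n : ℕ) (M : CoxeterMatrix (Fin n)) (N h : ℕ) : Prop where
  sys : ∃ e : weylGroup D ≃* M.Group, ∀ (i : Fin D.rank) (j : Fin n), i.val = j.val →
    e (wS D i) = M.simple j
  card : Nat.card M.Group = N
  coxeterNumber : orderOf ((List.finRange n).map M.simple).prod = h

theorem coxData_of {D : ChevalleyDatum} {co : ℕ → ℕ → ℤ} {T : Table.Tab}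
    (hA : T.chkArrays D = true) (hC : T.chkChain D = true) (hF : Facts D co)
    {M : CoxeterMatrix (Fin D.rank)}
    (hM : ∀ i j : Fin D.rank, Table.chkOrder T [i.val, j.val] (M.M i j) = true) {N h : ℕ}
    (hN : (wFin D D.rank).card = N)
    (hh : Table.chkOrder T ((List.finRange D.rank).map Fin.val) h = true) :
    CoxData D D.rank M N h := by
  obtain ⟨cs, hcs⟩ := hF.exists_coxeter fun i j => Table.orderOf_sW hA hC hF (hM i j)
  have hs : ∀ i, cs.mulEquiv (wS D i) = M.simple i := fun i => by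
    rw [← hcs i]; exact cs.mulEquiv.apply_symm_apply _
  refine ⟨⟨cs.mulEquiv, fun i j hij => by rw [hs, Fin.ext hij]⟩, ?_, ?_⟩
  · rw [card_coxeter cs, hF.card_weylGroup, hN]
  · have e : ((List.finRange D.rank).map M.simple).prod =
        cs.mulEquiv (Exch.prodW (wS D) (List.finRange D.rank)) := by
      rw [Exch.prodW, map_list_prod, List.map_map]
      congr 1
      exact List.map_congr_left fun i _ => (hs i).symm
    rw [e, MulEquiv.orderOf_eq, ← Subgroup.orderOf_coe, wS_prod]
    exact Table.orderOf_sW hA hC hF hh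

theorem cox_G2 : CoxData chevG2 2 CoxeterMatrix.G₂ 12 6 :=
  coxData_of (D := chevG2) DataG2.chk_arrays DataG2.chk_chain DataG2.facts (M := CoxeterMatrix.G₂)
    (by decide +kernel) DataG2.weyl_poincare.2 (by decide +kernel)

theorem cox_B2 : CoxData chevB2 2 (CoxeterMatrix.B 2) 8 4 :=
  coxData_of (D := chevB2) DataB2.chk_arrays DataB2.chk_chain DataB2.facts (M := (CoxeterMatrix.B 2))
    (by decide +kernel) DataB2.weyl_poincare.2 (by decide +kernel)

theorem cox_D4 : CoxData chevD4 4 Cfsg.Lie.coxeterD4 192 6 :=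
  coxData_of (D := chevD4) DataD4.chk_arrays DataD4.chk_chain DataD4.facts (M := Cfsg.Lie.coxeterD4)
    (by decide +kernel) DataD4.weyl_poincare.2 (by decide +kernel)

theorem cox_F4 : CoxData chevF4 4 CoxeterMatrix.F₄ 1152 12 :=
  coxData_of (D := chevF4) DataF4.chk_arrays DataF4.chk_chain DataF4.facts (M := CoxeterMatrix.F₄)
    (by decide +kernel) DataF4.weyl_poincare.2 (by decide +kernel)

theorem cox_E6 : CoxData chevE6 6 CoxeterMatrix.E₆ 51840 12 :=
  coxData_of (D := chevE6) DataE6.chk_arrays DataE6.chk_chain DataE6.facts (M := CoxeterMatrix.E₆)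
    (by decide +kernel) DataE6.weyl_poincare.2 (by decide +kernel)

theorem cox_E7 : CoxData chevE7 7 CoxeterMatrix.E₇ 2903040 18 :=
  coxData_of (D := chevE7) DataE7.chk_arrays DataE7.chk_chain DataE7.facts (M := CoxeterMatrix.E₇)
    (by decide +kernel) DataE7.weyl_poincare.2 (by decide +kernel)

theorem cox_E8 : CoxData chevE8 8 CoxeterMatrix.E₈ 696729600 30 :=
  coxData_of (D := chevE8) DataE8.chk_arrays DataE8.chk_chain DataE8.facts (M := CoxeterMatrix.E₈)
    (by decide +kernel) DataE8.weyl_poincare.2 (by decide +kernel)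

theorem exists_hom_coxeter {D : ChevalleyDatum} {co : ℕ → ℕ → ℤ} (hF : Facts D co)
    (F : Type*) [Field F] {n : ℕ} {M : CoxeterMatrix (Fin n)} {N h : ℕ} (hn : D.rank = n)
    (hc : CoxData D n M N h) :
    ∃ φ : ↥(D.monomialSubgroup F) →* M.Group, Function.Surjective φ ∧
      φ.ker = (D.diagonalSubgroup F).subgroupOf (D.monomialSubgroup F) ∧
      ∀ (i : Fin n) (g : ↥(D.monomialSubgroup F)),
        ((g : GL D.Idx F) : Matrix D.Idx D.Idx F) = D.nMat F (D.simple i) 1 → φ g = M.simple i := by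
  obtain ⟨e, he⟩ := hc.sys
  subst hn
  have hmem : ∀ g : ↥(D.monomialSubgroup F), hF.weylHom g ∈ weylGroup D := fun g => by
    obtain ⟨l, k, hk, hg⟩ := hF.exists_nW g.2
    have := hF.weylHom_eq (g := g) (hg ▸ hF.permAct_mul (hF.permAct_nW l) (hF.permAct_diagonal hk))
    rw [this, mul_one]
    exact sW_mem_weylGroup l
  refine ⟨e.toMonoidHom.comp ((hF.weylHom (F := F)).codRestrict (weylGroup D) hmem), ?_, ?_, ?_⟩
  · refine e.surjective.comp fun σ => ?_
    obtain ⟨l, hl⟩ := hF.mem_weylGroup.1 σ.2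
    exact ⟨⟨nW D F l, hF.nW_mem l⟩, Subtype.ext ((hF.weylHom_nW l).trans hl.symm)⟩
  · rw [← hF.weylHom_ker]
    ext g
    simp [MonoidHom.mem_ker, Subtype.ext_iff]
  · intro i g hg
    rw [← hF.nU_val (hF.simple_lt' i.isLt), Units.val_inj] at hg
    rw [← he i i rfl]
    refine congrArg e (Subtype.ext ?_)
    refine hF.weylHom_eq ?_
    rw [hg]
    exact hF.permAct_nS i

end CfsgLib.Chev
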