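/-
Numerical bounds for orders of the shape `q ^ N * M` with `M` prime to the characteristic.
-/
import Mathlib

set_option autoImplicit false

namespace CfsgLib.Chev.OrderBound

/-- The two bounds of the statement, for a number. -/
def Small (p n : ℕ) : Prop :=
  n < p ^ (3 * n.factorization p) ∧ n ^ 3 < p ^ (8 * n.factorization p)

theorem factorization_eq {p a N M c n : ℕ} (hp : p.Prime) (hM : ¬ p ∣ M)
    (hc : ¬ p ∣ c) (h : c * n = (p ^ a) ^ N * M) : n.factorization p = a * N := by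
  have hc0 : c ≠ 0 := fun e => hc (e ▸ dvd_zero p)
  have hM0 : M ≠ 0 := fun e => hM (e ▸ dvd_zero p)
  have hn0 : n ≠ 0 := fun e => by
    rw [e, mul_zero, eq_comm, mul_eq_zero] at h
    rcases h with h | h
    · exact hp.ne_zero (pow_eq_zero_iff'.1 (pow_eq_zero_iff'.1 h).1).1
    · exact hM0 h
  have h' := congrArg (fun x => x.factorization p) h
  simp only [Nat.factorization_mul hc0 hn0, Nat.factorization_mul
    (pow_ne_zero _ (pow_ne_zero _ hp.ne_zero)) hM0, Finsupp.add_apply,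
    Nat.factorization_eq_zero_of_not_dvd hc, Nat.factorization_eq_zero_of_not_dvd hM,
    zero_add, add_zero] at h'
  rw [h', ← pow_mul, hp.factorization_pow, Finsupp.single_eq_same]

/-- The criterion. -/
theorem small_of {p a N M c n D : ℕ} (hp : p.Prime) (hM : ¬ p ∣ M) (hc : ¬ p ∣ c)
    (hlt : M < (p ^ a) ^ D) (hD : 3 * D ≤ 5 * N) (h : c * n = (p ^ a) ^ N * M) : Small p n := by
  have hk := factorization_eq hp hM hc h
  have hc0 : 1 ≤ c := Nat.pos_of_ne_zero fun e => hc (e ▸ dvd_zero p)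
  set q := p ^ a with hq
  have hq0 : 1 ≤ q := Nat.one_le_pow _ _ hp.pos
  have hn : n < q ^ (N + D) := by
    calc n ≤ c * n := Nat.le_mul_of_pos_left n hc0
      _ = q ^ N * M := h
      _ < q ^ N * q ^ D := Nat.mul_lt_mul_of_pos_left hlt (Nat.pow_pos hq0)
      _ = q ^ (N + D) := (pow_add _ _ _).symm
  refine ⟨?_, ?_⟩
  · rw [hk, mul_left_comm, pow_mul]
    exact lt_of_lt_of_le hn (Nat.pow_le_pow_right hq0 (by omega))
  · rw [hk, mul_left_comm, pow_mul]
    calc n ^ 3 < (q ^ (N + D)) ^ 3 := Nat.pow_lt_pow_left hn (by norm_num)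
      _ = q ^ ((N + D) * 3) := (pow_mul _ _ _).symm
      _ ≤ q ^ (8 * N) := Nat.pow_le_pow_right hq0 (by omega)

/-- The criterion in rank one. -/
theorem small_one_of {p a c n : ℕ} (hp : p.Prime) (ha : a ≠ 0) (hc : ¬ p ∣ c)
    (h : c * n = p ^ a * ((p ^ a - 1) * (p ^ a + 1))) :
    n < p ^ (3 * n.factorization p) ∧ n.factorization p = a := by
  set q := p ^ a with hq
  have hd : p ∣ q := dvd_pow_self p ha
  have hq2 : 2 ≤ q := le_trans hp.two_le (Nat.le_of_dvd (Nat.pow_pos hp.pos) hd)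
  have hM : ¬ p ∣ (q - 1) * (q + 1) := by
    rw [hp.dvd_mul]
    rintro (h | h)
    · exact hp.not_dvd_one (by
        have := Nat.dvd_sub hd h
        rwa [show q - (q - 1) = 1 by omega] at this)
    · exact hp.not_dvd_one ((Nat.dvd_add_right hd).1 h)
  have hk : n.factorization p = a := by
    rw [factorization_eq (N := 1) hp hM hc (by rwa [pow_one]), mul_one]
  refine ⟨?_, hk⟩
  rw [hk, mul_comm 3, pow_mul, ← hq]
  have hc0 : 1 ≤ c := Nat.pos_of_ne_zero fun e => hc (e ▸ dvd_zero p)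
  calc n ≤ c * n := Nat.le_mul_of_pos_left n hc0
    _ = q * ((q - 1) * (q + 1)) := h
    _ < q * q ^ 2 := Nat.mul_lt_mul_of_pos_left (by
        obtain ⟨r, hr⟩ : ∃ r, q = r + 1 := ⟨q - 1, by omega⟩
        rw [hr, Nat.add_sub_cancel]; nlinarith) (by omega)
    _ = q ^ 3 := by ring

theorem not_dvd_pow_sub {p q k : ℕ} (hp : p.Prime) (hd : p ∣ q) (hq : 1 ≤ q) (hk : k ≠ 0) :
    ¬ p ∣ q ^ k - 1 := fun h => hp.not_dvd_one (by
  have h1 := Nat.dvd_sub (dvd_pow hd hk) h
  have : 1 ≤ q ^ k := Nat.one_le_pow _ _ hq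
  rwa [show q ^ k - (q ^ k - 1) = 1 by omega] at h1)

theorem not_dvd_pow_add {p q k : ℕ} (hp : p.Prime) (hd : p ∣ q) (hk : k ≠ 0) :
    ¬ p ∣ q ^ k + 1 := fun h => hp.not_dvd_one ((Nat.dvd_add_right (dvd_pow hd hk)).1 h)

theorem not_dvd_of_dvd {p c M : ℕ} (hM : ¬ p ∣ M) (h : c ∣ M) : ¬ p ∣ c :=
  fun e => hM (e.trans h)

theorem not_dvd_prod {p : ℕ} (hp : p.Prime) {s : Finset ℕ} {f : ℕ → ℕ}
    (h : ∀ i ∈ s, ¬ p ∣ f i) : ¬ p ∣ ∏ i ∈ s, f i := fun e =>
  let ⟨i, hi, hd⟩ := (Prime.dvd_finset_prod_iff hp.prime f).1 e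
  h i hi hd

theorem sub_one_lt {q k : ℕ} (hq : 1 ≤ q) : q ^ k - 1 < q ^ k := by
  have : 1 ≤ q ^ k := Nat.one_le_pow _ _ hq
  omega

theorem add_one_le {q k : ℕ} (hq : 2 ≤ q) : q ^ k + 1 ≤ q ^ (k + 1) := by
  have : 1 ≤ q ^ k := Nat.one_le_pow _ _ (by omega)
  rw [pow_succ]
  nlinarith

/-- A product of `q ^ (f i) - 1` is below the power of the sum of the exponents. -/
theorem prod_sub_lt {q : ℕ} (hq : 1 ≤ q) {s : Finset ℕ} (hs : s.Nonempty) (f : ℕ → ℕ) :
    ∏ i ∈ s, (q ^ f i - 1) < q ^ ∑ i ∈ s, f i := by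
  induction hs using Finset.Nonempty.cons_induction with
  | singleton a => simpa using sub_one_lt (k := f a) hq
  | cons a s ha hs ih =>
    rw [Finset.prod_cons, Finset.sum_cons, pow_add]
    exact Nat.mul_lt_mul'' (sub_one_lt hq) ih

theorem sum_two_mul (m : ℕ) : ∑ i ∈ Finset.range m, 2 * (i + 1) = m * (m + 1) := by
  induction m with
  | zero => rfl
  | succ m ih => rw [Finset.sum_range_succ, ih]; ring

theorem two_sum_add_two (n : ℕ) :
    2 * ∑ i ∈ Finset.range n, (i + 2) = n * (n + 3) := by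
  induction n with
  | zero => rfl
  | succ n ih => rw [Finset.sum_range_succ, mul_add, ih]; ring

/-- The product `∏ (q ^ i - (-1) ^ i)` over `2 ≤ i ≤ n + 2`. -/
theorem unitary_prod_lt {q : ℕ} (hq : 2 ≤ q) : ∀ n : ℕ,
    ∏ i ∈ Finset.range (n + 1), (if Even i then q ^ (i + 2) - 1 else q ^ (i + 2) + 1) <
      q ^ ∑ i ∈ Finset.range (n + 1), (i + 2) := by
  intro n
  induction n using Nat.twoStepInduction with
  | zero => simpa using sub_one_lt (k := 2) (q := q) (by omega)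
  | one =>
    simp only [Finset.prod_range_succ, Finset.prod_range_zero, Finset.sum_range_succ,
      Finset.sum_range_zero, one_mul]
    norm_num
    obtain ⟨r, rfl⟩ : ∃ r, q = r + 2 := ⟨q - 2, by omega⟩
    rw [show (r + 2) ^ 2 - 1 = r ^ 2 + 4 * r + 3 by ring_nf; omega]
    ring_nf
    nlinarith
  | more n ih ih' =>
    rw [Finset.prod_range_succ _ (n + 2), Finset.sum_range_succ _ (n + 2)]
    rcases Nat.even_or_odd n with he | ho
    · rw [if_pos (show Even (n + 2) from he.add (by decide))]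
      exact lt_of_lt_of_eq (Nat.mul_lt_mul'' ih' (sub_one_lt (k := n + 2 + 2) (by omega)))
        (pow_add _ _ _).symm
    · rw [if_neg (show ¬ Even (n + 2) from Nat.not_even_iff_odd.2 (ho.add_even (by decide))),
        Finset.prod_range_succ _ (n + 1), Finset.sum_range_succ _ (n + 1),
        if_pos (show Even (n + 1) from ho.add_odd odd_one)]
      have h1 : 1 ≤ q ^ (n + 1 + 2) := Nat.one_le_pow _ _ (by omega)
      have h2 : q ^ (n + 1 + 2) ≤ q ^ (n + 2 + 2) := Nat.pow_le_pow_right (by omega) (by omega)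
      have h3 : (q ^ (n + 1 + 2) - 1) * (q ^ (n + 2 + 2) + 1) ≤
          q ^ ((n + 1 + 2) + (n + 2 + 2)) := by
        refine le_trans ?_ (pow_add _ _ _).symm.le
        obtain ⟨x, hx⟩ : ∃ x, q ^ (n + 1 + 2) = x + 1 := ⟨q ^ (n + 1 + 2) - 1, by omega⟩
        rw [hx] at h2 ⊢
        rw [Nat.add_sub_cancel]
        nlinarith
      refine lt_of_eq_of_lt (mul_assoc _ _ _) ?_
      refine lt_of_lt_of_eq (Nat.mul_lt_mul_of_lt_of_le ih h3 (Nat.pow_pos (by omega))) ?_
      rw [← pow_add]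
      congr 1
      omega

theorem gl_prod {q n : ℕ} : ∏ i : Fin n, (q ^ n - q ^ (i : ℕ)) =
    q ^ (n * (n - 1) / 2) * ∏ i ∈ Finset.range n, (q ^ (i + 1) - 1) := by
  rw [Fin.prod_univ_eq_prod_range (fun i => q ^ n - q ^ i) n, ← Finset.sum_range_id,
    ← Finset.prod_pow_eq_pow_sum,
    ← Finset.prod_range_reflect (fun i => q ^ (i + 1) - 1) n, ← Finset.prod_mul_distrib]
  refine Finset.prod_congr rfl fun i hi => ?_
  rw [Finset.mem_range] at hi
  rw [Nat.mul_sub, mul_one, ← pow_add, show i + (n - 1 - i + 1) = n by omega]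

theorem choose_two_mul {n : ℕ} : 2 * (n * (n - 1) / 2) = n * (n - 1) :=
  Nat.mul_div_cancel' (Nat.even_mul_pred_self n).two_dvd

end CfsgLib.Chev.OrderBound
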