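/-
A fast check of the derivation identity for simply laced tables: the structure constants are a
bimultiplicative sign twisted by a function on the roots, from which the Jacobi identity follows.
-/
import Cfsg.Agent.Lib.Chev.Table

set_option autoImplicit false

namespace CfsgLib.Chev.Table

open Cfsg.Lie

/-- Auxiliary packed data for a simply laced table: residues mod 2 of the roots, their images
under the sign form, and the signs. -/
structure Aux : Type where
  bs : ℕ
  ms : ℕ
  sgs : ℕ

/-- The sign of a Boolean. -/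
def sgn (b : Bool) : ℤ := bif b then -1 else 1

/-- Parity of the low eight bits. -/
def parB (x : ℕ) : Bool :=
  x.testBit 0 ^^ x.testBit 1 ^^ x.testBit 2 ^^ x.testBit 3 ^^ x.testBit 4 ^^ x.testBit 5 ^^
    x.testBit 6 ^^ x.testBit 7

theorem parB_xor (x y : ℕ) : parB (x ^^^ y) = (parB x ^^ parB y) := by
  have hs : ∀ {P a b : Bool}, P = (a ^^ b) → ∀ c d : Bool,
      (P ^^ (c ^^ d)) = ((a ^^ c) ^^ (b ^^ d)) := by decide
  simp only [parB, Nat.testBit_xor]
  exact hs (hs (hs (hs (hs (hs (hs rfl _ _) _ _) _ _) _ _) _ _) _ _) _ _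

theorem sgn_mul (a b : Bool) : sgn a * sgn b = sgn (a ^^ b) := by cases a <;> cases b <;> rfl

theorem sgn_injective : Function.Injective sgn := by
  intro a b; cases a <;> cases b <;> simp [sgn]

namespace Aux

variable (X : Aux)

/-- The sign form. -/
def ee (r s : ℕ) : Bool := parB (slot X.ms r &&& slot X.bs s)

/-- The sign of a root. -/
def sg (r : ℕ) : Bool := Nat.beq (slot X.sgs r) 1

end Aux

namespace Tab

variable (T : Tab) (X : Aux)

/-- The inner product of two roots. -/
def pr (r s : ℕ) : ℤ := ((List.range T.rank).map fun i => T.cc r i * T.aa i s).sum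

/-- The conditions on one pair. -/
def lacedOK (r s : ℕ) : Bool :=
  let p := T.pr r s
  bif T.ent r s == 0 then
    !(p == -1) && decide (-2 ≤ p) && decide (p ≤ 2) && ((p == -2) == Nat.beq s (T.neg r)) &&
      (bif p == 0 then X.ee r s == X.ee s r else true)
  else
    let k := T.ent r s / 16
    (p == -1) &&
      (T.nn r s == sgn (X.sg r ^^ X.sg s ^^ X.sg k ^^ X.ee r s)) &&
      Nat.beq (slot X.bs k) (slot X.bs r ^^^ slot X.bs s) &&
      Nat.beq (slot X.ms k) (slot X.ms r ^^^ slot X.ms s) &&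
      (T.tg (T.neg r) k == some s) && (T.nn r s * T.nn (T.neg r) k == 1) &&
      (T.nn s (T.neg k) == T.nn r s)

/-- All pairs with one first root in the range `[lo, lo + len)`. -/
def chkLacedRange (lo len : ℕ) : Bool :=
  allBelow len fun r => allBelow T.nroots fun s => T.lacedOK X (lo + r) s

/-- The simply laced conditions on roots. -/
def chkLacedRoots : Bool :=
  allBelow T.nroots (fun r => Nat.beq (T.cors.get r) (T.cos.get r)) &&
    allBelow T.rank fun i => allBelow T.rank fun j => T.aa i (T.smp j) == T.aa j (T.smp i)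

/-- All pairs. -/
def LacedPairs : Prop := ∀ r < T.nroots, ∀ s < T.nroots, T.lacedOK X r s = true

end Tab

theorem lacedPairs_of_range {T : Tab} {X : Aux} {len : ℕ} (h : T.chkLacedRange X 0 len = true)
    (hlen : T.nroots ≤ len) : T.LacedPairs X := fun r hr s hs => by
  simpa using allBelow_spec (allBelow_spec h r (lt_of_lt_of_le hr hlen)) s hs

theorem lacedPairs_of_two {T : Tab} {X : Aux} {a b : ℕ} (h : T.chkLacedRange X 0 a = true)
    (h' : T.chkLacedRange X a b = true) (hlen : T.nroots ≤ a + b) : T.LacedPairs X := by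
  intro r hr s hs
  by_cases hra : r < a
  · simpa using allBelow_spec (allBelow_spec h r hra) s hs
  · have := allBelow_spec (allBelow_spec h' (r - a) (by omega)) s hs
    rwa [show a + (r - a) = r by omega] at this

section Jacobi

theorem sum_map_neg {α : Type*} (L : List α) (f : α → ℤ) :
    (L.map fun a => -f a).sum = -(L.map f).sum := by
  induction L with
  | nil => simp
  | cons a L ih => simp [ih]; ring

theorem sumAt_push (f : ℕ → List (ℕ × ℤ)) (L : List (ℕ × ℤ)) (u : ℕ) :
    sumAt (push f L) u = (L.map fun p => p.2 * sumAt (f p.1) u).sum := by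
  rw [push, sumAt_flatMap]
  simp [sumAt_scale]

theorem sumAt_single (v : ℕ) (m : ℤ) (u : ℕ) :
    sumAt [(v, m)] u = if v = u then m else 0 := by
  simp [sumAt_cons, sumAt_nil]

theorem sumAt_range (l : ℕ) (f : ℕ → ℤ) (u : ℕ) :
    sumAt ((List.range l).map fun k => (k, f k)) u = if u < l then f u else 0 := by
  induction l with
  | zero => simp [sumAt]
  | succ n ih =>
    rw [List.range_succ, List.map_append, sumAt_append, ih, List.map_singleton, sumAt_single]
    split_ifs <;> (try omega) <;> simp_all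

variable {D : ChevalleyDatum} {T : Tab} {X : Aux}
variable (hA : T.chkArrays D = true) (hP : T.chkPairs = true) (hR : T.chkRoots = true)
  (hL : T.chkLacedRoots = true) (hX : T.LacedPairs X)

theorem neg_lt' {r : ℕ} (hr : r < T.nroots) : T.neg r < T.nroots := by
  rw [Tab.neg]; omega

theorem neg_neg' {r : ℕ} (hr : r < T.nroots) : T.neg (T.neg r) = r := by
  rw [Tab.neg, Tab.neg]; omega

include hR in
theorem root_checks {r i : ℕ} (hr : r < T.nroots) (hi : i < T.rank) :
    T.cc (T.neg r) i = -T.cc r i ∧ T.aa i (T.neg r) = -T.aa i r ∧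
      T.co (T.neg r) i = -T.co r i ∧ slot (T.cos.get r) i < 32768 ∧ slot T.off i = 32 ∧
      T.aa i r = ((List.range T.rank).map fun j => T.co r j * T.aa i (T.smp j)).sum := by
  have h := hR
  simp only [Tab.chkRoots, Bool.and_eq_true] at h
  have h1 := allBelow_spec h.1 r hr
  simp only [Bool.and_eq_true] at h1
  have h2 := allBelow_spec h1.1.1.1.1.1.2 i hi
  have h3 := allBelow_spec h1.1.1.1.1.2 i hi
  simp only [Bool.and_eq_true, beq_iff_eq, blt_iff] at h2 h3
  exact ⟨h2.1.1.1.1, h2.1.1.1.2, h2.1.1.2, h3.1.1, Nat.eq_of_beq_eq_true h3.1.2, h3.2⟩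

include hR in
theorem pr_self {r : ℕ} (hr : r < T.nroots) : T.pr r r = 2 := by
  have h := hR
  simp only [Tab.chkRoots, Bool.and_eq_true] at h
  have h1 := allBelow_spec h.1 r hr
  simp only [Bool.and_eq_true] at h1
  exact beq_iff_eq.1 h1.1.1.1.1.1.1

include hR in
theorem omg_inj {r s : ℕ} (hr : r < T.nroots) (hs : s < T.nroots)
    (h : ∀ i < T.rank, T.co r i = T.co s i) : r = s := by
  have hm : ∀ d r, r + d + 1 < T.nroots → T.omg r < T.omg (r + d + 1) := by
    have step : ∀ r, r + 1 < T.nroots → T.omg r < T.omg (r + 1) := by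
      intro r hr
      have h := hR
      simp only [Tab.chkRoots, Bool.and_eq_true] at h
      have h1 := allBelow_spec h.1 r (by omega)
      simp only [Bool.and_eq_true] at h1
      have h2 := h1.1.2
      rw [blt_iff.2 hr] at h2
      exact of_decide_eq_true h2
    intro d
    induction d with
    | zero => exact step
    | succ d ih => intro r hr; exact lt_trans (ih r (by omega)) (step _ hr)
  have he : T.omg r = T.omg s := by
    refine congrArg List.sum (List.map_congr_left fun i hi => ?_)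
    rw [h i (List.mem_range.1 hi)]
  rcases Nat.lt_trichotomy r s with hlt | heq | hgt
  · have := hm (s - r - 1) r (by omega)
    rw [show r + (s - r - 1) + 1 = s by omega] at this
    omega
  · exact heq
  · have := hm (r - s - 1) s (by omega)
    rw [show s + (r - s - 1) + 1 = r by omega] at this
    omega

include hL in
theorem cc_eq_co {r : ℕ} (hr : r < T.nroots) (i : ℕ) : T.cc r i = T.co r i := by
  have h := hL
  simp only [Tab.chkLacedRoots, Bool.and_eq_true] at h
  rw [Tab.cc, Tab.co, Nat.eq_of_beq_eq_true (allBelow_spec h.1 r hr)]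

include hA hP hR in
theorem co_step {r s : ℕ} (hr : r < T.nroots) (hs : s < T.nroots) (h : T.ent r s ≠ 0) {i : ℕ}
    (hi : i < T.rank) : T.co (T.ent r s / 16) i = T.co r i + T.co s i := by
  obtain ⟨h1, -, -, -, -, -, -, -, -, h10⟩ :=
    ent_spec hA hP (nroots_eq hA ▸ hr) (nroots_eq hA ▸ hs) h
  rw [nroots_eq hA] at h1
  have hb : ∀ v < T.nroots, ∀ j ≤ i, slot (T.cos.get v) j < 32768 :=
    fun v hv j hj => (root_checks hR hv (by omega : j < T.rank)).2.2.2.1
  have ho : ∀ j ≤ i, slot T.off j = 32 :=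
    fun j hj => (root_checks hR hr (by omega : j < T.rank)).2.2.2.2.1
  have e1 := slot_add (hb _ h1) (fun j hj => by rw [ho j hj]; omega)
  have e2 := slot_add (hb r hr) (hb s hs)
  rw [h10, e2, ho i le_rfl] at e1
  simp only [Tab.co, Int.ofNat_eq_natCast]
  omega

include hR in
theorem aa_lin {x r s i : ℕ} (hx : x < T.nroots) (hr : r < T.nroots) (hs : s < T.nroots)
    (h : ∀ j < T.rank, T.co x j = T.co r j + T.co s j) (hi : i < T.rank) :
    T.aa i x = T.aa i r + T.aa i s := by
  rw [(root_checks hR hx hi).2.2.2.2.2, (root_checks hR hr hi).2.2.2.2.2,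
    (root_checks hR hs hi).2.2.2.2.2, ← List.sum_map_add]
  refine congrArg List.sum (List.map_congr_left fun j hj => ?_)
  rw [h j (List.mem_range.1 hj), add_mul]

include hR hL in
theorem pr_comm {r s : ℕ} (hr : r < T.nroots) (hs : s < T.nroots) : T.pr r s = T.pr s r := by
  have e : ∀ r s, r < T.nroots → s < T.nroots → T.pr r s = ∑ i ∈ Finset.range T.rank,
      ∑ j ∈ Finset.range T.rank, T.co r i * (T.co s j * T.aa i (T.smp j)) := by
    intro r s hr hs
    rw [Tab.pr, ← List.sum_toFinset _ List.nodup_range, List.toFinset_range]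
    refine Finset.sum_congr rfl fun i hi => ?_
    rw [(root_checks hR hs (Finset.mem_range.1 hi)).2.2.2.2.2, cc_eq_co hL hr,
      ← List.sum_toFinset _ List.nodup_range, List.toFinset_range, Finset.mul_sum]
  rw [e r s hr hs, e s r hs hr, Finset.sum_comm]
  refine Finset.sum_congr rfl fun i hi => Finset.sum_congr rfl fun j hj => ?_
  have h := hL
  simp only [Tab.chkLacedRoots, Bool.and_eq_true] at h
  have := allBelow_spec (allBelow_spec h.2 i (Finset.mem_range.1 hi)) j (Finset.mem_range.1 hj)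
  rw [beq_iff_eq] at this
  rw [this]; ring

include hR in
theorem pr_neg_left {r : ℕ} (hr : r < T.nroots) (s : ℕ) : T.pr (T.neg r) s = -T.pr r s := by
  rw [Tab.pr, Tab.pr, ← sum_map_neg]
  refine congrArg List.sum (List.map_congr_left fun i hi => ?_)
  simp [(root_checks hR hr (List.mem_range.1 hi)).1]

include hR in
theorem pr_neg_right {r : ℕ} (hr : r < T.nroots) (s : ℕ) : T.pr s (T.neg r) = -T.pr s r := by
  rw [Tab.pr, Tab.pr, ← sum_map_neg]
  refine congrArg List.sum (List.map_congr_left fun i hi => ?_)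
  simp [(root_checks hR hr (List.mem_range.1 hi)).2.1]

include hA hP hR in
theorem pr_step {r s x : ℕ} (hr : r < T.nroots) (hs : s < T.nroots) (h : T.ent r s ≠ 0) :
    T.pr x (T.ent r s / 16) = T.pr x r + T.pr x s := by
  have h1 := (ent_spec hA hP (nroots_eq hA ▸ hr) (nroots_eq hA ▸ hs) h).1
  rw [nroots_eq hA] at h1
  rw [Tab.pr, Tab.pr, Tab.pr, ← List.sum_map_add]
  refine congrArg List.sum (List.map_congr_left fun i hi => ?_)
  rw [List.mem_range] at hi
  rw [aa_lin hR h1 hr hs (fun j hj => co_step hA hP hR hr hs h hj) hi, mul_add]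

include hX in
theorem pair_zero {r s : ℕ} (hr : r < T.nroots) (hs : s < T.nroots) (h : T.ent r s = 0) :
    T.pr r s ≠ -1 ∧ -2 ≤ T.pr r s ∧ T.pr r s ≤ 2 ∧ (T.pr r s = -2 ↔ s = T.neg r) ∧
      (T.pr r s = 0 → X.ee r s = X.ee s r) := by
  have := hX r hr s hs
  simp only [Tab.lacedOK, beq_iff_eq.2 h, cond_true, Bool.and_eq_true, Bool.not_eq_true',
    beq_eq_false_iff_ne, decide_eq_true_eq, beq_iff_eq] at this
  obtain ⟨⟨⟨⟨h1, h2⟩, h3⟩, h4⟩, h5⟩ := this
  refine ⟨h1, h2, h3, ?_, fun h0 => by simpa [h0] using h5⟩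
  constructor
  · intro hp
    rw [beq_iff_eq.2 hp] at h4
    exact Nat.eq_of_beq_eq_true h4.symm
  · intro hn
    rw [show Nat.beq s (T.neg r) = true from by rw [hn]; exact Nat.beq_refl _] at h4
    exact beq_iff_eq.1 h4

include hX in
theorem pair_ne {r s : ℕ} (hr : r < T.nroots) (hs : s < T.nroots) (h : T.ent r s ≠ 0) :
    T.pr r s = -1 ∧
      T.nn r s = sgn (X.sg r ^^ X.sg s ^^ X.sg (T.ent r s / 16) ^^ X.ee r s) ∧
      slot X.bs (T.ent r s / 16) = slot X.bs r ^^^ slot X.bs s ∧
      slot X.ms (T.ent r s / 16) = slot X.ms r ^^^ slot X.ms s ∧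
      T.tg (T.neg r) (T.ent r s / 16) = some s ∧
      T.nn r s * T.nn (T.neg r) (T.ent r s / 16) = 1 ∧
      T.nn s (T.neg (T.ent r s / 16)) = T.nn r s := by
  have := hX r hr s hs
  simp only [Tab.lacedOK, beq_eq_false_iff_ne.2 h, cond_false, Bool.and_eq_true,
    beq_iff_eq] at this
  obtain ⟨⟨⟨⟨⟨⟨h1, h2⟩, h3⟩, h4⟩, h5⟩, h6⟩, h7⟩ := this
  exact ⟨h1, h2, Nat.eq_of_beq_eq_true h3, Nat.eq_of_beq_eq_true h4, h5, h6, h7⟩

include hX in
theorem ent_of_pr {r s : ℕ} (hr : r < T.nroots) (hs : s < T.nroots) (h : T.pr r s = -1) :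
    T.ent r s ≠ 0 := fun h0 => (pair_zero hX hr hs h0).1 h

include hX in
theorem ent_of_pr_ne {r s : ℕ} (hr : r < T.nroots) (hs : s < T.nroots) (h : T.pr r s ≠ -1) :
    T.ent r s = 0 := by
  by_contra h0; exact h (pair_ne hX hr hs h0).1

include hX in
theorem pr_range {r s : ℕ} (hr : r < T.nroots) (hs : s < T.nroots) :
    -2 ≤ T.pr r s ∧ T.pr r s ≤ 2 := by
  by_cases h : T.ent r s = 0
  · exact ⟨(pair_zero hX hr hs h).2.1, (pair_zero hX hr hs h).2.2.1⟩
  · rw [(pair_ne hX hr hs h).1]; omega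

include hA hP hX in
theorem eq_neg_iff {r s : ℕ} (hr : r < T.nroots) (hs : s < T.nroots) :
    s = T.neg r ↔ T.pr r s = -2 := by
  by_cases h : T.ent r s = 0
  · exact (pair_zero hX hr hs h).2.2.2.1.symm
  · rw [(pair_ne hX hr hs h).1]
    exact ⟨fun e => absurd e
      (ent_spec hA hP (nroots_eq hA ▸ hr) (nroots_eq hA ▸ hs) h).2.2.2.2.2.1, fun e => by omega⟩

theorem br_ii {i j : ℕ} (hi : i < T.rank) (hj : j < T.rank) : T.br i j = [] := by
  simp [Tab.br, blt_iff.2 hi, blt_iff.2 hj]

theorem br_ir {i s : ℕ} (hi : i < T.rank) :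
    T.br i (T.rank + s) = [(T.rank + s, T.aa i s)] := by
  simp [Tab.br, blt_iff.2 hi,
    show Nat.blt (T.rank + s) T.rank = false from Bool.eq_false_iff.2 (mt blt_iff.1 (by omega))]

theorem br_ri {i r : ℕ} (hi : i < T.rank) :
    T.br (T.rank + r) i = [(T.rank + r, -T.aa i r)] := by
  simp [Tab.br, blt_iff.2 hi,
    show Nat.blt (T.rank + r) T.rank = false from Bool.eq_false_iff.2 (mt blt_iff.1 (by omega))]

theorem br_rr (r s : ℕ) :
    T.br (T.rank + r) (T.rank + s) = if s = T.neg r then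
        (List.range T.rank).map (fun i => (i, T.cc r i))
      else if T.ent r s = 0 then [] else [(T.rank + T.ent r s / 16, T.nn r s)] := by
  simp only [Tab.br,
    show Nat.blt (T.rank + r) T.rank = false from Bool.eq_false_iff.2 (mt blt_iff.1 (by omega)),
    show Nat.blt (T.rank + s) T.rank = false from Bool.eq_false_iff.2 (mt blt_iff.1 (by omega)),
    cond_false, Nat.add_sub_cancel_left]
  by_cases h : s = T.neg r
  · simp [h]
  · rw [Bool.eq_false_iff.2 (mt Nat.eq_of_beq_eq_true h), cond_false, if_neg h]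
    by_cases h0 : T.ent r s = 0
    · simp [h0]
    · simp [h0, beq_eq_false_iff_ne.2 h0]

/-- The double bracket of three roots. -/
def dbl (T : Tab) (a b c u : ℕ) : ℤ :=
  sumAt (push (T.br (T.rank + a)) (T.br (T.rank + b) (T.rank + c))) u

include hA hP hR hX in
theorem br_antisym {c : ℕ} (hc : c < T.nroots) {x : ℕ} (hx : x < T.rank + T.nroots) (u : ℕ) :
    sumAt (T.br x (T.rank + c)) u = -sumAt (T.br (T.rank + c) x) u := by
  by_cases hi : x < T.rank
  · rw [br_ir hi, br_ri hi, sumAt_single, sumAt_single]; split_ifs <;> simp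
  obtain ⟨k, rfl⟩ : ∃ k, x = T.rank + k := ⟨x - T.rank, by omega⟩
  have hk : k < T.nroots := by omega
  rw [br_rr, br_rr]
  by_cases h : c = T.neg k
  · rw [if_pos h, if_pos (show k = T.neg c by rw [h, neg_neg' hk]), sumAt_range, sumAt_range]
    split_ifs with hu
    · rw [h, (root_checks hR hk hu).1]; ring
    · rfl
  · rw [if_neg h, if_neg (show k ≠ T.neg c from fun e => h (by rw [e, neg_neg' hc]))]
    have hs := pair_ok hA hP (r := k) (s := c) (nroots_eq hA ▸ hk) (nroots_eq hA ▸ hc)
    by_cases h0 : T.ent k c = 0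
    · rw [if_pos h0, if_pos]
      · rfl
      · simp only [Tab.pairOK, beq_iff_eq.2 h0, cond_true] at hs
        exact Nat.eq_of_beq_eq_true hs
    · obtain ⟨-, -, -, -, -, -, ht, hn, -⟩ :=
        ent_spec hA hP (nroots_eq hA ▸ hk) (nroots_eq hA ▸ hc) h0
      have h1 : T.ent c k ≠ 0 := by
        intro e
        rw [tg_of_eq e, tg_of_ne h0] at ht
        cases ht
      rw [tg_of_ne h1, tg_of_ne h0, Option.some.injEq] at ht
      rw [if_neg h0, if_neg h1, sumAt_single, sumAt_single, ht, hn]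
      split_ifs <;> simp

include hA hP in
theorem br_bounded {a b : ℕ} (ha : a < T.rank + T.nroots) (hb : b < T.rank + T.nroots) :
    ∀ p ∈ T.br a b, p.1 < T.rank + T.nroots := by
  rw [← rank_eq hA, ← nroots_eq hA] at ha hb ⊢
  exact bounded_br hA hP ha hb

include hA hP hR hX in
theorem dbl_swap {a b c : ℕ} (ha : a < T.nroots) (hb : b < T.nroots) (hc : c < T.nroots)
    (u : ℕ) : dbl T a b c u = -dbl T a c b u := by
  have key : ∀ v, sumAt (T.br (T.rank + b) (T.rank + c)) v =
      -sumAt (T.br (T.rank + c) (T.rank + b)) v := fun v =>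
    br_antisym hA hP hR hX hc (by omega) v
  rw [dbl, dbl]
  have hl := rank_eq hA
  have hn := nroots_eq hA
  have hb1 := bounded_br hA hP (a := T.rank + b) (b := T.rank + c) (by omega) (by omega)
  have hb2 := bounded_br hA hP (a := T.rank + c) (b := T.rank + b) (by omega) (by omega)
  rw [← sum_vec_mul_push hb1, ← sum_vec_mul_push hb2, ← Finset.sum_neg_distrib]
  exact Finset.sum_congr rfl fun x _ => by rw [vec, vec, key]; ring

include hA hP hR hX in
theorem dbl_left {a b c : ℕ} (ha : a < T.nroots) (hb : b < T.nroots) (hc : c < T.nroots)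
    (u : ℕ) :
    sumAt (push (fun x => T.br x (T.rank + c)) (T.br (T.rank + a) (T.rank + b))) u =
      -dbl T c a b u := by
  rw [dbl, sumAt_push, sumAt_push, ← sum_map_neg]
  refine congrArg List.sum (List.map_congr_left fun p hp => ?_)
  rw [br_antisym hA hP hR hX hc (br_bounded hA hP (by omega) (by omega) p hp)]
  ring

include hA hP hX in
theorem dbl_antipode {a b : ℕ} (ha : a < T.nroots) (hb : b < T.nroots) (u : ℕ) :
    dbl T a b (T.neg b) u = if T.rank + a = u then -T.pr b a else 0 := by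
  rw [dbl, sumAt_push, br_rr, if_pos rfl, List.map_map]
  have : ((fun p : ℕ × ℤ => p.2 * sumAt (T.br (T.rank + a) p.1) u) ∘
      fun i => (i, T.cc b i)) = fun i => T.cc b i * sumAt (T.br (T.rank + a) i) u := rfl
  rw [this]
  have e : (List.range T.rank).map (fun i => T.cc b i * sumAt (T.br (T.rank + a) i) u) =
      (List.range T.rank).map fun i => if T.rank + a = u then -(T.cc b i * T.aa i a) else 0 :=
    List.map_congr_left fun i hi => by
      rw [br_ri (List.mem_range.1 hi), sumAt_single]; split_ifs <;> ring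
  rw [e]
  split_ifs with h
  · rw [Tab.pr, ← sum_map_neg]
  · simp

include hA hP hX in
theorem dbl_zero {a b c : ℕ} (hb : b < T.nroots) (hc : c < T.nroots)
    (h1 : T.pr b c ≠ -1) (h2 : T.pr b c ≠ -2) (u : ℕ) : dbl T a b c u = 0 := by
  rw [dbl, br_rr, if_neg (fun e => h2 ((eq_neg_iff hA hP hX hb hc).1 e)),
    if_pos (ent_of_pr_ne hX hb hc h1)]
  rfl

include hA hP hX in
theorem dbl_root {a b c : ℕ} (hb : b < T.nroots) (hc : c < T.nroots)
    (h1 : T.pr b c = -1) (u : ℕ) :
    dbl T a b c u =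
      T.nn b c * sumAt (T.br (T.rank + a) (T.rank + T.ent b c / 16)) u := by
  rw [dbl, br_rr, if_neg (fun e => by have := (eq_neg_iff hA hP hX hb hc).1 e; omega),
    if_neg (ent_of_pr hX hb hc h1), sumAt_push]
  simp

include hA hP hR hL hX in
theorem jac_antipode {a b : ℕ} (ha : a < T.nroots) (hb : b < T.nroots) (u : ℕ) :
    dbl T a b (T.neg b) u + dbl T b (T.neg b) a u + dbl T (T.neg b) a b u = 0 := by
  set c := T.neg b with hc'
  have hc : c < T.nroots := neg_lt' hb
  have hlt : ∀ {r s}, r < T.nroots → s < T.nroots → T.ent r s ≠ 0 → T.ent r s / 16 < T.nroots :=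
    fun hr hs h => nroots_eq hA ▸
      (ent_spec hA hP (nroots_eq hA ▸ hr) (nroots_eq hA ▸ hs) h).1
  have e1 : dbl T a b c u = if T.rank + a = u then -T.pr b a else 0 :=
    dbl_antipode hA hP hX ha hb u
  have hca : T.pr c a = -T.pr b a := pr_neg_left hR hb a
  have hab : T.pr a b = T.pr b a := pr_comm hR hL ha hb
  have hbb : T.pr b b = 2 := pr_self hR hb
  have hbc : T.pr b c = -2 := by rw [pr_neg_right hR hb, hbb]
  obtain ⟨hlo, hhi⟩ := pr_range hX hb ha
  rcases (by omega : T.pr b a = -2 ∨ T.pr b a = -1 ∨ T.pr b a = 0 ∨ T.pr b a = 1 ∨ T.pr b a = 2)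
    with hp | hp | hp | hp | hp
  · -- `a = -b`
    have hac : a = c := (eq_neg_iff hA hP hX hb ha).2 hp
    have e2 : dbl T b c a u = 0 := dbl_zero hA hP hX hc ha (by omega) (by omega) u
    have e3 := dbl_antipode hA hP hX hc ha u
    rw [show T.neg a = b by rw [hac, hc', neg_neg' hb]] at e3
    rw [e1, e2, e3, hac, pr_self hR hc, ← hac, hp]
    split_ifs <;> simp
  · -- inner product `-1`
    have h0 := ent_of_pr hX ha hb (by omega)
    have h1 := ent_of_pr hX hb ha hp
    obtain ⟨-, -, -, -, -, -, ht, hn, -⟩ :=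
      ent_spec hA hP (nroots_eq hA ▸ hb) (nroots_eq hA ▸ ha) h1
    rw [tg_of_ne h0, tg_of_ne h1, Option.some.injEq] at ht
    have hk := hlt hb ha h1
    obtain ⟨-, -, -, -, h5, h6, -⟩ := pair_ne hX hb ha h1
    have hck : T.pr c (T.ent b a / 16) = -1 := by
      rw [pr_step hA hP hR hb ha h1, hca, pr_neg_left hR hb, hbb]; omega
    have h7 := ent_of_pr hX hc hk hck
    rw [tg_of_ne h7, Option.some.injEq] at h5
    have e2 : dbl T b c a u = 0 := dbl_zero hA hP hX hc ha (by omega) (by omega) u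
    have e3 : dbl T c a b u = if T.rank + a = u then -1 else 0 := by
      rw [dbl_root hA hP hX ha hb (by omega), ht, br_rr,
        if_neg (fun e => by have := (eq_neg_iff hA hP hX hc hk).1 e; omega), if_neg h7,
        sumAt_single, h5, hn]
      split_ifs
      · linear_combination -h6
      · ring
    rw [e1, e2, e3, hp]
    split_ifs <;> simp
  · rw [e1, dbl_zero hA hP hX hc ha (by omega) (by omega),
      dbl_zero hA hP hX ha hb (by omega) (by omega), hp]
    simp
  · -- inner product `1`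
    have h1 := ent_of_pr hX hc ha (by omega)
    have hk := hlt hc ha h1
    obtain ⟨-, -, -, -, h5, h6, -⟩ := pair_ne hX hc ha h1
    rw [show T.neg c = b from neg_neg' hb] at h5 h6
    have hbk : T.pr b (T.ent c a / 16) = -1 := by
      rw [pr_step hA hP hR hc ha h1, hbc, hp]; rfl
    have h7 := ent_of_pr hX hb hk hbk
    rw [tg_of_ne h7, Option.some.injEq] at h5
    have e2 : dbl T b c a u = if T.rank + a = u then 1 else 0 := by
      rw [dbl_root hA hP hX hc ha (by omega), br_rr,
        if_neg (fun e => by have := (eq_neg_iff hA hP hX hb hk).1 e; omega), if_neg h7,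
        sumAt_single, h5]
      split_ifs
      · exact h6
      · ring
    rw [e1, e2, dbl_zero hA hP hX ha hb (by omega) (by omega), hp]
    split_ifs <;> simp
  · -- `a = b`
    have hac : a = b := by
      have := (eq_neg_iff hA hP hX hc ha).2 (by omega)
      rw [this, hc', neg_neg' hb]
    have e3 : dbl T c a b u = 0 := dbl_zero hA hP hX ha hb (by omega) (by omega) u
    have e2 := dbl_antipode hA hP hX hb hc u
    rw [show T.neg c = a by rw [hc', neg_neg' hb, hac]] at e2
    rw [e1, e2, e3, pr_neg_left hR hb, hbb, hp, hac]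
    split_ifs <;> simp

include hA hP hR hL hX in
theorem jac_orth {a b c : ℕ} (ha : a < T.nroots) (hb : b < T.nroots) (hc : c < T.nroots)
    (hp : T.pr a b = 0) (hq : T.pr a c = -1) (hw : T.pr b c = -1) (u : ℕ) :
    dbl T a b c u + dbl T b c a u + dbl T c a b u = 0 := by
  have hn' := nroots_eq hA
  have h1 := ent_of_pr hX hb hc hw
  have h2' := ent_of_pr hX ha hc hq
  have hca : T.pr c a = -1 := by rw [pr_comm hR hL hc ha]; exact hq
  have h2 := ent_of_pr hX hc ha hca
  have hk : T.ent b c / 16 < T.nroots := hn' ▸ (ent_spec hA hP (hn' ▸ hb) (hn' ▸ hc) h1).1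
  have hk' : T.ent c a / 16 < T.nroots := hn' ▸ (ent_spec hA hP (hn' ▸ hc) (hn' ▸ ha) h2).1
  have h3 := ent_of_pr hX ha hk (by rw [pr_step hA hP hR hb hc h1, hp, hq]; rfl)
  have hba : T.pr b a = 0 := by rw [pr_comm hR hL hb ha]; exact hp
  have h4 := ent_of_pr hX hb hk' (by rw [pr_step hA hP hR hc ha h2, hw, hba]; rfl)
  have hm : T.ent a (T.ent b c / 16) / 16 < T.nroots :=
    hn' ▸ (ent_spec hA hP (hn' ▸ ha) (hn' ▸ hk) h3).1
  have hm' : T.ent b (T.ent c a / 16) / 16 < T.nroots :=
    hn' ▸ (ent_spec hA hP (hn' ▸ hb) (hn' ▸ hk') h4).1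
  have hmm : T.ent a (T.ent b c / 16) / 16 = T.ent b (T.ent c a / 16) / 16 := by
    apply omg_inj hR hm hm'
    intro i hi
    rw [co_step hA hP hR ha hk h3 hi, co_step hA hP hR hb hc h1 hi,
      co_step hA hP hR hb hk' h4 hi, co_step hA hP hR hc ha h2 hi]
    ring
  rw [dbl_root hA hP hX hb hc hw, dbl_root hA hP hX hc ha hca,
    dbl_zero hA hP hX ha hb (by omega) (by omega), br_rr, br_rr,
    if_neg (show T.ent b c / 16 ≠ T.neg a from ?_), if_neg h3,
    if_neg (show T.ent c a / 16 ≠ T.neg b from ?_), if_neg h4]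
  rotate_left
  · intro e
    have := (eq_neg_iff hA hP hX hb hk').1 e
    have := (pair_ne hX hb hk' h4).1
    omega
  · intro e
    have := (eq_neg_iff hA hP hX ha hk).1 e
    have := (pair_ne hX ha hk h3).1
    omega
  rw [sumAt_single, sumAt_single, hmm]
  obtain ⟨-, hN1, hb1, -, -⟩ := pair_ne hX hb hc h1
  obtain ⟨-, hN2, hb2, -, -⟩ := pair_ne hX hc ha h2
  obtain ⟨-, hN3, -⟩ := pair_ne hX ha hk h3
  obtain ⟨-, hN4, -⟩ := pair_ne hX hb hk' h4
  obtain ⟨-, hN5, -⟩ := pair_ne hX ha hc h2'
  obtain ⟨-, -, -, -, -, -, ht, hsym, -⟩ := ent_spec hA hP (hn' ▸ hc) (hn' ▸ ha) h2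
  rw [tg_of_ne h2, tg_of_ne h2', Option.some.injEq] at ht
  have hee : X.ee a c = !X.ee c a := by
    rw [hN5, hN2, ht] at hsym
    revert hsym
    cases X.sg a <;> cases X.sg c <;> cases X.sg (T.ent c a / 16) <;> cases X.ee a c <;>
      cases X.ee c a <;> decide
  have hab : X.ee a b = X.ee b a := (pair_zero hX ha hb (ent_of_pr_ne hX ha hb (by omega))).2.2.2.2 hp
  have e1 : X.ee a (T.ent b c / 16) = (X.ee a b ^^ X.ee a c) := by
    rw [Aux.ee, hb1, Nat.and_xor_distrib_left, parB_xor]; rfl
  have e2 : X.ee b (T.ent c a / 16) = (X.ee b c ^^ X.ee b a) := by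
    rw [Aux.ee, hb2, Nat.and_xor_distrib_left, parB_xor]; rfl
  rw [hN1, hN2, hN3, hN4, e1, e2, hee, hab, hmm]
  split_ifs
  · rw [sgn_mul, sgn_mul]
    generalize X.sg a = x1, X.sg b = x2, X.sg c = x3, X.sg (T.ent b c / 16) = x4,
      X.sg (T.ent c a / 16) = x5, X.sg (T.ent b (T.ent c a / 16) / 16) = x6,
      X.ee b c = x7, X.ee c a = x8, X.ee b a = x9
    revert x1 x2 x3 x4 x5 x6 x7 x8 x9
    decide
  · ring

include hA hP hR hL hX in
theorem jac_zero_sum {a b c : ℕ} (ha : a < T.nroots) (hb : b < T.nroots) (hc : c < T.nroots)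
    (hp : T.pr a b = -1) (hq : T.pr a c = -1) (hw : T.pr b c = -1) (u : ℕ) :
    dbl T a b c u + dbl T b c a u + dbl T c a b u = 0 := by
  have hn' := nroots_eq hA
  have h1 := ent_of_pr hX hb hc hw
  have hca : T.pr c a = -1 := by rw [pr_comm hR hL hc ha]; exact hq
  have hba : T.pr b a = -1 := by rw [pr_comm hR hL hb ha]; exact hp
  have hcb : T.pr c b = -1 := by rw [pr_comm hR hL hc hb]; exact hw
  have h2 := ent_of_pr hX hc ha hca
  have h3 := ent_of_pr hX ha hb hp
  have hlt : ∀ {r s}, r < T.nroots → s < T.nroots → T.ent r s ≠ 0 → T.ent r s / 16 < T.nroots :=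
    fun hr hs h => hn' ▸ (ent_spec hA hP (hn' ▸ hr) (hn' ▸ hs) h).1
  have k1 : T.ent b c / 16 = T.neg a :=
    (eq_neg_iff hA hP hX ha (hlt hb hc h1)).2 (by rw [pr_step hA hP hR hb hc h1, hp, hq]; rfl)
  have k2 : T.ent c a / 16 = T.neg b :=
    (eq_neg_iff hA hP hX hb (hlt hc ha h2)).2 (by rw [pr_step hA hP hR hc ha h2, hw, hba]; rfl)
  have k3 : T.ent a b / 16 = T.neg c :=
    (eq_neg_iff hA hP hX hc (hlt ha hb h3)).2 (by rw [pr_step hA hP hR ha hb h3, hca, hcb]; rfl)
  have n1 : T.nn c a = T.nn b c := by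
    have := (pair_ne hX hb hc h1).2.2.2.2.2.2
    rwa [k1, neg_neg' ha] at this
  have n2 : T.nn a b = T.nn c a := by
    have := (pair_ne hX hc ha h2).2.2.2.2.2.2
    rwa [k2, neg_neg' hb] at this
  rw [dbl_root hA hP hX hb hc hw, dbl_root hA hP hX hc ha hca, dbl_root hA hP hX ha hb hp,
    k1, k2, k3, br_rr, br_rr, br_rr, if_pos rfl, if_pos rfl, if_pos rfl, sumAt_range,
    sumAt_range, sumAt_range, n2, n1, ← mul_add, ← mul_add]
  split_ifs with hu
  · have e := co_step hA hP hR hb hc h1 hu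
    rw [k1, (root_checks hR ha hu).2.2.1] at e
    rw [cc_eq_co hL ha, cc_eq_co hL hb, cc_eq_co hL hc,
      show T.co a u + T.co b u + T.co c u = 0 by omega, mul_zero]
  · simp

include hA hP hR hL hX in
theorem jacobi {a b c : ℕ} (ha : a < T.nroots) (hb : b < T.nroots) (hc : c < T.nroots) (u : ℕ) :
    dbl T a b c u + dbl T b c a u + dbl T c a b u = 0 := by
  have anti : ∀ {a b c}, a < T.nroots → b < T.nroots → c < T.nroots → T.pr b c = -2 →
      dbl T a b c u + dbl T b c a u + dbl T c a b u = 0 := by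
    intro a b c ha hb hc h
    rw [(eq_neg_iff hA hP hX hb hc).2 h]
    exact jac_antipode hA hP hR hL hX ha hb u
  by_cases w2 : T.pr b c = -2
  · exact anti ha hb hc w2
  by_cases q2 : T.pr c a = -2
  · rw [← anti hb hc ha q2]; ring
  by_cases p2 : T.pr a b = -2
  · rw [← anti hc ha hb p2]; ring
  have step : ∀ {a b c}, a < T.nroots → b < T.nroots → c < T.nroots → T.pr a b ≠ -2 →
      T.pr b c ≠ -2 → T.pr c a ≠ -2 →
      dbl T a b c u = 0 ∨ dbl T a b c u + dbl T b c a u + dbl T c a b u = 0 := by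
    intro a b c ha hb hc hp hw hq
    by_cases h1 : T.pr b c = -1
    swap
    · exact Or.inl (dbl_zero hA hP hX hb hc h1 hw u)
    have h0 := ent_of_pr hX hb hc h1
    have hk : T.ent b c / 16 < T.nroots :=
      nroots_eq hA ▸ (ent_spec hA hP (nroots_eq hA ▸ hb) (nroots_eq hA ▸ hc) h0).1
    have hs := pr_step hA hP hR (x := a) hb hc h0
    have hac := pr_comm hR hL ha hc
    by_cases h2 : T.pr a b + T.pr a c = -1 ∨ T.pr a b + T.pr a c = -2
    swap
    · left
      rw [dbl_root hA hP hX hb hc h1, br_rr,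
        if_neg (fun e => by have := (eq_neg_iff hA hP hX ha hk).1 e; omega),
        if_pos (ent_of_pr_ne hX ha hk (by omega))]
      simp [sumAt_nil]
    right
    have := pr_range hX ha hb
    have := pr_range hX ha hc
    rcases h2 with h2 | h2
    · rcases (by omega : (T.pr a b = 0 ∧ T.pr a c = -1) ∨ (T.pr a b = -1 ∧ T.pr a c = 0))
        with ⟨h3, h4⟩ | ⟨h3, h4⟩
      · exact jac_orth hA hP hR hL hX ha hb hc h3 h4 h1 u
      · have := jac_orth hA hP hR hL hX hc ha hb (by omega)
          (by rw [pr_comm hR hL hc hb]; exact h1) h3 u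
        rw [← this]; ring
    · exact jac_zero_sum hA hP hR hL hX ha hb hc (by omega) (by omega) h1 u
  rcases step ha hb hc p2 w2 q2 with h1 | h1
  swap
  · exact h1
  rcases step hb hc ha w2 q2 p2 with h2 | h2
  swap
  · rw [← h2]; ring
  rcases step hc ha hb q2 p2 w2 with h3 | h3
  swap
  · rw [← h3]; ring
  rw [h1, h2, h3]; rfl

include hA hP hR hX in
theorem push_coroot_br {a s i : ℕ} (ha : a < T.nroots) (hs : s < T.nroots) (hi : i < T.rank)
    (u : ℕ) : sumAt (push (T.br i) (T.br (T.rank + a) (T.rank + s))) u =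
      (T.aa i a + T.aa i s) * sumAt (T.br (T.rank + a) (T.rank + s)) u := by
  rw [br_rr]
  by_cases h : s = T.neg a
  · rw [if_pos h, sumAt_push, List.map_map]
    have : (List.range T.rank).map ((fun p : ℕ × ℤ => p.2 * sumAt (T.br i p.1) u) ∘
        fun j => (j, T.cc a j)) = (List.range T.rank).map fun _ => 0 :=
      List.map_congr_left fun j hj => by
        simp [br_ii hi (List.mem_range.1 hj), sumAt_nil]
    rw [this, h, (root_checks hR ha hi).2.1]
    simp
  · rw [if_neg h]
    by_cases h0 : T.ent a s = 0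
    · simp [h0, push, sumAt_nil]
    · have hk : T.ent a s / 16 < T.nroots :=
        nroots_eq hA ▸ (ent_spec hA hP (nroots_eq hA ▸ ha) (nroots_eq hA ▸ hs) h0).1
      rw [if_neg h0, sumAt_push,
        ← aa_lin hR hk ha hs (fun j hj => co_step hA hP hR ha hs h0 hj) hi]
      simp [br_ir hi, sumAt_single]
      split_ifs <;> ring

include hA hP hR hL hX in
theorem derivZeroAt_laced {a : ℕ} (ha : a < T.nroots) : T.DerivZeroAt a := by
  intro b hb c hc u
  rw [Tab.triList, sumAt_append, sumAt_append, sumAt_scale, sumAt_scale]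
  have single : ∀ (f : ℕ → List (ℕ × ℤ)) v m, sumAt (push f [(v, m)]) u = m * sumAt (f v) u :=
    fun f v m => by simp [sumAt_push]
  by_cases hbi : b < T.rank <;> by_cases hci : c < T.rank
  · rw [br_ii hbi hci, br_ri hci, br_ri hbi, single, single, br_ir hbi, br_ri hci, sumAt_single,
      sumAt_single]
    simp only [push, List.flatMap_nil, sumAt_nil]
    split_ifs <;> ring
  · obtain ⟨s, rfl⟩ : ∃ s, c = T.rank + s := ⟨c - T.rank, by omega⟩
    have hs : s < T.nroots := by omega
    rw [br_ir hbi, br_ri hbi, single, single, push_coroot_br hA hP hR hX ha hs hbi]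
    ring
  · obtain ⟨r, rfl⟩ : ∃ r, b = T.rank + r := ⟨b - T.rank, by omega⟩
    have hr : r < T.nroots := by omega
    rw [br_ri hci, br_ri hci, single, single,
      br_antisym hA hP hR hX ha (x := T.rank + r) (by omega)]
    have e : sumAt (push (fun x => T.br x c) (T.br (T.rank + a) (T.rank + r))) u =
        -sumAt (push (T.br c) (T.br (T.rank + a) (T.rank + r))) u := by
      rw [sumAt_push, sumAt_push, ← sum_map_neg]
      refine congrArg List.sum (List.map_congr_left fun p hp => ?_)
      by_cases hp1 : p.1 < T.rank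
      · rw [br_ii hp1 hci, br_ii hci hp1]; simp [sumAt_nil]
      · obtain ⟨k, hk⟩ : ∃ k, p.1 = T.rank + k := ⟨p.1 - T.rank, by omega⟩
        rw [hk, br_ir hci, br_ri hci, sumAt_single, sumAt_single]
        split_ifs <;> ring
    rw [e, push_coroot_br hA hP hR hX ha hr hci]
    ring
  · obtain ⟨r, rfl⟩ : ∃ r, b = T.rank + r := ⟨b - T.rank, by omega⟩
    obtain ⟨s, rfl⟩ : ∃ s, c = T.rank + s := ⟨c - T.rank, by omega⟩
    have hr : r < T.nroots := by omega
    have hs : s < T.nroots := by omega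
    have e2 : sumAt (push (T.br (T.rank + r)) (T.br (T.rank + a) (T.rank + s))) u =
        -dbl T r s a u := dbl_swap hA hP hR hX hr ha hs u
    rw [e2, dbl_left hA hP hR hX ha hr hs]
    have := jacobi hA hP hR hL hX ha hr hs u
    rw [dbl] at this
    linear_combination this

include hA hP hR hL hX in
theorem derivZero_laced : T.DerivZero := by
  intro i hi
  have h := (simple_bounds hA (rank_eq hA ▸ hi)).2
  rw [simple_eq hA (rank_eq hA ▸ hi), nroots_eq hA] at h
  exact ⟨derivZeroAt_laced hA hP hR hL hX h, derivZeroAt_laced hA hP hR hL hX (neg_lt' h)⟩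

end Jacobi

end CfsgLib.Chev.Table
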